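import Groth.Prelude.Def_DualSh
import Groth.Agent.DualBCLib.Catenary
import Groth.Agent.FinDualLib.Finite
import Groth.Agent.DualCxLib.LocDualGor

/-!
# The algebraic upper shriek: dualizing complexes, boundedness, finiteness
-/

set_option autoImplicit false
set_option linter.all false
set_option maxHeartbeats 1000000

universe u

open CategoryTheory CategoryTheory.Limits
open Groth.Agent DTen
open DTenLib.Point (hH sg)
open scoped TensorProduct

attribute [local instance] HasDerivedCategory.standard

noncomputable section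

namespace ShriekRingLib

open Groth.Agent.DualCxLib

theorem gorenstein_fibre_mvPolynomial {R : Type u} [CommRing R] (n : ℕ) (p : Ideal R) [p.IsPrime] :
    LocCoh.IsGorensteinRing (MvPolynomial (Fin n) R ⊗[R] p.ResidueField) :=
  GorLib.gorensteinRing_of_ringEquiv
    ((Algebra.TensorProduct.comm R _ p.ResidueField).toRingEquiv.trans
      (MvPolynomial.algebraTensorAlgEquiv R p.ResidueField).toRingEquiv)
    (GorLib.gorensteinRing_mvPolynomial GorLib.gorensteinRing_of_field n)

theorem isDualizing_base {R : Type u} [CommRing R] [IsNoetherianRing R] (n : ℕ)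
    [DRing.HasLBaseChange (algebraMap R (MvPolynomial (Fin n) R))] {ω : Dual.D R} (hω : Dual.IsDualizing R ω) :
    Dual.IsDualizing (MvPolynomial (Fin n) R)
      ((DRing.LBaseChange (algebraMap R (MvPolynomial (Fin n) R))).obj ω) :=
  DualBCLib.isDualizing_of_fibreRings hω
    (DualBCLib.dim_finiteType_lt_top (A := R) (Groth.Agent.DualCxLib.ringKrullDim_lt_top hω))
    fun p _ => gorenstein_fibre_mvPolynomial n p

variable {R A : Type u} [CommRing R] [CommRing A] [IsNoetherianRing R] [IsNoetherianRing A] [Algebra R A]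
variable (n : ℕ) (ψ : MvPolynomial (Fin n) R →ₐ[R] A) (hψ : Function.Surjective ψ)
variable [DRing.HasLBaseChange (algebraMap R (MvPolynomial (Fin n) R))]
variable {Rψ : Dual.D (MvPolynomial (Fin n) R) ⥤ Dual.D A} (adj : DRing.restrictD ψ.toRingHom ⊣ Rψ)

include hψ adj in
theorem isDualizing_shriekVia {ω : Dual.D R} (hω : Dual.IsDualizing R ω) :
    Dual.IsDualizing A (Dual2.shriekVia n Rψ ω) := by
  letI : Algebra (MvPolynomial (Fin n) R) A := ψ.toRingHom.toAlgebra
  haveI : Module.Finite (MvPolynomial (Fin n) R) A :=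
    Module.Finite.of_surjective (Algebra.linearMap (MvPolynomial (Fin n) R) A) hψ
  exact isDualizing_shift (FinDualLib.isDualizing_of_coUniv (isDualizing_base n hω)
    (FinDualLib.isCoUniv_of_adjunction (algebraMap (MvPolynomial (Fin n) R) A) adj _)) n

theorem isGE_of_coUniv {B S : Type u} [CommRing B] [CommRing S] [Algebra B S] {ω : Dual.D B} {Z : Dual.D S}
    {ε : (DRing.restrictD (algebraMap B S)).obj Z ⟶ ω} (hε : FinDualLib.IsCoUniv (algebraMap B S) ε)
    {a : ℤ} (ha : ω.IsGE a) : Z.IsGE a := by
  refine (DerivedCategory.isGE_iff Z a).2 fun i hi => isZero_of_ext_ring i ?_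
  refine FinDualLib.subsingleton_ext_of hε (S ⧸ (⊥ : Ideal S)) i ⟨fun f g => ?_⟩
  haveI := ha
  haveI : (ω⟦i⟧).IsGE (a - i) := (DerivedCategory.TStructure.t.isGE_shift ω a i (a - i) (by omega))
  haveI : ((DerivedCategory.singleFunctor (ModuleCat.{u} B) 0).obj (ModuleCat.of B (S ⧸ (⊥ : Ideal S)))).IsLE 0 :=
    inferInstance
  exact (DerivedCategory.TStructure.t.zero_of_isLE_of_isGE f 0 (a - i) (by omega) inferInstance inferInstance).trans
    (DerivedCategory.TStructure.t.zero_of_isLE_of_isGE g 0 (a - i) (by omega) inferInstance inferInstance).symm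

omit [IsNoetherianRing A] in
include hψ adj in
theorem bounded_and_finite {K : Dual.D R} {a : ℤ} (hK : K.IsGE a) :
    (Dual2.shriekVia n Rψ K).IsGE (a - n) ∧ ((∀ i, Module.Finite R (Dual.HD R K i)) →
      ∀ i, Module.Finite A (Dual.HD A (Dual2.shriekVia n Rψ K) i)) := by
  letI : Algebra (MvPolynomial (Fin n) R) A := ψ.toRingHom.toAlgebra
  haveI : Module.Finite (MvPolynomial (Fin n) R) A :=
    Module.Finite.of_surjective (Algebra.linearMap (MvPolynomial (Fin n) R) A) hψ
  obtain ⟨η, hη⟩ := DualBCLib.exists_bc_base (S := MvPolynomial (Fin n) R) K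
  have hge := (FlatExtLib.exists_isGE hη hK).2
  have hε := FinDualLib.isCoUniv_of_adjunction (algebraMap (MvPolynomial (Fin n) R) A) adj
    ((DRing.LBaseChange (algebraMap R (MvPolynomial (Fin n) R))).obj K)
  haveI := isGE_of_coUniv hε hge
  refine ⟨DerivedCategory.TStructure.t.isGE_shift _ a n (a - n) (by omega), fun hfin i => ?_⟩
  haveI := FinDualLib.finite_HD_of hε hge (fun j => DualBCLib.finite_HD_bc hK hfin hη j) ((n : ℤ) + i)
  exact Module.Finite.equiv (hHShift (Rψ.obj _) (n : ℤ) i ((n : ℤ) + i) rfl).symm.toLinearEquiv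

end ShriekRingLib
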