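import Groth.Agent.ShriekRingLib.ResComp
import Groth.Agent.DualCxLib.LocDual

/-!
# The residue map is couniversal: the formal argument
-/

set_option autoImplicit false
set_option linter.all false
set_option maxHeartbeats 1000000

universe u

open CategoryTheory CategoryTheory.Limits Pretriangulated
open Groth.Agent DTen

attribute [local instance] HasDerivedCategory.standard

noncomputable section

namespace ShriekRingLib

open FinDualLib Groth.Agent.DualCxLib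

variable {A B C : Type u} [CommRing A] [CommRing B] [CommRing C]

/-- Universal maps are compatible with shifts. -/
theorem isUniv_shift {φ : A →+* B} {X : Dual.D A} {Z : Dual.D B} {η : X ⟶ (DRing.restrictD φ).obj Z}
    (h : IsUniv φ η) (n : ℤ) : IsUniv φ (η⟦n⟧' ≫ ((DRing.restrictD φ).commShiftIso n).inv.app Z) := by
  intro W
  let e : (W⟦-n⟧)⟦n⟧ ≅ W := (shiftFunctorCompIsoId (Dual.D B) (-n) n (neg_add_cancel n)).app W
  let c : (DRing.restrictD φ).obj ((W⟦-n⟧)⟦n⟧) ≅ ((DRing.restrictD φ).obj (W⟦-n⟧))⟦n⟧ :=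
    ((DRing.restrictD φ).commShiftIso n).app _
  have hF : ∀ g₀ : Z ⟶ W⟦-n⟧, (η⟦n⟧' ≫ ((DRing.restrictD φ).commShiftIso n).inv.app Z) ≫
      (DRing.restrictD φ).map (g₀⟦n⟧' ≫ e.hom) =
      (η ≫ (DRing.restrictD φ).map g₀)⟦n⟧' ≫ c.inv ≫ (DRing.restrictD φ).map e.hom := fun g₀ => by
    rw [Functor.map_comp, Category.assoc, Functor.map_comp, Category.assoc]
    refine congrArg (η⟦n⟧' ≫ ·) ?_
    exact ((reassoc_of% (((DRing.restrictD φ).commShiftIso n).inv.naturality g₀)) _).symm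
  have hrep : ∀ g : Z⟦n⟧ ⟶ W, ∃ g₀ : Z ⟶ W⟦-n⟧, g = g₀⟦n⟧' ≫ e.hom := fun g => by
    obtain ⟨g₀, h₀⟩ := (shiftFunctor (Dual.D B) n).map_surjective (g ≫ e.inv)
    exact ⟨g₀, by rw [h₀, Category.assoc, e.inv_hom_id, Category.comp_id]⟩
  refine ⟨fun f f' hf => ?_, fun y => ?_⟩
  · obtain ⟨a, rfl⟩ := hrep f
    obtain ⟨b, rfl⟩ := hrep f'
    change (_ ≫ _) ≫ _ = (_ ≫ _) ≫ _ at hf
    rw [hF, hF, cancel_mono] at hf
    rw [(h _).1 ((shiftFunctor (Dual.D A) n).map_injective hf)]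
  · obtain ⟨y₀, hy⟩ := (shiftFunctor (Dual.D A) n).map_surjective
      (y ≫ (DRing.restrictD φ).map e.inv ≫ c.hom)
    obtain ⟨g₀, hg⟩ := (h _).2 y₀
    refine ⟨g₀⟦n⟧' ≫ e.hom, ?_⟩
    show (_ ≫ _) ≫ _ = y
    rw [hF, show η ≫ (DRing.restrictD φ).map g₀ = y₀ from hg, hy]
    simp only [Category.assoc, c.hom_inv_id_assoc, ← Functor.map_comp, e.inv_hom_id, CategoryTheory.Functor.map_id,
      Category.comp_id]

/-- Couniversal maps are compatible with shifts. -/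
theorem isCoUniv_shift {φ : A →+* B} {ω : Dual.D A} {Z : Dual.D B} {ε : (DRing.restrictD φ).obj Z ⟶ ω}
    (h : IsCoUniv φ ε) (n : ℤ) : IsCoUniv φ (((DRing.restrictD φ).commShiftIso n).hom.app Z ≫ ε⟦n⟧') := by
  intro W
  let e : (W⟦-n⟧)⟦n⟧ ≅ W := (shiftFunctorCompIsoId (Dual.D B) (-n) n (neg_add_cancel n)).app W
  let c : (DRing.restrictD φ).obj ((W⟦-n⟧)⟦n⟧) ≅ ((DRing.restrictD φ).obj (W⟦-n⟧))⟦n⟧ :=
    ((DRing.restrictD φ).commShiftIso n).app _
  have hF : ∀ g₀ : W⟦-n⟧ ⟶ Z, (DRing.restrictD φ).map (e.inv ≫ g₀⟦n⟧') ≫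
      ((DRing.restrictD φ).commShiftIso n).hom.app Z ≫ ε⟦n⟧' =
      (DRing.restrictD φ).map e.inv ≫ c.hom ≫ ((DRing.restrictD φ).map g₀ ≫ ε)⟦n⟧' := fun g₀ => by
    rw [Functor.map_comp, Category.assoc, Functor.map_comp]
    refine congrArg ((DRing.restrictD φ).map e.inv ≫ ·) ?_
    exact (reassoc_of% (((DRing.restrictD φ).commShiftIso n).hom.naturality g₀)) (ε⟦n⟧')
  have hrep : ∀ g : W ⟶ Z⟦n⟧, ∃ g₀ : W⟦-n⟧ ⟶ Z, g = e.inv ≫ g₀⟦n⟧' := fun g => by
    obtain ⟨g₀, h₀⟩ := (shiftFunctor (Dual.D B) n).map_surjective (e.hom ≫ g)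
    exact ⟨g₀, by rw [h₀, e.inv_hom_id_assoc]⟩
  refine ⟨fun f g hfg => ?_, fun y => ?_⟩
  · obtain ⟨f₀, rfl⟩ := hrep f
    obtain ⟨g₀, rfl⟩ := hrep g
    change (DRing.restrictD φ).map _ ≫ _ ≫ _ = (DRing.restrictD φ).map _ ≫ _ ≫ _ at hfg
    rw [hF, hF, cancel_epi, cancel_epi] at hfg
    rw [(h _).1 ((shiftFunctor (Dual.D A) n).map_injective hfg)]
  · obtain ⟨y₀, hy⟩ := (shiftFunctor (Dual.D A) n).map_surjective
      (c.inv ≫ (DRing.restrictD φ).map e.hom ≫ y)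
    obtain ⟨g₀, hg₀⟩ := (h _).2 y₀
    refine ⟨e.inv ≫ g₀⟦n⟧', ?_⟩
    show (DRing.restrictD φ).map _ ≫ _ ≫ _ = y
    rw [hF, show (DRing.restrictD φ).map g₀ ≫ ε = y₀ from hg₀, hy, c.hom_inv_id_assoc, ← Functor.map_comp_assoc,
      e.inv_hom_id, CategoryTheory.Functor.map_id, Category.id_comp]

/-- Universal objects are unique. -/
theorem exists_iso_univ {φ : A →+* B} {X : Dual.D A} {Z Z' : Dual.D B} {η : X ⟶ (DRing.restrictD φ).obj Z}
    {η' : X ⟶ (DRing.restrictD φ).obj Z'} (h : IsUniv φ η) (h' : IsUniv φ η') :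
    ∃ k : Z ≅ Z', η ≫ (DRing.restrictD φ).map k.hom = η' := by
  obtain ⟨g, hg⟩ := (h Z').2 η'
  obtain ⟨g', hg'⟩ := (h' Z).2 η
  replace hg : η ≫ (DRing.restrictD φ).map g = η' := hg
  replace hg' : η' ≫ (DRing.restrictD φ).map g' = η := hg'
  refine ⟨⟨g, g', (h Z).1 ?_, (h' Z').1 ?_⟩, hg⟩
  · show η ≫ (DRing.restrictD φ).map (g ≫ g') = η ≫ (DRing.restrictD φ).map (𝟙 Z)
    rw [Functor.map_comp, ← Category.assoc, hg, hg', CategoryTheory.Functor.map_id, Category.comp_id]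
  · show η' ≫ (DRing.restrictD φ).map (g' ≫ g) = η' ≫ (DRing.restrictD φ).map (𝟙 Z')
    rw [Functor.map_comp, ← Category.assoc, hg', hg, CategoryTheory.Functor.map_id, Category.comp_id]

/-- Couniversal maps compose. -/
theorem isCoUniv_comp {φ : A →+* B} {π : B →+* C} {θ : A →+* C} (h : π.comp φ = θ) {ω : Dual.D A}
    {Z₁ : Dual.D B} {ε₁ : (DRing.restrictD φ).obj Z₁ ⟶ ω} (h₁ : IsCoUniv φ ε₁)
    {Z₂ : Dual.D C} {ε₂ : (DRing.restrictD π).obj Z₂ ⟶ Z₁} (h₂ : IsCoUniv π ε₂) :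
    IsCoUniv θ ((resDComp φ π θ h).hom.app Z₂ ≫ (DRing.restrictD φ).map ε₂ ≫ ε₁) := by
  intro W
  let c := (resDComp φ π θ h).app W
  let g : (W ⟶ Z₂) ≃ ((DRing.restrictD θ).obj W ⟶ ω) :=
    ((Equiv.ofBijective _ (h₂ W)).trans (Equiv.ofBijective _ (h₁ _))).trans (c.symm.homCongr (Iso.refl ω))
  convert g.bijective using 1
  funext f
  show (DRing.restrictD θ).map f ≫ _ ≫ _ ≫ _ =
    c.hom ≫ ((DRing.restrictD φ).map ((DRing.restrictD π).map f ≫ ε₂) ≫ ε₁) ≫ 𝟙 ω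
  rw [Category.comp_id, Functor.map_comp, Category.assoc]
  exact (reassoc_of% ((resDComp φ π θ h).hom.naturality f)) _

variable {φ : B →+* A} {π : A →+* C} {φ₀ : B →+* C} (h : π.comp φ = φ₀)

include h in
/-- The residue map is couniversal. -/
theorem isCoUniv_residue (hπ : Function.Surjective π) {f : A} (hf : π f = 0) {L : Dual.D B} {L' : Dual.D C}
    {t : (DRing.restrictD φ₀).obj L' ⟶ L} (ht : IsCoUniv φ₀ t)
    (hdec : ∃ (m : ℕ) (z : Fin m → C) (ι : Fin m → (L ⟶ (DRing.restrictD φ₀).obj L')),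
      ∑ k, (DRing.restrictD φ₀).map (z k • 𝟙 L') ≫ t ≫ ι k = 𝟙 _)
    {E : Dual.D A} {q : E ⟶ (DRing.restrictD π).obj L'} {δ : (DRing.restrictD π).obj L' ⟶ E⟦(1 : ℤ)⟧}
    (hT : Triangle.mk (f • 𝟙 E) q δ ∈ distTriang (Dual.D A))
    {s : (DRing.restrictD φ).obj ((DRing.restrictD π).obj L') ⟶ (DRing.restrictD φ).obj E}
    (hs : s ≫ (DRing.restrictD φ).map q = 𝟙 _)
    (hchar : ∀ X : Dual.D A, ∃ (E' : Dual.D A) (η' : (DRing.restrictD φ).obj X ⟶ (DRing.restrictD φ).obj E')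
      (ev : E' ⟶ X) (d : X ⟶ E'⟦(1 : ℤ)⟧), IsUniv φ η' ∧ η' ≫ (DRing.restrictD φ).map ev = 𝟙 _ ∧
        ∀ {Y : Dual.D A} (u : X ⟶ Y), ev ≫ u = 0 → ∃ g, u = d ≫ g) :
    IsCoUniv π δ := by
  have hqδ : q ≫ δ = 0 := comp_distTriang_mor_zero₂₃ _ hT
  have hΦδ : (DRing.restrictD φ).map δ = 0 := by
    have h0 : (DRing.restrictD φ).map q ≫ (DRing.restrictD φ).map δ = 0 := by
      rw [← Functor.map_comp, hqδ, Functor.map_zero]
    have := congrArg (s ≫ ·) h0
    simpa only [reassoc_of% hs, comp_zero] using this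
  intro W
  have hkill : ∀ {Y : Dual.D A} (g : (DRing.restrictD π).obj W ⟶ Y), f • g = 0 := fun g => by
    have h1 : f • 𝟙 ((DRing.restrictD π).obj W) = 0 := by
      rw [← restrictD_smul_id π f W, hf, zero_smul, Functor.map_zero]
    have h2 : f • g = (f • 𝟙 _) ≫ g := by rw [Linear.smul_comp, Category.id_comp]
    rw [h2, h1, zero_comp]
  let c := resDComp φ π φ₀ h
  refine ⟨fun f₀ f₁ hff => sub_eq_zero.1 ?_, fun y => ?_⟩
  · change (DRing.restrictD π).map f₀ ≫ δ = (DRing.restrictD π).map f₁ ≫ δ at hff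
    obtain ⟨g, hg⟩ : ∃ g : (DRing.restrictD π).obj W ⟶ E, (DRing.restrictD π).map (f₀ - f₁) = g ≫ q :=
      Triangle.coyoneda_exact₃ _ hT ((DRing.restrictD π).map (f₀ - f₁)) (by
        show (DRing.restrictD π).map (f₀ - f₁) ≫ δ = 0
        rw [Functor.map_sub, Preadditive.sub_comp]
        exact sub_eq_zero.2 hff)
    obtain ⟨k, hk⟩ : ∃ k : ((DRing.restrictD π).obj W)⟦(1 : ℤ)⟧ ⟶ (DRing.restrictD π).obj L',
        g⟦(1 : ℤ)⟧' = k ≫ δ := Triangle.coyoneda_exact₁ _ hT (g⟦(1 : ℤ)⟧') (by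
      show g⟦(1 : ℤ)⟧' ≫ (f • 𝟙 E)⟦(1 : ℤ)⟧' = 0
      rw [← Functor.map_comp, Linear.comp_smul, Category.comp_id, hkill, Functor.map_zero])
    have h1 : ((DRing.restrictD φ).map g)⟦(1 : ℤ)⟧' = 0 := by
      have h2 := ((DRing.restrictD φ).commShiftIso (1 : ℤ)).hom.naturality g
      rw [show (shiftFunctor (Dual.D A) (1 : ℤ) ⋙ DRing.restrictD φ).map g = 0 from by
        show (DRing.restrictD φ).map (g⟦(1 : ℤ)⟧') = 0
        rw [hk]
        show (DRing.restrictD φ).map (k ≫ δ) = 0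
        rw [Functor.map_comp, hΦδ, comp_zero], zero_comp] at h2
      exact (cancel_epi _).1 (h2.symm.trans comp_zero.symm)
    have h3 : (DRing.restrictD φ₀).map (f₀ - f₁) = 0 := by
      rw [← cancel_mono (c.hom.app L'), zero_comp, c.hom.naturality, Functor.comp_map, hg, Functor.map_comp,
        (shiftFunctor (Dual.D B) (1 : ℤ)).map_injective (h1.trans (Functor.map_zero _ _ _).symm), zero_comp,
        comp_zero]
    refine (ht W).1 (?_ : (DRing.restrictD φ₀).map (f₀ - f₁) ≫ t = (DRing.restrictD φ₀).map 0 ≫ t)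
    rw [h3, Functor.map_zero]
  · obtain ⟨g, hg⟩ : ∃ g : (DRing.restrictD π).obj W ⟶ (DRing.restrictD π).obj L', y = g ≫ δ :=
      Triangle.coyoneda_exact₁ _ hT y (by
      show y ≫ (f • 𝟙 E)⟦(1 : ℤ)⟧' = 0
      rw [Functor.map_smul, CategoryTheory.Functor.map_id, Linear.comp_smul]
      exact (congrArg (f • ·) (Category.comp_id y)).trans (hkill y))
    let v₀ := c.hom.app W ≫ (DRing.restrictD φ).map g ≫ c.inv.app L'
    obtain ⟨g₀, hg₀⟩ := (ht W).2 (v₀ ≫ t)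
    change (DRing.restrictD φ₀).map g₀ ≫ t = v₀ ≫ t at hg₀
    refine ⟨g₀, ?_⟩
    show (DRing.restrictD π).map g₀ ≫ δ = y
    let w := g - (DRing.restrictD π).map g₀
    suffices hw : w ≫ δ = 0 by
      rw [Preadditive.sub_comp, sub_eq_zero] at hw
      rw [hg, hw]
    let v := c.hom.app W ≫ (DRing.restrictD φ).map w ≫ c.inv.app L'
    have hvt : v ≫ t = 0 := by
      have h1 : c.hom.app W ≫ (DRing.restrictD φ).map ((DRing.restrictD π).map g₀) ≫ c.inv.app L' =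
          (DRing.restrictD φ₀).map g₀ := by
        rw [← Category.assoc, ← Functor.comp_map, ← c.hom.naturality, Category.assoc, Iso.hom_inv_id_app]
        exact Category.comp_id _
      show (_ ≫ _ ≫ _) ≫ t = 0
      rw [Functor.map_sub, Preadditive.sub_comp, Preadditive.comp_sub, h1, Preadditive.sub_comp, hg₀, sub_self]
    have hcomm : ∀ z : C, (DRing.restrictD φ₀).map (z • 𝟙 W) ≫ v = v ≫ (DRing.restrictD φ₀).map (z • 𝟙 L') := by
      intro z
      obtain ⟨p, rfl⟩ := hπ z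
      have hW : (DRing.restrictD φ₀).map (π p • 𝟙 W) ≫ c.hom.app W =
          c.hom.app W ≫ (DRing.restrictD φ).map (p • 𝟙 ((DRing.restrictD π).obj W)) := by
        rw [c.hom.naturality, Functor.comp_map, restrictD_smul_id]
      have hL : c.inv.app L' ≫ (DRing.restrictD φ₀).map (π p • 𝟙 L') =
          (DRing.restrictD φ).map (p • 𝟙 ((DRing.restrictD π).obj L')) ≫ c.inv.app L' := by
        rw [← c.inv.naturality, Functor.comp_map, restrictD_smul_id]
      show _ ≫ _ ≫ _ ≫ _ = (_ ≫ _ ≫ _) ≫ _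
      rw [reassoc_of% hW, Category.assoc, Category.assoc, hL, ← Functor.map_comp_assoc, ← Functor.map_comp_assoc,
        Linear.smul_comp, Linear.comp_smul, Category.id_comp, Category.comp_id]
    have hv : v = 0 := by
      obtain ⟨m, z, ι, hsum⟩ := hdec
      rw [← Category.comp_id v, ← hsum, Preadditive.comp_sum]
      refine Finset.sum_eq_zero fun k _ => ?_
      rw [← reassoc_of% (hcomm (z k)), reassoc_of% hvt, zero_comp, comp_zero]
    have hΦw : (DRing.restrictD φ).map w = 0 := by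
      rw [← cancel_mono (c.inv.app L'), ← cancel_epi (c.hom.app W)]
      simpa only [zero_comp, comp_zero] using hv
    obtain ⟨E', η', ev, d, hu, hev, hfac⟩ := hchar ((DRing.restrictD π).obj W)
    obtain ⟨k, hk⟩ := hfac w ((hu _).1 (by
      show η' ≫ (DRing.restrictD φ).map (ev ≫ w) = η' ≫ (DRing.restrictD φ).map 0
      rw [Functor.map_comp, ← Category.assoc, hev, Category.id_comp, hΦw, Functor.map_zero, comp_zero]))
    have hu1 := isUniv_shift hu 1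
    obtain ⟨k', hk'⟩ := (hu1 E).2
      ((η'⟦(1 : ℤ)⟧' ≫ ((DRing.restrictD φ).commShiftIso (1 : ℤ)).inv.app E') ≫ (DRing.restrictD φ).map k ≫ s)
    have hkq : k' ≫ q = k := (hu1 _).1 (by
      dsimp only at hk' ⊢
      rw [Functor.map_comp, ← Category.assoc, hk']
      simp only [Category.assoc, hs, Category.comp_id])
    rw [hk, ← hkq, Category.assoc, Category.assoc, hqδ, comp_zero, comp_zero]

end ShriekRingLib
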