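import Groth.Agent.ShriekRingLib.PolySeq
import Groth.Agent.ShriekRingLib.StepAbs
import Mathlib.Algebra.Homology.DerivedCategory.ShortExact

/-!
# Killing a variable by a monic polynomial
-/

set_option autoImplicit false
set_option linter.all false
set_option maxHeartbeats 1000000

universe u

open CategoryTheory CategoryTheory.Limits Pretriangulated
open Groth.Agent DTen
open scoped Polynomial

attribute [local instance] HasDerivedCategory.standard

noncomputable section

namespace ShriekRingLib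

open FinDualLib Groth.Agent.DualCxLib

variable {B : Type u} [CommRing B]

local notation "φ" => algebraMap B B[X]

section Transport

variable {A C : Type u} [CommRing A] [CommRing C] {ψ : A →+* C}

theorem IsCoUniv_precomp {ω : Dual.D A} {Z Z' : Dual.D C} {ε : (DRing.restrictD ψ).obj Z ⟶ ω}
    (h : IsCoUniv ψ ε) (e : Z' ≅ Z) : IsCoUniv ψ ((DRing.restrictD ψ).map e.hom ≫ ε) := fun W => by
  rw [show (fun f : W ⟶ Z' => (DRing.restrictD ψ).map f ≫ (DRing.restrictD ψ).map e.hom ≫ ε) =
    (fun g : W ⟶ Z => (DRing.restrictD ψ).map g ≫ ε) ∘ ((Iso.refl W).homCongr e) from funext fun f => by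
      simp [Iso.homCongr]]
  exact (h W).comp ((Iso.refl W).homCongr e).bijective

end Transport

theorem exists_char (X : Dual.D B[X]) :
    ∃ (E' : Dual.D B[X]) (η' : (DRing.restrictD φ).obj X ⟶ (DRing.restrictD φ).obj E')
      (ev : E' ⟶ X) (d : X ⟶ E'⟦(1 : ℤ)⟧), IsUniv φ η' ∧ η' ≫ (DRing.restrictD φ).map ev = 𝟙 _ ∧
        ∀ {Y : Dual.D B[X]} (u : X ⟶ Y), ev ≫ u = 0 → ∃ g, u = d ≫ g := by
  let N := DerivedCategory.Q.objPreimage X
  let e : DerivedCategory.Q.obj N ≅ X := DerivedCategory.Q.objObjPreimageIso X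
  let N₀ : DRing.Cx B := (resCx φ).obj N
  let chi : (extCx φ).obj N₀ ⟶ (extCx φ).obj N₀ :=
    { f := fun i => chiNat.app (N.X i)
      comm' := fun i j _ => (chiNat.naturality (N.d i j)).symm }
  let S : ShortComplex (DRing.Cx B[X]) := ShortComplex.mk chi (DTenLib.counitCx φ N)
    (HomologicalComplex.hom_ext _ _ fun i => chi_comp_ev (N.X i))
  have hS : S.ShortExact := HomologicalComplex.shortExact_of_degreewise_shortExact _ fun i => shortExact_char (N.X i)
  have hdist := DerivedCategory.triangleOfSES_distinguished hS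
  refine ⟨DerivedCategory.Q.obj ((extCx φ).obj N₀),
    (DRing.restrictD φ).map e.inv ≫ (resFactors φ).hom.app N ≫ γ φ N₀,
    DerivedCategory.Q.map (DTenLib.counitCx φ N) ≫ e.hom, e.inv ≫ DerivedCategory.triangleOfSESδ hS, ?_, ?_, ?_⟩
  · have h := (FlatExtLib.isUniv_γ_flat (A := B) (S := B[X]) N₀).comp_iso
      (((DRing.restrictD φ).mapIso e).symm ≪≫ (resFactors φ).app N) (Iso.refl _)
    simp only [Iso.trans_hom, Iso.symm_hom, Functor.mapIso_inv, Iso.app_hom, Iso.refl_hom,
      CategoryTheory.Functor.map_id, Category.comp_id, Category.assoc] at h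
    exact h
  · have h1 : γ φ N₀ ≫ (DRing.restrictD φ).map (DerivedCategory.Q.map (DTenLib.counitCx φ N)) =
        (resFactors φ).inv.app N := by
      rw [γ_comp, show (unitCx φ).app N₀ ≫ (resCx φ).map (DTenLib.counitCx φ N) = 𝟙 _ from ?_,
        CategoryTheory.Functor.map_id, Category.id_comp]
      exact HomologicalComplex.hom_ext _ _ fun i =>
        (ModuleCat.extendRestrictScalarsAdj.{u, u, u} φ).right_triangle_components (N.X i)
    rw [Functor.map_comp, Category.assoc, Category.assoc, reassoc_of% h1, Iso.hom_inv_id_app_assoc,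
      ← Functor.map_comp, e.inv_hom_id, CategoryTheory.Functor.map_id]
  · intro Y u hu
    obtain ⟨g, hg⟩ := Triangle.yoneda_exact₃ _ hdist (e.hom ≫ u) (by
      show DerivedCategory.Q.map _ ≫ e.hom ≫ u = 0
      rw [← Category.assoc]; exact hu)
    refine ⟨g, ?_⟩
    rw [Category.assoc, ← show e.hom ≫ u = DerivedCategory.triangleOfSESδ hS ≫ g from hg, e.inv_hom_id_assoc]

variable {f : B[X]} (hf : f.Monic)

local notation "π" => AdjoinRoot.mk f
local notation "φ₀" => algebraMap B (AdjoinRoot f)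

/-- Insertion of a coordinate. -/
def iota (k : ℕ) (M : ModuleCat.{u} B) :
    M ⟶ (ModuleCat.restrictScalars.{u} φ₀).obj ((ModuleCat.coextendScalars.{u, u, u} φ₀).obj M) :=
  ModuleCat.ofHom
    (Y := ((ModuleCat.restrictScalars.{u} φ₀).obj ((ModuleCat.coextendScalars.{u, u, u} φ₀).obj M) : Type u))
    { toFun := fun m => toCo M (((res hf).comp (LinearMap.mulRight B (dual f k))).smulRight m)
      map_add' := fun m m' => ofCo_injective M (LinearMap.ext fun c => smul_add (res hf (c * dual f k)) m m')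
      map_smul' := fun b m => ofCo_injective M (LinearMap.ext fun c => by
        show res hf (c * dual f k) • b • m = res hf ((show AdjoinRoot f from c) * φ₀ b * dual f k) • m
        rw [mul_comm c (φ₀ b), ← Algebra.smul_def, smul_mul_assoc, map_smul, smul_comm, smul_eq_mul, mul_smul]) }

theorem iota_naturality (k : ℕ) {M M' : ModuleCat.{u} B} (g : M ⟶ M') :
    g ≫ iota hf k M' = iota hf k M ≫
      (ModuleCat.restrictScalars.{u} φ₀).map ((ModuleCat.coextendScalars.{u, u, u} φ₀).map g) :=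
  ModuleCat.hom_ext (LinearMap.ext fun m => ofCo_injective M' (LinearMap.ext fun c => (map_smul g.hom _ m).symm))

theorem sum_iota (M : ModuleCat.{u} B) :
    ∑ k : Fin f.natDegree, (ModuleCat.restrictScalars.{u} φ₀).map
      ((AdjoinRoot.root f ^ (k : ℕ)) • 𝟙 ((ModuleCat.coextendScalars.{u, u, u} φ₀).obj M)) ≫
      (ModuleCat.restrictCoextendScalarsAdj.{u} φ₀).counit.app M ≫ iota hf k M = 𝟙 _ :=
  ModuleCat.hom_ext (LinearMap.ext fun x => ofCo_injective M (LinearMap.ext fun c => by
    rw [ModuleCat.hom_sum, LinearMap.sum_apply]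
    refine Eq.trans (map_sum (AddMonoidHom.mk' (fun y : (ModuleCat.coextendScalars.{u, u, u} φ₀).obj M =>
      ofCo M y c) fun y y' => rfl) _ _) ?_
    show ∑ k : Fin f.natDegree, res hf (c * dual f k) • ofCo M x (1 * AdjoinRoot.root f ^ (k : ℕ)) = ofCo M x c
    conv_rhs => rw [eq_sum_root hf c, map_sum]
    rw [← Fin.sum_univ_eq_sum_range (fun k => ofCo M x (res hf (c * dual f k) • AdjoinRoot.root f ^ k))]
    exact Finset.sum_congr rfl fun k _ => by rw [one_mul, map_smul]))

include hf in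
/-- A monic relation on the variable turns the shifted extension into the coinduction. -/
theorem exists_residue (I : DRing.Cx B) [I.IsKInjective] :
    ∃ δ : (DRing.restrictD π).obj (DerivedCategory.Q.obj ((coextCx φ₀).obj I)) ⟶
        (DerivedCategory.Q.obj ((extCx φ).obj I))⟦(1 : ℤ)⟧, IsCoUniv π δ := by
  let L' := DerivedCategory.Q.obj ((coextCx φ₀).obj I)
  let E := DerivedCategory.Q.obj ((extCx φ).obj I)
  let fc : (extCx φ).obj I ⟶ (extCx φ).obj I :=
    { f := fun i => (fNat f).app (I.X i)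
      comm' := fun i j _ => ((fNat f).naturality (I.d i j)).symm }
  let qc : (extCx φ).obj I ⟶ (resCx π).obj ((coextCx φ₀).obj I) :=
    { f := fun i => (qNat hf).app (I.X i)
      comm' := fun i j _ => ((qNat hf).naturality (I.d i j)).symm }
  let sc : (resCx φ).obj ((resCx π).obj ((coextCx φ₀).obj I)) ⟶ (resCx φ).obj ((extCx φ).obj I) :=
    { f := fun i => sApp (f := f) (I.X i)
      comm' := fun i j _ => ((sNat (f := f)).naturality (I.d i j)).symm }
  let S : ShortComplex (DRing.Cx B[X]) := ShortComplex.mk fc qc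
    (HomologicalComplex.hom_ext _ _ fun i => f_comp_q hf (I.X i))
  have hS : S.ShortExact :=
    HomologicalComplex.shortExact_of_degreewise_shortExact _ fun i => shortExact_res hf (I.X i)
  have hfc : DerivedCategory.Q.map fc = f • 𝟙 E := by
    rw [show fc = f • 𝟙 _ from HomologicalComplex.hom_ext _ _ fun i => rfl, Functor.map_smul,
      CategoryTheory.Functor.map_id]
  let r := (resFactors π).app ((coextCx φ₀).obj I)
  have hT : Triangle.mk (f • 𝟙 E) (DerivedCategory.Q.map qc ≫ r.inv)
      (r.hom ≫ DerivedCategory.triangleOfSESδ hS) ∈ distTriang (Dual.D B[X]) :=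
    isomorphic_distinguished _ (DerivedCategory.triangleOfSES_distinguished hS) _
      (Triangle.isoMk _ _ (Iso.refl _) (Iso.refl _) r
        (by show (f • 𝟙 E) ≫ 𝟙 _ = 𝟙 _ ≫ DerivedCategory.Q.map fc; rw [Category.comp_id, Category.id_comp, hfc])
        (by show (DerivedCategory.Q.map qc ≫ r.inv) ≫ r.hom = 𝟙 _ ≫ DerivedCategory.Q.map qc; simp)
        (by show (r.hom ≫ DerivedCategory.triangleOfSESδ hS) ≫ (𝟙 E)⟦(1 : ℤ)⟧' = r.hom ≫ DerivedCategory.triangleOfSESδ hS
            rw [CategoryTheory.Functor.map_id, Category.comp_id]))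
  refine ⟨r.hom ≫ DerivedCategory.triangleOfSESδ hS, isCoUniv_residue (f := f) ?_ AdjoinRoot.mk_surjective
    AdjoinRoot.mk_self (isCoUniv_coext φ₀ I) ?_ hT
    (s := (DRing.restrictD φ).map r.hom ≫ (resFactors φ).hom.app _ ≫ DerivedCategory.Q.map sc ≫
      (resFactors φ).inv.app _) ?_ exists_char⟩
  · exact RingHom.ext fun b => AdjoinRoot.mk_C b
  · let iotac : ∀ k : ℕ, I ⟶ (resCx φ₀).obj ((coextCx φ₀).obj I) := fun k =>
      { f := fun i => iota hf k (I.X i)
        comm' := fun i j _ => (iota_naturality hf k (I.d i j)).symm }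
    refine ⟨f.natDegree, fun k => AdjoinRoot.root f ^ (k : ℕ),
      fun k => DerivedCategory.Q.map (iotac k) ≫ (resFactors φ₀).inv.app _, ?_⟩
    have hk : ∀ z : AdjoinRoot f, (DRing.restrictD φ₀).map (z • 𝟙 (DerivedCategory.Q.obj ((coextCx φ₀).obj I))) =
        (resFactors φ₀).hom.app _ ≫ DerivedCategory.Q.map ((resCx φ₀).map (z • 𝟙 ((coextCx φ₀).obj I))) ≫
          (resFactors φ₀).inv.app _ := fun z => by
      have h := (resFactors φ₀).hom.naturality (z • 𝟙 ((coextCx φ₀).obj I))
      rw [Functor.comp_map, Functor.map_smul, CategoryTheory.Functor.map_id] at h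
      rw [← Category.assoc]
      exact (Iso.eq_comp_inv ((resFactors φ₀).app ((coextCx φ₀).obj I))).2 h
    simp only [hk, Category.assoc, Iso.inv_hom_id_app_assoc, ← Functor.map_comp_assoc]
    rw [← Preadditive.comp_sum, ← Preadditive.sum_comp, ← Functor.map_sum,
      show (∑ k : Fin f.natDegree, (resCx φ₀).map (AdjoinRoot.root f ^ (k : ℕ) • 𝟙 ((coextCx φ₀).obj I)) ≫
        counitC φ₀ I ≫ iotac k) = 𝟙 _ from HomologicalComplex.hom_ext _ _ fun i => ?_,
      CategoryTheory.Functor.map_id, Category.id_comp, Iso.hom_inv_id_app]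
    rfl
    show (HomologicalComplex.eval (ModuleCat.{u} B) (ComplexShape.up ℤ) i).map _ = _
    rw [Functor.map_sum]
    exact sum_iota hf (I.X i)
  · have h1 : sc ≫ (resCx φ).map qc = 𝟙 _ := HomologicalComplex.hom_ext _ _ fun i => sApp_q hf (I.X i)
    have h2 : (resFactors φ).inv.app ((extCx φ).obj I) ≫ (DRing.restrictD φ).map (DerivedCategory.Q.map qc) =
        DerivedCategory.Q.map ((resCx φ).map qc) ≫ (resFactors φ).inv.app _ :=
      ((resFactors φ).inv.naturality qc).symm
    rw [Functor.map_comp, Category.assoc, Category.assoc, Category.assoc, reassoc_of% h2,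
      ← Functor.map_comp_assoc, h1, CategoryTheory.Functor.map_id, Category.id_comp,
      Iso.hom_inv_id_app_assoc, ← Functor.map_comp, r.hom_inv_id]
    exact (DRing.restrictD φ).map_id _

include hf in
/-- Killing a variable by a monic polynomial. -/
theorem exists_step {A : Type u} [CommRing A] (τ : B[X] →+* A) (hτ : τ f = 0)
    {L : Dual.D B} {E : Dual.D B[X]} {η : L ⟶ (DRing.restrictD φ).obj E} (hη : IsUniv φ η)
    {Z : Dual.D A} {ε : (DRing.restrictD (τ.comp φ)).obj Z ⟶ L} (hε : IsCoUniv (τ.comp φ) ε) :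
    ∃ ε' : (DRing.restrictD τ).obj Z ⟶ E⟦(1 : ℤ)⟧, IsCoUniv τ ε' := by
  obtain ⟨I, hI, ⟨e⟩⟩ := DerLib.KInjUse.exists_iso_Q_kInjective L
  haveI := hI
  obtain ⟨δ, hδ⟩ := exists_residue hf I
  obtain ⟨k, -⟩ := exists_iso_univ ((FlatExtLib.isUniv_γ_flat (A := B) (S := B[X]) I).comp_iso e (Iso.refl _)) hη
  let τ' : AdjoinRoot f →+* A := Ideal.Quotient.lift _ τ fun p hp => by
    obtain ⟨a, rfl⟩ := Ideal.mem_span_singleton'.1 hp
    rw [map_mul, hτ, mul_zero]
  have h1 : τ'.comp π = τ := RingHom.ext fun p => rfl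
  have h2 : τ'.comp φ₀ = τ.comp φ := RingHom.ext fun b => by
    show τ' (algebraMap B (AdjoinRoot f) b) = τ (φ b)
    rw [AdjoinRoot.algebraMap_eq, ← AdjoinRoot.mk_C]
    rfl
  obtain ⟨Z₂, ε₂, hε₂⟩ := FinDualLib.exists_coUniv τ' (DerivedCategory.Q.obj ((coextCx φ₀).obj I))
  obtain ⟨m, -⟩ := FinDualLib.exists_iso _ hε (isCoUniv_comp h2 ((isCoUniv_coext φ₀ I).postcomp _ e.symm) hε₂)
  exact ⟨_, (IsCoUniv_precomp (isCoUniv_comp h1 hδ hε₂) m).postcomp _ ((shiftFunctor _ (1 : ℤ)).mapIso k)⟩

end ShriekRingLib
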