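import Groth.Agent.TorIndBCLib.EvalTenIso
import Groth.Agent.DualCxLib.Biduality
import Groth.Agent.DualCxLib.DimFnLocal
import Groth.Agent.TwoTermLib.RHomEval
import Groth.Agent.ShriekRingLib.Step

/-!
# The couniversal object of the unit along a perfect surjection
-/

set_option autoImplicit false
set_option linter.all false
set_option maxHeartbeats 1000000

universe u

open CategoryTheory CategoryTheory.Limits MonoidalCategory HomologicalComplex
open Groth.Agent DTen
open Groth.Agent.TwoTermLib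
open DTenLib.Point (hH sg)

attribute [local instance] HasDerivedCategory.standard

noncomputable section

namespace ShriekRingLib

open DTenLib FinDualLib Groth.Agent.DualCxLib

variable {R A : Type u} [CommRing R] [CommRing A]

/-- RHom of a perfect complex into the unit is its dual complex. -/
theorem nonempty_RHom_unit_iso [HasLTen R] [HasRHom R] {F : DRing.Cx R} {a b : ℤ}
    (hb : DRing.VanishesOutside F a b) (hp : DRing.TermwiseFiniteProjective F) :
    Nonempty ((RHomR R (DerivedCategory.Q.obj F)).obj (unit R) ≅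
      DerivedCategory.Q.obj (DRing.homCx F (RHomEval.A₀ R))) := by
  haveI : ∀ i, Projective (F.X i) := fun i => by
    haveI := (hp i).2
    exact (IsProjective.iff_projective (R := R) (P := F.X i)).mp inferInstance
  haveI : F.IsStrictlyLE b := (CochainComplex.isStrictlyLE_iff F b).2 fun i hi => hb i (Or.inr hi)
  haveI : F.IsKProjective := CochainComplex.isKProjective_of_projective F b
  have hkf : KF F := DRingLib.isKFlat_of_flatAmplitude hb fun i => by
    haveI := (hp i).2
    infer_instance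
  obtain ⟨I, f, hI, hf, -⟩ := DerLib.KInjRes.exists_resolution (RHomEval.A₀ R)
  haveI := hI
  haveI : QuasiIso f := (HomologicalComplex.mem_quasiIso_iff _).1 hf.2
  haveI := isIso_θ (I := I) hkf
  haveI := quasiIso_homCxMap (P := F) f
  exact ⟨(RHomR R _).mapIso (asIso (DerivedCategory.Q.map f)) ≪≫ (asIso (θ F I)).symm ≪≫
    (asIso (DerivedCategory.Q.map (DRing.homCxMap F f))).symm⟩

variable [Algebra R A]

local notation "φ" => algebraMap R A

variable {W : Dual.D A} {δ : (DRing.restrictD (algebraMap R A)).obj W ⟶ unit R}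

/-- The couniversal object of the unit restricts to a perfect object with dual the algebra. -/
theorem exists_dual [HasLTen R] [HasRHom R] (hperf : DRing.IsPerfectModule R A) (hδ : IsCoUniv φ δ) :
    DRing.IsPerfect R ((DRing.restrictD φ).obj W) ∧
      Nonempty ((RHomR R ((DRing.restrictD φ).obj W)).obj (unit R) ≅ TorIndBCLib.rU φ) := by
  obtain ⟨F, a, b, hb, hp, ⟨e⟩⟩ := TorIndBCLib.isPerfect_rU hperf
  let D := DRing.homCx F (RHomEval.A₀ R)
  haveI := TorIndBCLib.isIso_curry_coUniv φ hδ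
  obtain ⟨e₁⟩ := nonempty_RHom_unit_iso hb hp
  let e₂ : (DRing.restrictD φ).obj W ≅ DerivedCategory.Q.obj D :=
    asIso (rhomHomEquiv _ (TorIndBCLib.rU φ) _ ((TorIndBCLib.μR φ).app W ≫ δ)) ≪≫
      ((RHom R).mapIso e.op).app (unit R) ≪≫ e₁
  have hDb := RHomEval.vanishes_dual F hb
  have hDp : DRing.TermwiseFiniteProjective D := RHomEval.finite_projective_dual F hp
  refine ⟨⟨D, _, _, hDb, hDp, ⟨e₂.symm⟩⟩, ?_⟩
  obtain ⟨e₃⟩ := nonempty_RHom_unit_iso hDb hDp
  haveI := RHomEval.quasiIso_evDual F hp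
  exact ⟨((RHom R).mapIso e₂.op).symm.app (unit R) ≪≫ e₃ ≪≫
    (asIso (DerivedCategory.Q.map (RHomEval.evDual F))).symm ≪≫ e⟩

/-- Maps out of shifts of the dual. -/
theorem exists_extEquiv [HasLTen R] [HasRHom R] (hperf : DRing.IsPerfectModule R A) (hδ : IsCoUniv φ δ) (i : ℤ) :
    Nonempty ((((DRing.restrictD φ).obj W)⟦-i⟧ ⟶ unit R) ≃ₗ[R] ((unit R)⟦-i⟧ ⟶ TorIndBCLib.rU φ)) := by
  obtain ⟨e⟩ := (exists_dual hperf hδ).2
  obtain ⟨t⟩ := nonempty_tensor_shiftUnit ((DRing.restrictD φ).obj W) (-i)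
  exact ⟨(precompL t.symm _).trans ((homLEquiv _ _ _).trans (postcompL _ e))⟩

/-- The couniversal object has no higher self extensions. -/
theorem subsingleton_hom_shift (hperf : DRing.IsPerfectModule R A) (hδ : IsCoUniv φ δ) {i : ℤ} (hi : i ≠ 0) :
    Subsingleton (W ⟶ W⟦i⟧) := by
  haveI := Groth.Agent.DualCxLib.hasLTen R
  haveI := Groth.Agent.DualCxLib.hasRHom R
  obtain ⟨e⟩ := exists_extEquiv hperf hδ i
  obtain ⟨u⟩ := nonempty_unit_shift_iso (A := R) i
  have hz : IsZero ((hH R i).obj (TorIndBCLib.rU φ)) :=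
    (DTenLib.Point.isZero_sg (N := ModuleCat.of R A) hi).of_iso
      ((hH R i).mapIso (TorIndBCLib.inDIso (R := R) (R' := A)).symm)
  haveI := ModuleCat.subsingleton_of_isZero hz
  haveI : Subsingleton ((sg (ModuleCat.of R R) i) ⟶ TorIndBCLib.rU φ) := (evGen_injective _ i).subsingleton
  haveI : Subsingleton ((unit R)⟦-i⟧ ⟶ TorIndBCLib.rU φ) := (precompL u _).toEquiv.subsingleton
  have hs : Subsingleton (((DRing.restrictD φ).obj W)⟦-i⟧ ⟶ unit R) := e.toEquiv.subsingleton
  haveI : Subsingleton ((DRing.restrictD φ).obj (W⟦-i⟧) ⟶ unit R) :=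
    @Equiv.subsingleton _ _ ((((DRing.restrictD φ).commShiftIso (-i)).app W).homCongr (Iso.refl _)) hs
  haveI : Subsingleton (W⟦-i⟧ ⟶ W) := ((Equiv.ofBijective _ (hδ (W⟦-i⟧))).subsingleton)
  exact (shiftL W W i).toEquiv.symm.subsingleton

/-- The couniversal object has only scalar endomorphisms. -/
theorem toEnd_bijective (hsurj : Function.Surjective φ) (hperf : DRing.IsPerfectModule R A) (hδ : IsCoUniv φ δ) :
    Function.Bijective fun a : A => a • 𝟙 W := by
  haveI := Groth.Agent.DualCxLib.hasLTen R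
  haveI := Groth.Agent.DualCxLib.hasRHom R
  obtain ⟨e⟩ := exists_extEquiv hperf hδ 0
  obtain ⟨u⟩ := nonempty_unit_iso (A := R)
  let z : ((DRing.restrictD φ).obj W)⟦-(0 : ℤ)⟧ ≅ (DRing.restrictD φ).obj W :=
    eqToIso (congrArg (fun j : ℤ => ((DRing.restrictD φ).obj W)⟦j⟧) neg_zero) ≪≫ (shiftFunctorZero (Dual.D R) ℤ).app _
  let z' : (unit R)⟦-(0 : ℤ)⟧ ≅ sg (ModuleCat.of R R) 0 :=
    eqToIso (congrArg (fun j : ℤ => (unit R)⟦j⟧) neg_zero) ≪≫ (shiftFunctorZero (Dual.D R) ℤ).app _ ≪≫ u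
  let S : (ModuleCat.of R R ⟶ ModuleCat.of R A) ≃ₗ[R] (sg (ModuleCat.of R R) 0 ⟶ sg (ModuleCat.of R A) 0) :=
    LinearEquiv.ofBijective ((DerivedCategory.singleFunctor (ModuleCat.{u} R) 0).mapLinearMap R)
      ⟨fun _ _ h => (DerivedCategory.singleFunctor (ModuleCat.{u} R) 0).map_injective h,
        fun g => (DerivedCategory.singleFunctor (ModuleCat.{u} R) 0).map_surjective g⟩
  let c : (((DRing.restrictD φ).obj W) ⟶ unit R) ≃ₗ[R] A :=
    (precompL z.symm _).trans (e.trans ((precompL z' _).trans ((postcompL _ (TorIndBCLib.inDIso (R := R) (R' := A)).symm).trans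
      (S.symm.trans (ModuleCat.homLinearEquiv.trans (LinearMap.ringLmapEquivSelf R R A))))))
  let T : (W ⟶ W) → A := fun f => c ((DRing.restrictD φ).map f ≫ δ)
  have hT : Function.Bijective T := c.bijective.comp (hδ W)
  have hlin : ∀ (x : A) f, T (x • f) = x * T f := fun x f => by
    obtain ⟨r, rfl⟩ := hsurj x
    show c _ = _
    rw [restrictD_smul, Linear.smul_comp, map_smul, Algebra.smul_def]
  obtain ⟨g, hg⟩ := hT.2 1
  have hrep : ∀ f, f = T f • g := fun f => hT.1 (by rw [hlin, hg, mul_one])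
  have h1 : T (𝟙 W) * T (g ≫ g) = 1 := by
    have h2 : g = T (𝟙 W) • (g ≫ g) := by
      conv_lhs => rw [← Category.id_comp g, hrep (𝟙 W), Linear.smul_comp]
    rw [← hlin, ← h2, hg]
  refine ⟨fun x y hxy => ?_, fun f => ⟨T f * T (g ≫ g), hT.1 ?_⟩⟩
  · have := congrArg T hxy
    simp only [hlin] at this
    calc x = x * T (𝟙 W) * T (g ≫ g) := by rw [mul_assoc, h1, mul_one]
      _ = y * T (𝟙 W) * T (g ≫ g) := by rw [this]
      _ = y := by rw [mul_assoc, h1, mul_one]
  · rw [hlin, mul_assoc, mul_comm (T (g ≫ g)), h1, mul_one]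

end ShriekRingLib
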