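import Groth.Agent.TorIndBCLib.Apps
import Groth.Agent.ShriekRingLib.SelfDual
import Groth.Agent.ShriekRingLib.Basic
import Groth.Agent.DualCxLib.Chart2
import Mathlib.RingTheory.SimpleModule.InjectiveProjective
import Mathlib.CategoryTheory.Abelian.Injective.Dimension

/-!
# The upper shriek of the base of a flat map
-/

set_option autoImplicit false
set_option linter.all false
set_option maxHeartbeats 1000000

universe u

open CategoryTheory CategoryTheory.Limits MonoidalCategory
open Groth.Agent DTen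
open scoped TensorProduct
open DTenLib.Point (hH sg)

attribute [local instance] HasDerivedCategory.standard

noncomputable section

namespace ShriekRingLib

open FinDualLib Groth.Agent.DualCxLib TorIndBCLib

/-- The ring in degree zero is the unit. -/
def inDUnit (A : Type u) [CommRing A] : Dual.inD A A ≅ unit A :=
  (DerivedCategory.singleFunctorIsoCompQ (ModuleCat.{u} A) 0).app (ModuleCat.of A A)

/-- Base change of the unit is the unit. -/
theorem nonempty_univ_unit_iso {A B : Type u} [CommRing A] [CommRing B] {φ : A →+* B} {Z : Dual.D B}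
    {η : Dual.inD A A ⟶ (DRing.restrictD φ).obj Z} (hη : IsUniv φ η) : Nonempty (Z ≅ unit B) := by
  let o := 𝟙_ (DRing.Cx A)
  let e₀ : (extCx φ).obj o ≅ 𝟙_ (DRing.Cx B) :=
    (HomologicalComplex.singleMapHomologicalComplex (ModuleCat.extendScalars.{u, u, u} φ)
        (ComplexShape.up ℤ) 0).app (𝟙_ (ModuleCat.{u} A)) ≪≫
      (HomologicalComplex.single (ModuleCat.{u} B) (ComplexShape.up ℤ) 0).mapIso
        (Functor.Monoidal.εIso (ModuleCat.extendScalars.{u, u, u} φ)).symm
  obtain ⟨k, -⟩ := exists_iso_univ hη ((isUniv_γ_kf φ DTenLib.kf_unit).comp_iso (inDUnit A) (Iso.refl _))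
  exact ⟨k ≪≫ DerivedCategory.Q.mapIso e₀⟩

/-- A field is dualizing. -/
theorem isDualizing_field (k : Type u) [Field k] : Dual.IsDualizing k (Dual.inD k k) := by
  haveI : Module.Injective k k := Module.injective_of_isSemisimpleRing k k
  haveI : Injective (ModuleCat.of k k) := Module.injective_object_of_injective_module k k
  exact isDualizing_inD_self ⟨1, inferInstance⟩

variable (R A : Type u) [CommRing R] [CommRing A] [IsNoetherianRing R] [IsNoetherianRing A] [Algebra R A]
  [Module.Flat R A] (n : ℕ) (ψ : MvPolynomial (Fin n) R →ₐ[R] A)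
  [DRing.HasLBaseChange (algebraMap R (MvPolynomial (Fin n) R))]
  {Rψ : Dual.D (MvPolynomial (Fin n) R) ⥤ Dual.D A}

/-- The unit version of the couniversal map of the upper shriek. -/
theorem exists_coUniv_unit (adj : DRing.restrictD ψ.toRingHom ⊣ Rψ) :
    ∃ (W : Dual.D A) (δ : (DRing.restrictD ψ.toRingHom).obj W ⟶ unit (MvPolynomial (Fin n) R)),
      IsCoUniv ψ.toRingHom δ ∧ Nonempty (Dual2.shriekVia n Rψ (Dual.inD R R) ≅ W⟦(n : ℤ)⟧) := by
  obtain ⟨η, hη⟩ := exists_univ_base (algebraMap R (MvPolynomial (Fin n) R)) (Dual.inD R R)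
  obtain ⟨e⟩ := nonempty_univ_unit_iso hη
  exact ⟨_, _, (isCoUniv_of_adjunction ψ.toRingHom adj _).postcomp _ e, ⟨Iso.refl _⟩⟩

/-- Perfectness of the restriction to the polynomial ring. -/
theorem exists_perfect_unit (hψ : Function.Surjective ψ) (adj : DRing.restrictD ψ.toRingHom ⊣ Rψ) :
    ∃ W : Dual.D A, DRing.IsPerfect (MvPolynomial (Fin n) R) ((DRing.restrictD ψ.toRingHom).obj W) ∧
      (Function.Bijective fun a : A => a • 𝟙 W) ∧ (∀ i : ℤ, i ≠ 0 → Subsingleton (W ⟶ W⟦i⟧)) ∧
      Nonempty (Dual2.shriekVia n Rψ (Dual.inD R R) ≅ W⟦(n : ℤ)⟧) := by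
  obtain ⟨W, δ, hδ, hW⟩ := exists_coUniv_unit R A n ψ adj
  let P := MvPolynomial (Fin n) R
  letI : Algebra P A := ψ.toRingHom.toAlgebra
  haveI : Module.Finite P A := Module.Finite.of_surjective (Algebra.linearMap P A) hψ
  haveI : IsScalarTower R P A := IsScalarTower.of_algebraMap_eq fun r => (ψ.commutes r).symm
  have hperf : DRing.IsPerfectModule P A := isPerfectModule_of_flat R n A
  haveI := Groth.Agent.DualCxLib.hasLTen P
  haveI := Groth.Agent.DualCxLib.hasRHom P
  exact ⟨W, (exists_dual hperf hδ).1, toEnd_bijective hψ hperf hδ,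
    fun i hi => subsingleton_hom_shift hperf hδ hi, hW⟩

/-- Scalars are all endomorphisms of a shift. -/
theorem toEnd_bijective_shift {W ω : Dual.D A} (n : ℤ) (e : ω ≅ W⟦n⟧)
    (h : Function.Bijective fun a : A => a • 𝟙 W) : Function.Bijective fun a : A => a • 𝟙 ω := by
  let L : (W ⟶ W) ≃ₗ[A] (ω ⟶ ω) :=
    (LinearEquiv.ofBijective ((shiftFunctor (Dual.D A) n).mapLinearMap A)
      ⟨fun _ _ h => (shiftFunctor (Dual.D A) n).map_injective h,
        fun g => (shiftFunctor (Dual.D A) n).map_surjective g⟩).trans (Linear.homCongr A e.symm e.symm)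
  have h1 : L (𝟙 W) = 𝟙 ω := by
    show Linear.homCongr A e.symm e.symm ((shiftFunctor (Dual.D A) n).map (𝟙 W)) = 𝟙 ω
    simp [Linear.homCongr_apply]
  have h2 : (fun a : A => a • 𝟙 ω) = L ∘ fun a => a • 𝟙 W :=
    funext fun a => by rw [Function.comp_apply, map_smul, h1]
  rw [h2]
  exact L.bijective.comp h

/-- No higher extensions survive shifting. -/
theorem subsingleton_ext_shift {W ω : Dual.D A} (n : ℤ) (e : ω ≅ W⟦n⟧) {i : ℤ} (h : Subsingleton (W ⟶ W⟦i⟧)) :
    Subsingleton (ω ⟶ ω⟦i⟧) :=
  ((e.homCongr ((shiftFunctor (Dual.D A) i).mapIso e ≪≫ (shiftFunctorComm (Dual.D A) n i).app W)).trans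
    (Equiv.ofBijective _ ⟨(shiftFunctor (Dual.D A) n).map_injective, (shiftFunctor (Dual.D A) n).map_surjective⟩).symm).subsingleton

attribute [local instance] MvPolynomial.algebraMvPolynomial Algebra.TensorProduct.rightAlgebra

/-- The fibres of the upper shriek are dualizing. -/
theorem isDualizing_fibre (hψ : Function.Surjective ψ) (adj : DRing.restrictD ψ.toRingHom ⊣ Rψ)
    (k : Type u) [Field k] [Algebra R k]
    [DRing.HasLBaseChange (Algebra.TensorProduct.includeRight : A →ₐ[R] k ⊗[R] A).toRingHom] :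
    Dual.IsDualizing (k ⊗[R] A)
      ((DRing.LBaseChange (Algebra.TensorProduct.includeRight : A →ₐ[R] k ⊗[R] A).toRingHom).obj
        (Dual2.shriekVia n Rψ (Dual.inD R R))) := by
  let P := MvPolynomial (Fin n) R
  let P' := MvPolynomial (Fin n) k
  let A' := k ⊗[R] A
  haveI : DRing.HasLBaseChange (algebraMap A A') :=
    ‹DRing.HasLBaseChange (Algebra.TensorProduct.includeRight : A →ₐ[R] k ⊗[R] A).toRingHom›
  haveI : IsScalarTower R A A' := IsScalarTower.of_algebraMap_eq fun r =>
    (Algebra.TensorProduct.includeRight.commutes r).symm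
  letI : Algebra P A := ψ.toRingHom.toAlgebra
  haveI : Module.Finite P A := Module.Finite.of_surjective (Algebra.linearMap P A) hψ
  let τ : P' →+* A' := (MvPolynomial.aeval fun i => algebraMap A A' (ψ (MvPolynomial.X i))).toRingHom
  letI : Algebra P' A' := τ.toAlgebra
  letI : Algebra P A' := ((algebraMap A A').comp (algebraMap P A)).toAlgebra
  haveI : IsScalarTower P A A' := IsScalarTower.of_algebraMap_eq fun _ => rfl
  have hPA : ∀ r, algebraMap P A (MvPolynomial.C r) = algebraMap R A r := ψ.commutes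
  haveI : IsScalarTower P P' A' := IsScalarTower.of_algebraMap_eq' (by
    refine MvPolynomial.ringHom_ext (fun r => ?_) fun i => ?_
    · show algebraMap A A' (algebraMap P A (MvPolynomial.C r)) = τ (MvPolynomial.map (algebraMap R k) (MvPolynomial.C r))
      rw [hPA, MvPolynomial.map_C, ← IsScalarTower.algebraMap_apply R A A', IsScalarTower.algebraMap_apply R k A']
      exact (MvPolynomial.aeval_C (R := k) (fun i => algebraMap A A' (ψ (MvPolynomial.X i))) _).symm
    · show algebraMap A A' (ψ (MvPolynomial.X i)) = τ (MvPolynomial.map (algebraMap R k) (MvPolynomial.X i))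
      rw [MvPolynomial.map_X]
      exact (MvPolynomial.aeval_X (R := k) (fun i => algebraMap A A' (ψ (MvPolynomial.X i))) i).symm)
  haveI : IsScalarTower R P P' := IsScalarTower.of_algebraMap_eq (R := R) (S := P) (A := P') fun r => (MvPolynomial.map_C (algebraMap R k) r).symm
  haveI : IsScalarTower k P' A' := IsScalarTower.of_algebraMap_eq fun r => (MvPolynomial.aeval_C _ r).symm
  haveI : IsScalarTower R P A := IsScalarTower.of_algebraMap_eq fun r => (ψ.commutes r).symm
  haveI : IsScalarTower R P' A' := IsScalarTower.of_algebraMap_eq fun r => by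
    rw [IsScalarTower.algebraMap_apply R k P', ← IsScalarTower.algebraMap_apply k P' A',
      ← IsScalarTower.algebraMap_apply R k A']
  have hbig : Algebra.IsPushout R A k A' := inferInstance
  haveI hpo : Algebra.IsPushout P A P' A' :=
    (Algebra.IsPushout.comp_iff (T := A) (T' := A') R P k P').1 hbig
  haveI : Algebra.IsPushout P P' A A' := hpo.symm
  haveI : Algebra.IsPushout R P k P' := inferInstance
  have hti : TorInd P P' A := torInd_cancel R k A P P' (torInd_of_flat R k A) (torInd_of_flat R k P)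
  have hperf : DRing.IsPerfectModule P A := isPerfectModule_of_flat R n A
  have hsurjP : Function.Surjective τ := fun x => by
    obtain ⟨w, rfl⟩ := (Algebra.IsPushout.equiv P P' A A').surjective x
    induction w using TensorProduct.induction_on with
    | zero => exact ⟨0, by rw [map_zero, map_zero]⟩
    | tmul s a =>
      obtain ⟨p, rfl⟩ := hψ a
      refine ⟨s * algebraMap P P' p, ?_⟩
      rw [Algebra.IsPushout.equiv_tmul, map_mul]
      exact congrArg _ ((IsScalarTower.algebraMap_apply P P' A' p).symm.trans (IsScalarTower.algebraMap_apply P A A' p))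
    | add x y hx hy =>
      obtain ⟨x', hx'⟩ := hx
      obtain ⟨y', hy'⟩ := hy
      exact ⟨x' + y', by rw [map_add, map_add, hx', hy']⟩
  obtain ⟨W, δ, hδ, ⟨eW⟩⟩ := exists_coUniv_unit R A n ψ adj
  obtain ⟨η₀, hη₀⟩ := exists_univ_base (algebraMap A A') (Dual2.shriekVia n Rψ (Dual.inD R R))
  obtain ⟨Z', ηZ, hηZ⟩ := exists_univ_any (algebraMap A A') W
  obtain ⟨K', ηK, hηK⟩ := exists_univ_any (algebraMap P P') (unit P)
  obtain ⟨eK⟩ := nonempty_univ_unit_iso (hηK.comp_iso (inDUnit P) (Iso.refl _))
  obtain ⟨ε', hε'⟩ := exists_coUniv_bc P P' A A' hti hperf hδ hηK hηZ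
  haveI : DRing.HasLBaseChange (algebraMap k P') := Groth.Agent.DRingLib.hasLBaseChange _
  obtain ⟨ηk, hηk⟩ := exists_univ_base (algebraMap k P') (Dual.inD k k)
  obtain ⟨ek⟩ := nonempty_univ_unit_iso hηk
  have hK' : Dual.IsDualizing P' K' :=
    isDualizing_of_iso (ek ≪≫ eK.symm) (isDualizing_base n (isDualizing_field k))
  haveI : Module.Finite P' A' := Module.Finite.of_surjective (Algebra.linearMap P' A') hsurjP
  obtain ⟨e, -⟩ := exists_iso_univ hη₀ ((isUniv_shift hηZ (n : ℤ)).comp_iso eW (Iso.refl _))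
  haveI : IsNoetherianRing A' := isNoetherianRing_of_surjective P' A' τ hsurjP
  exact isDualizing_of_iso e.symm (isDualizing_shift (isDualizing_of_coUniv hK' hε') n)

end ShriekRingLib
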