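import Groth.Agent.ShriekRingLib.StepAbs
import Groth.Agent.FlatExtLib.Unit

/-!
# Universal and couniversal maps: composition, existence, transport along ring isomorphisms
-/

set_option autoImplicit false
set_option linter.all false
set_option maxHeartbeats 1000000

universe u

open CategoryTheory CategoryTheory.Limits
open Groth.Agent DTen

attribute [local instance] HasDerivedCategory.standard

noncomputable section

namespace ShriekRingLib

open FinDualLib Groth.Agent.DualCxLib

variable {A B C : Type u} [CommRing A] [CommRing B] [CommRing C]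

/-- Universal maps compose. -/
theorem isUniv_comp {φ : A →+* B} {π : B →+* C} {θ : A →+* C} (h : π.comp φ = θ) {X : Dual.D A}
    {Z₁ : Dual.D B} {η₁ : X ⟶ (DRing.restrictD φ).obj Z₁} (h₁ : IsUniv φ η₁)
    {Z₂ : Dual.D C} {η₂ : Z₁ ⟶ (DRing.restrictD π).obj Z₂} (h₂ : IsUniv π η₂) :
    IsUniv θ (η₁ ≫ (DRing.restrictD φ).map η₂ ≫ (resDComp φ π θ h).inv.app Z₂) := by
  intro W
  let c := (resDComp φ π θ h).app W
  let g : (Z₂ ⟶ W) ≃ (X ⟶ (DRing.restrictD θ).obj W) :=
    ((Equiv.ofBijective _ (h₂ W)).trans (Equiv.ofBijective _ (h₁ _))).trans ((Iso.refl X).homCongr c.symm)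
  convert g.bijective using 1
  funext f
  show (η₁ ≫ _ ≫ _) ≫ _ = 𝟙 X ≫ (η₁ ≫ (DRing.restrictD φ).map (η₂ ≫ (DRing.restrictD π).map f)) ≫ c.inv
  rw [Category.id_comp, Functor.map_comp]
  simp only [Category.assoc]
  refine congrArg (η₁ ≫ (DRing.restrictD φ).map η₂ ≫ ·) ?_
  exact ((resDComp φ π θ h).inv.naturality f).symm

/-- Flat maps have universal objects. -/
theorem exists_univ [Algebra A B] [Module.Flat A B] (X : Dual.D A) :
    ∃ (Z : Dual.D B) (η : X ⟶ (DRing.restrictD (algebraMap A B)).obj Z), IsUniv (algebraMap A B) η :=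
  ⟨_, _, (FlatExtLib.isUniv_γ_flat (DerivedCategory.Q.objPreimage X)).comp_iso
    (DerivedCategory.Q.objObjPreimageIso X).symm (Iso.refl _)⟩

/-- Restriction along the identity, on complexes. -/
def resCxId : resCx (RingHom.id A) ≅ 𝟭 (DRing.Cx A) :=
  NatIso.ofComponents (fun K => HomologicalComplex.Hom.isoOfComponents
    (fun i => (ModuleCat.restrictScalarsId'App (RingHom.id A) rfl (K.X i))) fun i j _ => rfl) fun _ => rfl

/-- Restriction along the identity. -/
def resDId : DRing.restrictD (RingHom.id A) ≅ 𝟭 (Dual.D A) :=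
  Localization.liftNatIso DerivedCategory.Q (HomologicalComplex.quasiIso (ModuleCat.{u} A) (ComplexShape.up ℤ))
    (resCx (RingHom.id A) ⋙ DerivedCategory.Q) DerivedCategory.Q _ _
    (Functor.isoWhiskerRight resCxId _ ≪≫ Functor.leftUnitor _)

/-- Restriction along a ring isomorphism is an equivalence. -/
def resDEquiv (e : A ≃+* B) : Dual.D B ≌ Dual.D A :=
  CategoryTheory.Equivalence.mk (DRing.restrictD e.toRingHom) (DRing.restrictD e.symm.toRingHom)
    (resDId.symm ≪≫ resDComp e.symm.toRingHom e.toRingHom (RingHom.id B) (RingHom.ext e.apply_symm_apply))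
    ((resDComp e.toRingHom e.symm.toRingHom (RingHom.id A) (RingHom.ext e.symm_apply_apply)).symm ≪≫ resDId)

theorem map_bijective_of_equiv (e : A ≃+* B) (X Y : Dual.D B) :
    Function.Bijective fun f : X ⟶ Y => (DRing.restrictD e.toRingHom).map f := by
  haveI : (DRing.restrictD e.toRingHom).IsEquivalence := (resDEquiv e).isEquivalence_functor
  exact ⟨fun f g h => (DRing.restrictD e.toRingHom).map_injective h,
    fun h => ⟨(DRing.restrictD e.toRingHom).preimage h, (DRing.restrictD e.toRingHom).map_preimage h⟩⟩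

/-- An isomorphism is universal along a ring isomorphism. -/
theorem isUniv_of_iso (e : A ≃+* B) {X : Dual.D A} {Z : Dual.D B}
    (i : X ≅ (DRing.restrictD e.toRingHom).obj Z) : IsUniv e.toRingHom i.hom := fun W =>
  (i.symm.homCongr (Iso.refl _)).bijective.comp (map_bijective_of_equiv e Z W) |> fun h => by
    convert h using 1
    funext f
    simp [Iso.homCongr]
    rfl

/-- An isomorphism is couniversal along a ring isomorphism. -/
theorem isCoUniv_of_iso (e : A ≃+* B) {X : Dual.D A} {Z : Dual.D B}
    (i : (DRing.restrictD e.toRingHom).obj Z ≅ X) : IsCoUniv e.toRingHom i.hom := fun W =>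
  ((Iso.refl _).homCongr i).bijective.comp (map_bijective_of_equiv e W Z) |> fun h => by
    convert h using 1
    funext f
    simp [Iso.homCongr]
    rfl

/-- Every object is restricted along a ring isomorphism. -/
theorem exists_res_iso (e : A ≃+* B) (X : Dual.D A) :
    ∃ Z : Dual.D B, Nonempty ((DRing.restrictD e.toRingHom).obj Z ≅ X) :=
  ⟨(DRing.restrictD e.symm.toRingHom).obj X, ⟨(resDEquiv e).counitIso.app X⟩⟩

end ShriekRingLib
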