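import Groth.Agent.ShriekRingLib.Iter

/-!
# The upper shriek of a finite map, and independence of the presentation
-/

set_option autoImplicit false
set_option linter.all false
set_option maxHeartbeats 1000000

universe u

open CategoryTheory CategoryTheory.Limits
open Groth.Agent DTen

attribute [local instance] HasDerivedCategory.standard

noncomputable section

namespace ShriekRingLib

open FinDualLib Groth.Agent.DualCxLib

variable {R A : Type u} [CommRing R] [CommRing A]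

/-- The upper shriek is couniversal. -/
theorem exists_coUniv_shriekVia [Algebra R A] (n : ℕ) (ψ : MvPolynomial (Fin n) R →ₐ[R] A)
    [DRing.HasLBaseChange (algebraMap R (MvPolynomial (Fin n) R))]
    {Rψ : Dual.D (MvPolynomial (Fin n) R) ⥤ Dual.D A} (adj : DRing.restrictD ψ.toRingHom ⊣ Rψ) (K : Dual.D R) :
    ∃ ε : (DRing.restrictD ψ.toRingHom).obj (Dual2.shriekVia n Rψ K) ⟶
        ((DRing.LBaseChange (algebraMap R (MvPolynomial (Fin n) R))).obj K)⟦(n : ℤ)⟧,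
      IsCoUniv ψ.toRingHom ε :=
  ⟨_, isCoUniv_shift (isCoUniv_of_adjunction ψ.toRingHom adj
    ((DRing.LBaseChange (algebraMap R (MvPolynomial (Fin n) R))).obj K)) n⟩

theorem nonempty_iso_of_coUniv {B : Type u} [CommRing B] {φ φ' : A →+* B} (h : φ = φ') {ω ω' : Dual.D A}
    (e : ω ≅ ω') {Z Z' : Dual.D B} {ε : (DRing.restrictD φ).obj Z ⟶ ω} (hε : IsCoUniv φ ε)
    {ε' : (DRing.restrictD φ').obj Z' ⟶ ω'} (hε' : IsCoUniv φ' ε') : Nonempty (Z ≅ Z') := by
  subst h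
  obtain ⟨k, -⟩ := FinDualLib.exists_iso _ (hε.postcomp _ e) hε'
  exact ⟨k⟩

/-- The upper shriek of a finite map. -/
theorem shriekVia_iso_of_finite [Algebra R A] [Module.Finite R A] (n : ℕ) (ψ : MvPolynomial (Fin n) R →ₐ[R] A)
    [DRing.HasLBaseChange (algebraMap R (MvPolynomial (Fin n) R))]
    {Rψ : Dual.D (MvPolynomial (Fin n) R) ⥤ Dual.D A} (adj : DRing.restrictD ψ.toRingHom ⊣ Rψ)
    {R' : Dual.D R ⥤ Dual.D A} (adjR : DRing.restrictD (algebraMap R A) ⊣ R') (K : Dual.D R) :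
    Nonempty (Dual2.shriekVia n Rψ K ≅ R'.obj K) := by
  obtain ⟨η, -, hη⟩ := DualBCLib.exists_bc_univ_base (S := MvPolynomial (Fin n) R) K
  have hc : ψ.toRingHom.comp (algebraMap R (MvPolynomial (Fin n) R)) = algebraMap R A := RingHom.ext ψ.commutes
  have key : ∀ θ : R →+* A, θ = algebraMap R A →
      ψ.toRingHom.comp (algebraMap R (MvPolynomial (Fin n) R)) = θ →
      ∀ {ε : (DRing.restrictD θ).obj (R'.obj K) ⟶ K}, IsCoUniv θ ε →
      ∃ ε' : (DRing.restrictD ψ.toRingHom).obj (R'.obj K) ⟶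
        ((DRing.LBaseChange (algebraMap R (MvPolynomial (Fin n) R))).obj K)⟦(n : ℤ)⟧, IsCoUniv ψ.toRingHom ε' := by
    rintro θ hθ rfl ε hε
    exact exists_poly n ψ.toRingHom (fun i => by rw [hθ]; exact Algebra.IsIntegral.isIntegral (R := R) (ψ (MvPolynomial.X i))) hη hε
  obtain ⟨ε', hε'⟩ := key _ rfl hc (isCoUniv_of_adjunction (algebraMap R A) adjR K)
  obtain ⟨ε, hε⟩ := exists_coUniv_shriekVia n ψ adj K
  exact nonempty_iso_of_coUniv rfl (Iso.refl _) hε hε'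

section Two

variable {n m : ℕ}

/-- Half of the comparison of two presentations. -/
theorem exists_half (ψ : MvPolynomial (Fin n) R →+* A) (hψ : Function.Surjective ψ) (y : Fin m → A)
    {K : Dual.D R} {E : Dual.D (MvPolynomial (Fin n) R)}
    {η : K ⟶ (DRing.restrictD (algebraMap R (MvPolynomial (Fin n) R))).obj E}
    (hη : IsUniv (algebraMap R (MvPolynomial (Fin n) R)) η)
    {Z : Dual.D A} {ε : (DRing.restrictD ψ).obj Z ⟶ E⟦(n : ℤ)⟧} (hε : IsCoUniv ψ ε) :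
    ∃ (E₂ : Dual.D (MvPolynomial (Fin m) (MvPolynomial (Fin n) R)))
      (η₂ : K ⟶ (DRing.restrictD (algebraMap R (MvPolynomial (Fin m) (MvPolynomial (Fin n) R)))).obj E₂)
      (ε₂ : (DRing.restrictD (MvPolynomial.eval₂Hom ψ y)).obj Z ⟶ E₂⟦((n + m : ℕ) : ℤ)⟧),
      IsUniv (algebraMap R (MvPolynomial (Fin m) (MvPolynomial (Fin n) R))) η₂ ∧
        IsCoUniv (MvPolynomial.eval₂Hom ψ y) ε₂ := by
  let P := MvPolynomial (Fin n) R
  obtain ⟨E₂, η₁, hη₁⟩ := exists_univ (A := P) (B := MvPolynomial (Fin m) P) E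
  let τ := MvPolynomial.eval₂Hom ψ y
  have hτ : τ.comp (algebraMap P (MvPolynomial (Fin m) P)) = ψ :=
    RingHom.ext fun p => MvPolynomial.eval₂_C ψ y p
  have key : ∀ θ : P →+* A, θ = ψ → τ.comp (algebraMap P (MvPolynomial (Fin m) P)) = θ →
      ∀ {ε : (DRing.restrictD θ).obj Z ⟶ E⟦(n : ℤ)⟧}, IsCoUniv θ ε →
      ∃ ε₂ : (DRing.restrictD τ).obj Z ⟶ (E₂⟦(n : ℤ)⟧)⟦(m : ℤ)⟧, IsCoUniv τ ε₂ := by
    rintro θ hθ rfl ε hε
    refine exists_poly m τ (fun i => ?_) (isUniv_shift hη₁ (n : ℤ)) hε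
    obtain ⟨p, hp⟩ := hψ (τ (MvPolynomial.X i))
    rw [hθ, ← hp]
    exact ψ.isIntegralElem_map
  obtain ⟨ε₂, hε₂⟩ := key _ rfl hτ hε
  exact ⟨E₂, _, _, isUniv_comp (IsScalarTower.algebraMap_eq R P _).symm hη hη₁,
    hε₂.postcomp _ (shiftAddIso E₂ (n : ℤ) (m : ℤ) ((n + m : ℕ) : ℤ) (by push_cast; ring))⟩

/-- Two presentations give the same upper shriek. -/
theorem nonempty_iso_presentations (ψ : MvPolynomial (Fin n) R →+* A) (hψ : Function.Surjective ψ)
    (ψ' : MvPolynomial (Fin m) R →+* A) (hψ' : Function.Surjective ψ')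
    (hR : ψ.comp (algebraMap R (MvPolynomial (Fin n) R)) = ψ'.comp (algebraMap R (MvPolynomial (Fin m) R)))
    {K : Dual.D R} {E : Dual.D (MvPolynomial (Fin n) R)} {E' : Dual.D (MvPolynomial (Fin m) R)}
    {η : K ⟶ (DRing.restrictD (algebraMap R (MvPolynomial (Fin n) R))).obj E}
    (hη : IsUniv (algebraMap R (MvPolynomial (Fin n) R)) η)
    {η' : K ⟶ (DRing.restrictD (algebraMap R (MvPolynomial (Fin m) R))).obj E'}
    (hη' : IsUniv (algebraMap R (MvPolynomial (Fin m) R)) η')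
    {Z : Dual.D A} {ε : (DRing.restrictD ψ).obj Z ⟶ E⟦(n : ℤ)⟧} (hε : IsCoUniv ψ ε)
    {Z' : Dual.D A} {ε' : (DRing.restrictD ψ').obj Z' ⟶ E'⟦(m : ℤ)⟧} (hε' : IsCoUniv ψ' ε') :
    Nonempty (Z ≅ Z') := by
  obtain ⟨E₂, η₂, ε₂, hη₂, hε₂⟩ := exists_half ψ hψ (fun j => ψ' (MvPolynomial.X j)) hη hε
  obtain ⟨E₂', η₂', ε₂', hη₂', hε₂'⟩ := exists_half ψ' hψ' (fun i => ψ (MvPolynomial.X i)) hη' hε'
  let S := MvPolynomial (Fin m) (MvPolynomial (Fin n) R)
  let S' := MvPolynomial (Fin n) (MvPolynomial (Fin m) R)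
  let e : S' ≃+* S := (MvPolynomial.commAlgEquiv R (Fin n) (Fin m)).toRingEquiv
  let τ := MvPolynomial.eval₂Hom ψ (fun j => ψ' (MvPolynomial.X j))
  let τ' := MvPolynomial.eval₂Hom ψ' (fun i => ψ (MvPolynomial.X i))
  have hτ : τ.comp e.toRingHom = τ' := by
    refine MvPolynomial.ringHom_ext (fun p => ?_) fun i => ?_
    · have h1 : (τ.comp e.toRingHom).comp MvPolynomial.C = τ'.comp MvPolynomial.C := by
        refine MvPolynomial.ringHom_ext (fun r => ?_) fun j => ?_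
        · show τ (MvPolynomial.commAlgEquiv R _ _ (MvPolynomial.C (MvPolynomial.C r))) = τ' (MvPolynomial.C (MvPolynomial.C r))
          rw [MvPolynomial.commAlgEquiv_C, MvPolynomial.map_C]
          simp only [τ, τ', MvPolynomial.eval₂Hom_C]
          exact congr($hR r)
        · show τ (MvPolynomial.commAlgEquiv R _ _ (MvPolynomial.C (MvPolynomial.X j))) = τ' (MvPolynomial.C (MvPolynomial.X j))
          rw [MvPolynomial.commAlgEquiv_C_X]
          simp [τ, τ']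
      exact congr($h1 p)
    · show τ (MvPolynomial.commAlgEquiv R _ _ (MvPolynomial.X i)) = τ' (MvPolynomial.X i)
      rw [MvPolynomial.commAlgEquiv_X]
      simp [τ, τ']
  have heC : e.symm.toRingHom.comp (algebraMap R S) = algebraMap R S' :=
    RingHom.ext fun r => (MvPolynomial.commAlgEquiv R (Fin n) (Fin m)).symm.commutes r
  obtain ⟨W, ⟨i⟩⟩ := exists_res_iso e.symm E₂
  obtain ⟨k, -⟩ := exists_iso_univ (isUniv_comp heC hη₂ (isUniv_of_iso e.symm i.symm)) hη₂'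
  let j₀ : (DRing.restrictD e.toRingHom).obj E₂ ≅ W :=
    (DRing.restrictD e.toRingHom).mapIso i.symm ≪≫ (resDEquiv e.symm).unitIso.symm.app W
  let j : (DRing.restrictD e.toRingHom).obj (E₂⟦((n + m : ℕ) : ℤ)⟧) ≅ E₂'⟦((m + n : ℕ) : ℤ)⟧ :=
    ((DRing.restrictD e.toRingHom).commShiftIso ((n + m : ℕ) : ℤ)).app E₂ ≪≫
      (shiftFunctor _ ((n + m : ℕ) : ℤ)).mapIso (j₀ ≪≫ k) ≪≫ eqToIso (by rw [Nat.add_comm])
  exact nonempty_iso_of_coUniv rfl (Iso.refl _) (isCoUniv_comp hτ (isCoUniv_of_iso e j) hε₂) hε₂'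

end Two

end ShriekRingLib
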