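import Groth.Agent.ShriekRingLib.BaseChange
import Groth.Agent.ShriekRingLib.Indep
import Mathlib.RingTheory.TensorProduct.MvPolynomial

/-!
# Composition and flat base change of the upper shriek
-/

set_option autoImplicit false
set_option linter.all false
set_option maxHeartbeats 1000000

universe u

open CategoryTheory CategoryTheory.Limits
open Groth.Agent DTen
open scoped TensorProduct

attribute [local instance] HasDerivedCategory.standard

noncomputable section

namespace ShriekRingLib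

open FinDualLib Groth.Agent.DualCxLib

/-- Transport of a presentation along a ring isomorphism. -/
theorem exists_transport {R P₁ P₂ A : Type u} [CommRing R] [CommRing P₁] [CommRing P₂] [CommRing A]
    (e : P₁ ≃+* P₂) {θ₁ : R →+* P₁} {θ₂ : R →+* P₂} (he : e.symm.toRingHom.comp θ₂ = θ₁)
    {τ : P₂ →+* A} {τ₁ : P₁ →+* A} (hτ : τ.comp e.toRingHom = τ₁)
    {K : Dual.D R} {E : Dual.D P₂} {η : K ⟶ (DRing.restrictD θ₂).obj E} (hη : IsUniv θ₂ η) (d : ℤ)
    {Z : Dual.D A} {ε : (DRing.restrictD τ).obj Z ⟶ E⟦d⟧} (hε : IsCoUniv τ ε) :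
    ∃ (E₁ : Dual.D P₁) (η₁ : K ⟶ (DRing.restrictD θ₁).obj E₁)
      (ε₁ : (DRing.restrictD τ₁).obj Z ⟶ E₁⟦d⟧), IsUniv θ₁ η₁ ∧ IsCoUniv τ₁ ε₁ := by
  obtain ⟨W, ⟨i⟩⟩ := exists_res_iso e.symm E
  let j : (DRing.restrictD e.toRingHom).obj (E⟦d⟧) ≅ W⟦d⟧ :=
    ((DRing.restrictD e.toRingHom).commShiftIso d).app E ≪≫
      (shiftFunctor _ d).mapIso ((DRing.restrictD e.toRingHom).mapIso i.symm ≪≫ (resDEquiv e.symm).unitIso.symm.app W)
  exact ⟨W, _, _, isUniv_comp he hη (isUniv_of_iso e.symm i.symm), isCoUniv_comp hτ (isCoUniv_of_iso e j) hε⟩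

attribute [local instance] MvPolynomial.algebraMvPolynomial

/-- The upper shriek of a composite. -/
theorem shriekVia_comp {A B C : Type u} [CommRing A] [CommRing B] [CommRing C] [IsNoetherianRing A]
    [Algebra A B] [Algebra B C] [Algebra A C] [IsScalarTower A B C] {n : ℕ}
    (ψ : MvPolynomial (Fin n) A →ₐ[A] B) (hψ : Function.Surjective ψ)
    [DRing.HasLBaseChange (algebraMap A (MvPolynomial (Fin n) A))]
    {Rψ : Dual.D (MvPolynomial (Fin n) A) ⥤ Dual.D B} (adj : DRing.restrictD ψ.toRingHom ⊣ Rψ) {m : ℕ}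
    (χ : MvPolynomial (Fin m) B →ₐ[B] C) (hχ : Function.Surjective χ)
    [DRing.HasLBaseChange (algebraMap B (MvPolynomial (Fin m) B))]
    {Rχ : Dual.D (MvPolynomial (Fin m) B) ⥤ Dual.D C} (adjχ : DRing.restrictD χ.toRingHom ⊣ Rχ) {k : ℕ}
    (θ : MvPolynomial (Fin k) A →ₐ[A] C) (hθ : Function.Surjective θ)
    [DRing.HasLBaseChange (algebraMap A (MvPolynomial (Fin k) A))]
    {Rθ : Dual.D (MvPolynomial (Fin k) A) ⥤ Dual.D C} (adjθ : DRing.restrictD θ.toRingHom ⊣ Rθ)
    (K : Dual.D A) {c : ℤ} (hK : K.IsGE c) :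
    Nonempty (Dual2.shriekVia k Rθ K ≅ Dual2.shriekVia m Rχ (Dual2.shriekVia n Rψ K)) := by
  let P := MvPolynomial (Fin n) A
  let T := MvPolynomial (Fin m) P
  letI : Algebra P B := ψ.toRingHom.toAlgebra
  haveI : Module.Finite P B := Module.Finite.of_surjective (Algebra.linearMap P B) hψ
  haveI : IsScalarTower P T (MvPolynomial (Fin m) B) := IsScalarTower.of_algebraMap_eq fun p =>
    (MvPolynomial.map_C (algebraMap P B) p).symm
  obtain ⟨η, -, hη⟩ := DualBCLib.exists_bc_univ_base (S := P) K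
  obtain ⟨εψ, hεψ⟩ := exists_coUniv_shriekVia n ψ adj K
  haveI hE : ((DRing.LBaseChange (algebraMap A P)).obj K).IsGE c :=
    (FlatExtLib.exists_isGE (isBC_of_isUniv hη) hK).2
  haveI hEn : (((DRing.LBaseChange (algebraMap A P)).obj K)⟦(n : ℤ)⟧).IsGE (c - n) :=
    DerivedCategory.TStructure.t.isGE_shift _ c n (c - n) (by omega)
  obtain ⟨ET, ηT, hηT⟩ := exists_univ (A := P) (B := T) ((DRing.LBaseChange (algebraMap A P)).obj K)
  obtain ⟨ηB, -, hηB⟩ := DualBCLib.exists_bc_univ_base (S := MvPolynomial (Fin m) B) (Dual2.shriekVia n Rψ K)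
  obtain ⟨ε₁, hε₁⟩ := exists_coUniv_baseChange (R := P) (S := T) (A := B) (B := MvPolynomial (Fin m) B)
    hEn hεψ (isUniv_shift hηT (n : ℤ)) hηB
  obtain ⟨εχ, hεχ⟩ := exists_coUniv_shriekVia m χ adjχ (Dual2.shriekVia n Rψ K)
  have hc : χ.toRingHom.comp (algebraMap T (MvPolynomial (Fin m) B)) =
      χ.toRingHom.comp (algebraMap T (MvPolynomial (Fin m) B)) := rfl
  have h2 := (isCoUniv_comp hc (isCoUniv_shift hε₁ (m : ℤ)) hεχ).postcomp _
    (shiftAddIso ET (n : ℤ) (m : ℤ) ((m + n : ℕ) : ℤ) (by push_cast; ring))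
  let e' : MvPolynomial (Fin (m + n)) A ≃ₐ[A] T :=
    (MvPolynomial.renameEquiv A finSumFinEquiv.symm).trans (MvPolynomial.sumAlgEquiv A (Fin m) (Fin n))
  obtain ⟨E₁, η₁, ε₂, hη₁, hε₂⟩ := exists_transport e'.toRingEquiv (θ₁ := algebraMap A (MvPolynomial (Fin (m + n)) A))
    (RingHom.ext e'.symm.commutes) rfl (isUniv_comp (IsScalarTower.algebraMap_eq A P T).symm hη hηT)
    ((m + n : ℕ) : ℤ) h2
  obtain ⟨η', -, hη'⟩ := DualBCLib.exists_bc_univ_base (S := MvPolynomial (Fin k) A) K
  obtain ⟨εθ, hεθ⟩ := exists_coUniv_shriekVia k θ adjθ K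
  have hsurj : Function.Surjective (algebraMap T (MvPolynomial (Fin m) B)) :=
    MvPolynomial.map_surjective (algebraMap P B) hψ
  refine nonempty_iso_presentations θ.toRingHom hθ _ ((hχ.comp hsurj).comp e'.surjective) (RingHom.ext fun r => ?_)
    hη' hη₁ hεθ hε₂
  show θ (algebraMap A (MvPolynomial (Fin k) A) r) =
    χ (algebraMap T (MvPolynomial (Fin m) B) (e' (algebraMap A (MvPolynomial (Fin (m + n)) A) r)))
  rw [θ.commutes, e'.commutes, IsScalarTower.algebraMap_apply A P T, ← IsScalarTower.algebraMap_apply P T,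
    IsScalarTower.algebraMap_apply P B (MvPolynomial (Fin m) B), show algebraMap P B (algebraMap A P r) = algebraMap A B r from ψ.commutes r,
    χ.commutes, ← IsScalarTower.algebraMap_apply A B C]

attribute [local instance] Algebra.TensorProduct.rightAlgebra

/-- The upper shriek commutes with flat base change. -/
theorem shriekVia_flat_baseChange {R R' A : Type u} [CommRing R] [CommRing R'] [CommRing A] [IsNoetherianRing R]
    [Algebra R R'] [Module.Flat R R'] [Algebra R A] {n : ℕ}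
    (ψ : MvPolynomial (Fin n) R →ₐ[R] A) (hψ : Function.Surjective ψ)
    [DRing.HasLBaseChange (algebraMap R (MvPolynomial (Fin n) R))]
    {Rψ : Dual.D (MvPolynomial (Fin n) R) ⥤ Dual.D A} (adj : DRing.restrictD ψ.toRingHom ⊣ Rψ) {m : ℕ}
    (ψ' : MvPolynomial (Fin m) R' →ₐ[R'] (R' ⊗[R] A)) (hψ' : Function.Surjective ψ')
    [DRing.HasLBaseChange (algebraMap R' (MvPolynomial (Fin m) R'))]
    {Rψ' : Dual.D (MvPolynomial (Fin m) R') ⥤ Dual.D (R' ⊗[R] A)} (adj' : DRing.restrictD ψ'.toRingHom ⊣ Rψ')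
    [DRing.HasLBaseChange (Algebra.TensorProduct.includeRight : A →ₐ[R] R' ⊗[R] A).toRingHom]
    [DRing.HasLBaseChange (algebraMap R R')] (K : Dual.D R) {c : ℤ} (hK : K.IsGE c) :
    Nonempty ((DRing.LBaseChange (Algebra.TensorProduct.includeRight : A →ₐ[R] R' ⊗[R] A).toRingHom).obj
      (Dual2.shriekVia n Rψ K) ≅ Dual2.shriekVia m Rψ' ((DRing.LBaseChange (algebraMap R R')).obj K)) := by
  let P := MvPolynomial (Fin n) R
  let P' := MvPolynomial (Fin n) R'
  let A' := R' ⊗[R] A
  haveI : DRing.HasLBaseChange (algebraMap A A') :=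
    ‹DRing.HasLBaseChange (Algebra.TensorProduct.includeRight : A →ₐ[R] R' ⊗[R] A).toRingHom›
  haveI : IsScalarTower R A A' := IsScalarTower.of_algebraMap_eq fun r =>
    (Algebra.TensorProduct.includeRight.commutes r).symm
  haveI : Module.Flat A A' :=
    Module.Flat.of_linearEquiv (Algebra.TensorProduct.commRight R A R').symm.toLinearEquiv
  letI : Algebra P A := ψ.toRingHom.toAlgebra
  haveI : Module.Finite P A := Module.Finite.of_surjective (Algebra.linearMap P A) hψ
  let τ : P' →+* A' := (MvPolynomial.aeval fun i => algebraMap A A' (ψ (MvPolynomial.X i))).toRingHom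
  letI : Algebra P' A' := τ.toAlgebra
  letI : Algebra P A' := ((algebraMap A A').comp (algebraMap P A)).toAlgebra
  haveI : IsScalarTower P A A' := IsScalarTower.of_algebraMap_eq fun _ => rfl
  have hPA : ∀ r, algebraMap P A (MvPolynomial.C r) = algebraMap R A r := ψ.commutes
  haveI : IsScalarTower P P' A' := IsScalarTower.of_algebraMap_eq' (by
    refine MvPolynomial.ringHom_ext (fun r => ?_) fun i => ?_
    · show algebraMap A A' (algebraMap P A (MvPolynomial.C r)) = τ (MvPolynomial.map (algebraMap R R') (MvPolynomial.C r))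
      rw [hPA, MvPolynomial.map_C, ← IsScalarTower.algebraMap_apply R A A', IsScalarTower.algebraMap_apply R R' A']
      exact (MvPolynomial.aeval_C (R := R') (fun i => algebraMap A A' (ψ (MvPolynomial.X i))) _).symm
    · show algebraMap A A' (ψ (MvPolynomial.X i)) = τ (MvPolynomial.map (algebraMap R R') (MvPolynomial.X i))
      rw [MvPolynomial.map_X]
      exact (MvPolynomial.aeval_X (R := R') (fun i => algebraMap A A' (ψ (MvPolynomial.X i))) i).symm)
  haveI : IsScalarTower R P P' := IsScalarTower.of_algebraMap_eq (R := R) (S := P) (A := P') fun r => (MvPolynomial.map_C (algebraMap R R') r).symm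
  haveI : IsScalarTower R' P' A' := IsScalarTower.of_algebraMap_eq fun r => (MvPolynomial.aeval_C _ r).symm
  haveI : IsScalarTower R P A := IsScalarTower.of_algebraMap_eq fun r => (ψ.commutes r).symm
  haveI : IsScalarTower R P' A' := IsScalarTower.of_algebraMap_eq fun r => by
    rw [IsScalarTower.algebraMap_apply R R' P', ← IsScalarTower.algebraMap_apply R' P' A',
      ← IsScalarTower.algebraMap_apply R R' A']
  have hbig : Algebra.IsPushout R A R' A' := inferInstance
  haveI hpo : Algebra.IsPushout P A P' A' :=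
    (Algebra.IsPushout.comp_iff (T := A) (T' := A') R P R' P').1 hbig
  haveI : Algebra.IsPushout P P' A A' := hpo.symm
  haveI : Algebra.IsPushout R P R' P' := inferInstance
  haveI : Module.Flat P P' :=
    Module.Flat.of_linearEquiv (Algebra.IsPushout.equiv R P R' P').symm.toLinearEquiv
  obtain ⟨η, -, hη⟩ := DualBCLib.exists_bc_univ_base (S := P) K
  obtain ⟨η', -, hη'⟩ := DualBCLib.exists_bc_univ_base (S := R') K
  haveI hE : ((DRing.LBaseChange (algebraMap R P)).obj K).IsGE c :=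
    (FlatExtLib.exists_isGE (isBC_of_isUniv hη) hK).2
  haveI hEn : (((DRing.LBaseChange (algebraMap R P)).obj K)⟦(n : ℤ)⟧).IsGE (c - n) :=
    DerivedCategory.TStructure.t.isGE_shift _ c n (c - n) (by omega)
  obtain ⟨εψ, hεψ⟩ := exists_coUniv_shriekVia n ψ adj K
  obtain ⟨E', ηP', hηP'⟩ := exists_univ (A := R') (B := P') ((DRing.LBaseChange (algebraMap R R')).obj K)
  obtain ⟨E₂, ηP, hηP⟩ := exists_univ (A := P) (B := P') ((DRing.LBaseChange (algebraMap R P)).obj K)
  obtain ⟨k, -⟩ := exists_iso_univ (isUniv_comp (IsScalarTower.algebraMap_eq R P P').symm hη hηP)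
    (isUniv_comp (IsScalarTower.algebraMap_eq R R' P').symm hη' hηP')
  obtain ⟨ηA, -, hηA⟩ := DualBCLib.exists_bc_univ_base (A := A) (S := A') (Dual2.shriekVia n Rψ K)
  obtain ⟨ε₁, hε₁⟩ := exists_coUniv_baseChange (R := P) (S := P') (A := A) (B := A')
    hEn hεψ (isUniv_shift hηP (n : ℤ)) hηA
  obtain ⟨ηm, -, hηm⟩ := DualBCLib.exists_bc_univ_base (S := MvPolynomial (Fin m) R')
    ((DRing.LBaseChange (algebraMap R R')).obj K)
  obtain ⟨εm, hεm⟩ := exists_coUniv_shriekVia m ψ' adj' ((DRing.LBaseChange (algebraMap R R')).obj K)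
  have hsurjP : Function.Surjective τ := fun x => by
    obtain ⟨w, rfl⟩ := (Algebra.IsPushout.equiv P P' A A').surjective x
    induction w using TensorProduct.induction_on with
    | zero => exact ⟨0, by rw [map_zero, map_zero]⟩
    | tmul s a =>
      obtain ⟨p, rfl⟩ := hψ a
      refine ⟨s * algebraMap P P' p, ?_⟩
      rw [Algebra.IsPushout.equiv_tmul, map_mul]
      exact congrArg _ ((IsScalarTower.algebraMap_apply P P' A' p).symm.trans (IsScalarTower.algebraMap_apply P A A' p))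
    | add x y hx hy =>
      obtain ⟨x', hx'⟩ := hx
      obtain ⟨y', hy'⟩ := hy
      exact ⟨x' + y', by rw [map_add, map_add, hx', hy']⟩
  exact nonempty_iso_presentations τ hsurjP ψ'.toRingHom hψ'
    (RingHom.ext fun r => (MvPolynomial.aeval_C _ r).trans (ψ'.commutes r).symm) hηP' hηm
    (hε₁.postcomp _ ((shiftFunctor _ (n : ℤ)).mapIso k)) hεm

end ShriekRingLib
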