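import Groth.Agent.ShriekRingLib.ProjPF
import Groth.Agent.ShriekRingLib.Basic
import Groth.Agent.ShriekRingLib.Iso
import Groth.Agent.ShriekRingLib.StepAbs
import Groth.Agent.TorIndBCLib.Apps
import Groth.Agent.DTenLib.BCBound
import Groth.Agent.BidualUnbLib.Basic

/-!
# The upper shriek commutes with duality
-/

set_option autoImplicit false
set_option linter.all false
set_option maxHeartbeats 1000000

universe u

open CategoryTheory CategoryTheory.Limits CategoryTheory.Pretriangulated MonoidalCategory Opposite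
open Groth.Agent DTen DTenLib
open DTenLib.Point (hH sg)

attribute [local instance] HasDerivedCategory.standard

noncomputable section

namespace ShriekRingLib

open Groth.Agent.DualCxLib TorIndBCLib

/-- Right adjoints of restriction commute with `RHom`. -/
theorem nonempty_rightAdjoint_RHom {P B : Type u} [CommRing P] [CommRing B] [HasLTen P] [HasLTen B] [HasRHom P]
    [HasRHom B] (f : P →+* B) [HasLBase f] {G : Dual.D P ⥤ Dual.D B} (adj : DRing.restrictD f ⊣ G) (W : Dual.D P) :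
    Nonempty (G ⋙ RHomR B ((LBase f).obj W) ≅ RHomR P W ⋙ G) := by
  haveI := hasResTen f
  haveI := resLegIso f
  exact ⟨((rhomAdj B ((LBase f).obj W)).comp adj).rightAdjointUniq
    ((adj.comp (rhomAdj P W)).ofNatIsoLeft (projNatIso f W))⟩

/-- Base change of `RHom` out of an unbounded object with finite cohomology. -/
theorem nonempty_LBase_RHom {R R' : Type u} [CommRing R] [CommRing R'] [Algebra R R'] [Module.Flat R R']
    [IsNoetherianRing R] [HasLTen R] [HasLTen R'] [HasRHom R] [HasRHom R'] [HasLBase (algebraMap R R')]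
    {M : Dual.D R} {n : ℤ} (hMge : M.IsGE n) (hM : DRing.HasFiniteInjDim R M)
    (hM' : DRing.HasFiniteInjDim R' ((LBase (algebraMap R R')).obj M))
    {K : Dual.D R} (hK : ∀ i, Module.Finite R ((hH R i).obj K)) :
    Nonempty ((LBase (algebraMap R R')).obj ((RHomR R K).obj M) ≅
      (RHomR R' ((LBase (algebraMap R R')).obj K)).obj ((LBase (algebraMap R R')).obj M)) := by
  let φ := algebraMap R R'
  haveI := hasResTen φ
  haveI := resLegIso φ
  haveI : HasLTen₃ R := DTenLib.hasLTen₃ R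
  haveI : HasLTen₃ R' := DTenLib.hasLTen₃ R'
  haveI : ∀ K : Dual.D R, IsIso (rhomBC φ K ((LBase φ).obj M)) := fun K => isIso_rhomBC φ K _
  have hd : DRing.HasTorDimLE R 0 R' := by
    rw [Groth.Agent.DRingLib.hasTorDimLE_iff_amplitude]
    simpa using (Groth.Agent.DRingLib.hasTorAmplitudeIn_zero_iff_flat R').2 inferInstance
  obtain ⟨a, b, hab⟩ := hM
  obtain ⟨a', b', hab'⟩ := hM'
  let F := (RHom R).flip.obj M ⋙ LBase φ
  let G := (LBase φ).op ⋙ (RHom R').flip.obj ((LBase φ).obj M)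
  have hF : HomExactOp' F := fun T hT => ex_LBase φ (isTri_RHom M T hT)
  have hG : HomExactOp' G := fun T hT =>
    HomExactOp.map_isTri (F := (RHom R').flip.obj ((LBase φ).obj M))
      (fun T' hT' => homExact_id.map_isTri (isTri_RHom _ T' hT')) (isTri_LBase φ T hT)
  let τ : F ⟶ G := bcNat φ M
  suffices IsIso (τ.app (op K)) from ⟨@asIso _ _ _ _ (τ.app (op K)) this⟩
  refine isIso_of_bijective_unit _ fun j => ?_
  show Function.Bijective fun g : (unit R')⟦j⟧ ⟶ F.obj (op K) => g ≫ τ.app (op K)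
  let m : ℤ := max (j + b) (j + b') + 1
  obtain ⟨K', C, hK', hC, α, g, h, hT⟩ := DerivedCategory.TStructure.t.exists_triangle K m (m + 1) rfl
  haveI hK'le : K'.IsLE m := ⟨hK'⟩
  haveI hCge : C.IsGE (m + 1) := ⟨hC⟩
  have hfin' : ∀ i, Module.Finite R ((hH R i).obj K') := fun i => by
    by_cases hi : i ≤ m
    · have hm : Mono ((hH R i).map α) :=
        (DerivedCategory.HomologySequence.mono_homologyMap_mor₁_iff _ hT (i - 1) i (by omega)).mpr
          ((DerivedCategory.isZero_of_isGE C (m + 1) (i - 1) (by omega)).eq_of_src _ _)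
      haveI := hK i
      exact Module.Finite.of_injective ((hH R i).map α).hom ((ModuleCat.mono_iff_injective _).1 hm)
    · haveI := ModuleCat.subsingleton_of_isZero (DerivedCategory.isZero_of_isLE K' m i (by omega))
      infer_instance
  haveI hτ : IsIso (τ.app (op K')) := isIso_bcRHom_of_hasFiniteTorDim K' M ⟨0, hd⟩
    (isPseudoCoherent'_of_finite m (fun i hi => DerivedCategory.isZero_of_isLE K' m i hi) hfin') n hMge
  have hFv : ∀ (X : Dual.D R) (p : ℤ), X.IsGE p → m + 1 ≤ p →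
      ∀ x : (unit R')⟦j⟧ ⟶ F.obj (op X), x = 0 := fun X p hX hp x =>
    hom_shift_unit_eq_zero_of_isLE (b := b - p) (isLE_LBase φ (isLE_RHom hab hX)) (by omega) x
  have hGv : ∀ (X : Dual.D R) (p : ℤ), X.IsGE p → m + 1 ≤ p →
      ∀ x : (unit R')⟦j⟧ ⟶ G.obj (op X), x = 0 := fun X p hX hp x =>
    hom_shift_unit_eq_zero_of_isLE (b := b' - (p - (0 : ℕ))) (isLE_RHom hab' (isGE_LBase hd hX)) (by omega) x
  have hC' : (C⟦(-1 : ℤ)⟧).IsGE (m + 2) :=
    DerivedCategory.TStructure.t.isGE_shift C (m + 1) (-1) (m + 2) (by omega)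
  obtain ⟨i, -, hi⟩ := hτ.out
  let T := Triangle.mk α g h
  constructor
  · intro z z' hzz
    rw [← sub_eq_zero]
    have hz : (z - z') ≫ τ.app (op K) = 0 := by
      rw [Preadditive.sub_comp, sub_eq_zero]
      exact hzz
    have h1 : ((z - z') ≫ F.map α.op) ≫ τ.app (op K') = 0 := by
      rw [Category.assoc, τ.naturality, ← Category.assoc, hz, zero_comp]
    have h2 : (z - z') ≫ F.map α.op = 0 := (cancel_mono (τ.app (op K'))).1 (h1.trans zero_comp.symm)
    obtain ⟨x, hx⟩ := (hF T hT).2 _ (z - z') h2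
    rw [← hx, hFv C (m + 1) hCge le_rfl x]
    exact zero_comp
  · intro y
    obtain ⟨z, hz⟩ : ∃ z : (unit R')⟦j⟧ ⟶ F.obj (op K), z ≫ F.map α.op = (y ≫ G.map α.op) ≫ i :=
      (hF _ (inv_rot_of_distTriang _ hT)).2 _ ((y ≫ G.map α.op) ≫ i) (hFv _ (m + 2) hC' (by omega) _)
    have h1 : (y - z ≫ τ.app (op K)) ≫ G.map α.op = 0 := by
      rw [Preadditive.sub_comp, Category.assoc, ← τ.naturality, ← Category.assoc z, hz,
        Category.assoc, hi, Category.comp_id, sub_self]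
    obtain ⟨x, hx⟩ := (hG T hT).2 _ (y - z ≫ τ.app (op K)) h1
    refine ⟨z, (sub_eq_zero.1 ?_).symm⟩
    rw [← hx, hGv C (m + 1) hCge le_rfl x]
    exact zero_comp

/-- The derived base change of the definitions is the left adjoint of restriction. -/
theorem nonempty_LBaseChange_iso_LBase {A B : Type u} [CommRing A] [CommRing B] (φ : A →+* B)
    [DRing.HasLBaseChange φ] [HasLBase φ] (X : Dual.D A) :
    Nonempty ((DRing.LBaseChange φ).obj X ≅ (LBase φ).obj X) := by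
  obtain ⟨η, hη⟩ := exists_univ_base φ X
  obtain ⟨k, -⟩ := exists_iso_univ hη (isUniv_unit (baseAdj φ) X)
  exact ⟨k⟩

/-- Derived base change along a composite. -/
theorem nonempty_LBaseChange_comp {A P B : Type u} [CommRing A] [CommRing P] [CommRing B] (φ : A →+* P)
    (π : P →+* B) (θ : A →+* B) (h : π.comp φ = θ) [DRing.HasLBaseChange φ] [DRing.HasLBaseChange θ] [HasLBase π]
    (X : Dual.D A) :
    Nonempty ((DRing.LBaseChange θ).obj X ≅ (LBase π).obj ((DRing.LBaseChange φ).obj X)) := by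
  obtain ⟨η₁, h₁⟩ := exists_univ_base φ X
  obtain ⟨η, hη⟩ := exists_univ_base θ X
  obtain ⟨k, -⟩ := exists_iso_univ hη
    (isUniv_comp h h₁ (isUniv_unit (baseAdj π) ((DRing.LBaseChange φ).obj X)))
  exact ⟨k⟩

/-- `RHom` out of a shifted unit is a shift. -/
theorem nonempty_RHom_shiftUnit {A : Type u} [CommRing A] [HasLTen A] [HasLTen₃ A] [IsSymMonoidal A] [HasRHom A]
    (M : Dual.D A) (n : ℤ) : Nonempty (M⟦n⟧ ≅ (RHomR A ((unit A)⟦-n⟧)).obj M) := by
  haveI := isEquivalence_shiftUnit' (A := A) (-n)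
  obtain ⟨t⟩ := nonempty_tensor_shiftUnit (M⟦n⟧) (-n)
  let e : (tensorRightD A ((unit A)⟦-n⟧)).obj (M⟦n⟧) ≅ M :=
    (braiding (M⟦n⟧) ((unit A)⟦-n⟧)).symm ≪≫ t ≪≫ (shiftFunctorCompIsoId (Dual.D A) n (-n) (by omega)).app M
  exact ⟨asIso ((rhomAdj A ((unit A)⟦-n⟧)).unit.app (M⟦n⟧)) ≪≫ (RHomR A ((unit A)⟦-n⟧)).mapIso e⟩

theorem nonempty_RHom_shift_iso {A : Type u} [CommRing A] [HasLTen A] [HasLTen₃ A] [IsSymMonoidal A] [HasRHom A]
    {X : Dual.D A} (Y : Dual.D A) (n : ℤ) :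
    Nonempty ((RHomR A X).obj (Y⟦n⟧) ≅ ((RHomR A X).obj Y)⟦n⟧) := by
  let u := (unit A)⟦-n⟧
  obtain ⟨a⟩ := nonempty_RHom_shiftUnit Y n
  obtain ⟨b⟩ := nonempty_RHom_shiftUnit ((RHomR A X).obj Y) n
  haveI := isIso_curryHom X u Y
  have h₂ := isIso_curryHom u X Y
  exact ⟨(RHomR A X).mapIso a ≪≫ (asIso (curryHom X u Y)).symm ≪≫
    ((RHom A).flip.obj Y).mapIso (braiding X u).op ≪≫ @asIso _ _ _ _ (curryHom u X Y) h₂ ≪≫ b.symm⟩

theorem hasFiniteInjDim_of_iso {A : Type u} [CommRing A] {X Y : Dual.D A} (e : X ≅ Y)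
    (h : DRing.HasFiniteInjDim A X) : DRing.HasFiniteInjDim A Y := by
  obtain ⟨a, b, E, h₁, h₂, ⟨f⟩⟩ := h
  exact ⟨a, b, E, h₁, h₂, ⟨f ≪≫ e⟩⟩

/-- The upper shriek exchanges the dualities. -/
theorem nonempty_shriekVia_dual (A B : Type u) [CommRing A] [CommRing B] [IsNoetherianRing A] [IsNoetherianRing B]
    [Algebra A B] (n : ℕ) (ψ : MvPolynomial (Fin n) A →ₐ[A] B) (hψ : Function.Surjective ψ)
    [DRing.HasLBaseChange (algebraMap A (MvPolynomial (Fin n) A))]
    (Rψ : Dual.D (MvPolynomial (Fin n) A) ⥤ Dual.D B) (adj : DRing.restrictD ψ.toRingHom ⊣ Rψ)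
    [DRing.HasLBaseChange (algebraMap A B)] (ω : Dual.D A) (hω : Dual.IsDualizing A ω) (K : DRing.Cx A)
    [DRing.HasRHomCx K] (hK : ∀ i : ℤ, Module.Finite A (Dual.HD A (DRing.toD K) i)) (E : DRing.Cx B)
    [DRing.HasRHomCx E]
    (hE : Nonempty (DRing.toD E ≅ (DRing.LBaseChange (algebraMap A B)).obj ((DRing.RHomCx K).obj ω))) :
    Nonempty (Dual2.shriekVia n Rψ (DRing.toD K) ≅ (DRing.RHomCx E).obj (Dual2.shriekVia n Rψ ω)) := by
  haveI := Groth.Agent.DualCxLib.hasLTen (A := A)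
  haveI := Groth.Agent.DualCxLib.hasRHom (A := A)
  haveI := Groth.Agent.DualCxLib.hasLTen (A := B)
  haveI := Groth.Agent.DualCxLib.hasRHom (A := B)
  haveI := Groth.Agent.DualCxLib.hasLTen (A := MvPolynomial (Fin n) A)
  haveI := Groth.Agent.DualCxLib.hasRHom (A := MvPolynomial (Fin n) A)
  haveI : HasLTen₃ A := DTenLib.hasLTen₃ A
  haveI : IsSymMonoidal A := DTenLib.isSymMonoidal A
  haveI : HasLTen₃ (MvPolynomial (Fin n) A) := DTenLib.hasLTen₃ _
  haveI : IsSymMonoidal (MvPolynomial (Fin n) A) := DTenLib.isSymMonoidal _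
  haveI : HasLTen₃ B := DTenLib.hasLTen₃ B
  haveI : IsSymMonoidal B := DTenLib.isSymMonoidal B
  let ρ := algebraMap A (MvPolynomial (Fin n) A)
  haveI := hasLBase ρ
  haveI := hasLBase ψ.toRingHom
  obtain ⟨eK⟩ := RHomCompLib.nonempty_RHomCx_iso K
  obtain ⟨eE⟩ := RHomCompLib.nonempty_RHomCx_iso E
  obtain ⟨e⟩ := hE
  let W := (RHomR A (DRing.toD K)).obj ω
  let WP := (LBase ρ).obj W
  obtain ⟨c₁⟩ := nonempty_LBaseChange_comp ρ ψ.toRingHom (algebraMap A B) ψ.comp_algebraMap W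
  obtain ⟨c₂⟩ := nonempty_LBaseChange_iso_LBase ρ W
  let e₁ : DRing.toD E ≅ (LBase ψ.toRingHom).obj WP :=
    e ≪≫ (DRing.LBaseChange (algebraMap A B)).mapIso (eK.app ω) ≪≫ c₁ ≪≫ (LBase ψ.toRingHom).mapIso c₂
  obtain ⟨cω⟩ := nonempty_LBaseChange_iso_LBase ρ ω
  obtain ⟨cK⟩ := nonempty_LBaseChange_iso_LBase ρ (DRing.toD K)
  obtain ⟨a, ha⟩ := isGE_dualizing hω
  have hW : ∀ i, Module.Finite A ((hH A i).obj W) := BidualUnbLib.finite_RHom hω hK
  have hωP := isDualizing_base n hω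
  obtain ⟨bc⟩ := nonempty_LBase_RHom (R := A) (R' := MvPolynomial (Fin n) A) ha
    (hasFiniteInjDim_of_ext hω.finite_injective_dimension)
    (hasFiniteInjDim_of_iso cω (hasFiniteInjDim_of_ext hωP.finite_injective_dimension)) hW
  obtain ⟨bd⟩ := BidualUnbLib.nonempty_biduality hω hK
  obtain ⟨θ⟩ := nonempty_rightAdjoint_RHom ψ.toRingHom adj WP
  let ωP := (DRing.LBaseChange ρ).obj ω
  let k : (DRing.LBaseChange ρ).obj (DRing.toD K) ≅ (RHomR (MvPolynomial (Fin n) A) WP).obj ωP :=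
    cK ≪≫ (LBase ρ).mapIso bd.symm ≪≫ bc ≪≫ (RHomR (MvPolynomial (Fin n) A) WP).mapIso cω.symm
  obtain ⟨s⟩ := nonempty_RHom_shift_iso (X := (LBase ψ.toRingHom).obj WP) (Rψ.obj ωP) (n : ℤ)
  exact ⟨(shiftFunctor _ (n : ℤ)).mapIso (Rψ.mapIso k ≪≫ (θ.app ωP).symm) ≪≫ s.symm ≪≫
    ((RHom B).flip.obj _).mapIso e₁.op ≪≫ (eE.app _).symm⟩

end ShriekRingLib

end
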