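import Groth.Agent.ShriekRingLib.FlatSelf
import Groth.Agent.DTenLib.RelTensor
import Groth.Agent.TwoTermLib.LTCx
import Groth.Agent.KFlatLib.RingBaseChange

/-!
# The upper shriek of a flat map is a tensor product
-/

set_option autoImplicit false
set_option linter.all false
set_option maxHeartbeats 1000000

universe u

open CategoryTheory CategoryTheory.Limits MonoidalCategory
open Groth.Agent DTen
open scoped TensorProduct

attribute [local instance] HasDerivedCategory.standard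

noncomputable section

namespace ShriekRingLib

open FinDualLib Groth.Agent.DualCxLib TorIndBCLib DTenLib

/-- The mixed derived tensor product exists. -/
theorem hasLTenMix {R A : Type u} [CommRing R] [CommRing A] (φ : R →+* A) : HasLTenMix φ := by
  obtain ⟨G, α, hG, -⟩ := exists_derivedMix φ
  haveI : G.IsLeftDerivedFunctor α (qisMix R A) := ⟨hG⟩
  exact Functor.HasLeftDerivedFunctor.mk' G α

/-- A right adjoint of restriction along a perfect map is a tensor product. -/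
theorem nonempty_iso_tensor {R A : Type u} [CommRing R] [CommRing A] [HasLTen A] (φ : R →+* A)
    (hA : DRing.IsPerfect R (rU φ)) {G : Dual.D R ⥤ Dual.D A} (adj : DRing.restrictD φ ⊣ G)
    {X : Dual.D R} {Z : Dual.D A} {η : X ⟶ (DRing.restrictD φ).obj Z} (hη : IsUniv φ η) :
    Nonempty (G.obj X ≅ (LTen₂ A).obj (Z, G.obj (unit R))) := by
  haveI : HasRHomRel φ := ⟨adj.isLeftAdjoint⟩
  haveI := hasLTenMix φ
  obtain ⟨e⟩ := nonempty_RHomRel_iso φ hA
  let eG : G ≅ RHomRel φ := Adjunction.rightAdjointUniq adj (relAdj φ)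
  obtain ⟨P, hP, ⟨eP⟩⟩ := exists_kf_rep X
  obtain ⟨N, -, ⟨eN⟩⟩ := exists_kf_rep ((RHomRel φ).obj (unit R))
  obtain ⟨k, -⟩ := exists_iso_univ hη ((isUniv_γ_kf φ hP).comp_iso eP.symm (Iso.refl _))
  haveI := DTenLib.isIso_εMix φ P N hP
  haveI := isIso_ε (A := A) ((extCx φ).obj P) N (Or.inl (KFlatLib.isKFlat_extend φ hP))
  exact ⟨eG.app X ≪≫ e.app X ≪≫
    (LTenMix φ).mapIso (Iso.prod eP.symm eN.symm) ≪≫ asIso ((εMix φ).app (P, N)) ≪≫
      (asIso ((ε A).app ((extCx φ).obj P, N))).symm ≪≫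
        (LTen₂ A).mapIso (Iso.prod k.symm (eN ≪≫ (eG.app (unit R)).symm))⟩

/-- The derived tensor product commutes with shifting. -/
theorem nonempty_tensor_shift {A : Type u} [CommRing A] [HasLTen A] (Z V : Dual.D A) (n : ℤ) :
    Nonempty ((LTen₂ A).obj (Z, V⟦n⟧) ≅ ((LTen₂ A).obj (Z, V))⟦n⟧) := by
  obtain ⟨P, hP, ⟨eP⟩⟩ := exists_kf_rep Z
  obtain ⟨N, -, ⟨eN⟩⟩ := exists_kf_rep V
  haveI := isIso_ε (A := A) P (N⟦n⟧) (Or.inl hP)
  haveI := isIso_ε (A := A) P N (Or.inl hP)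
  exact ⟨(LTen₂ A).mapIso (Iso.prod eP.symm ((shiftFunctor _ n).mapIso eN.symm ≪≫
      ((DerivedCategory.Q.commShiftIso n).app N).symm)) ≪≫ asIso ((ε A).app (P, N⟦n⟧)) ≪≫
    DerivedCategory.Q.mapIso (CochainComplex.mapBifunctorShift₂Iso P N (curriedTensor (ModuleCat.{u} A)) n) ≪≫
    (DerivedCategory.Q.commShiftIso n).app _ ≪≫ (shiftFunctor _ n).mapIso
      ((asIso ((ε A).app (P, N))).symm ≪≫ (LTen₂ A).mapIso (Iso.prod eP eN))⟩

/-- The prelude tensor product with a complex. -/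
theorem nonempty_LTensorCx_iso {A : Type u} [CommRing A] [HasLTen A] (W : DRing.Cx A) [DRing.HasLTensorCx A W]
    (X : Dual.D A) : Nonempty ((DRing.LTensorCx A W).obj X ≅ (LTen₂ A).obj (X, DRing.toD W)) := by
  obtain ⟨P, hP, ⟨eP⟩⟩ := exists_kf_rep X
  haveI := isIso_ε (A := A) P W (Or.inl hP)
  exact ⟨(DRing.LTensorCx A W).mapIso eP.symm ≪≫ TwoTermLib.LTCx.objIso W P hP ≪≫
    (asIso ((ε A).app (P, W))).symm ≪≫ (LTen₂ A).mapIso (Iso.prod eP (Iso.refl _))⟩

/-- The upper shriek is base change tensored with its value at the base. -/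
theorem shriekVia_iso_tensor (R A : Type u) [CommRing R] [CommRing A] [IsNoetherianRing R] [Algebra R A]
    [Module.Flat R A] (n : ℕ) (ψ : MvPolynomial (Fin n) R →ₐ[R] A) (hψ : Function.Surjective ψ)
    [DRing.HasLBaseChange (algebraMap R (MvPolynomial (Fin n) R))]
    {Rψ : Dual.D (MvPolynomial (Fin n) R) ⥤ Dual.D A} (adj : DRing.restrictD ψ.toRingHom ⊣ Rψ)
    (W : DRing.Cx A) (hW : Nonempty (DRing.toD W ≅ Dual2.shriekVia n Rψ (Dual.inD R R)))
    [DRing.HasLBaseChange (algebraMap R A)] [DRing.HasLTensorCx A W] (K : Dual.D R) :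
    Nonempty (Dual2.shriekVia n Rψ K ≅ (DRing.LTensorCx A W).obj ((DRing.LBaseChange (algebraMap R A)).obj K)) := by
  let P := MvPolynomial (Fin n) R
  haveI := Groth.Agent.DualCxLib.hasLTen A
  letI : Algebra P A := ψ.toRingHom.toAlgebra
  haveI : Module.Finite P A := Module.Finite.of_surjective (Algebra.linearMap P A) hψ
  haveI : IsScalarTower R P A := IsScalarTower.of_algebraMap_eq fun r => (ψ.commutes r).symm
  have hperf : DRing.IsPerfectModule P A := isPerfectModule_of_flat R n A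
  obtain ⟨eW⟩ := hW
  obtain ⟨η, hη⟩ := exists_univ_base (algebraMap R P) K
  obtain ⟨η₁, hη₁⟩ := exists_univ_base (algebraMap R P) (Dual.inD R R)
  obtain ⟨eU⟩ := nonempty_univ_unit_iso hη₁
  obtain ⟨ηA, hηA⟩ := exists_univ_base (algebraMap R A) K
  obtain ⟨Z, ηZ, hηZ⟩ := exists_univ_any ψ.toRingHom ((DRing.LBaseChange (algebraMap R P)).obj K)
  obtain ⟨k, -⟩ := exists_iso_univ (isUniv_comp ψ.comp_algebraMap hη hηZ) hηA
  obtain ⟨e⟩ := nonempty_iso_tensor ψ.toRingHom (isPerfect_rU hperf) adj hηZ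
  obtain ⟨es⟩ := nonempty_tensor_shift Z (Rψ.obj (unit P)) (n : ℤ)
  obtain ⟨eL⟩ := nonempty_LTensorCx_iso W ((DRing.LBaseChange (algebraMap R A)).obj K)
  exact ⟨(shiftFunctor _ (n : ℤ)).mapIso e ≪≫ es.symm ≪≫
    (LTen₂ A).mapIso (Iso.prod k ((shiftFunctor _ (n : ℤ)).mapIso (Rψ.mapIso eU.symm) ≪≫ eW.symm)) ≪≫ eL.symm⟩

end ShriekRingLib
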