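import Mathlib
import Groth.Agent.DRingLib.Amplitude
import Groth.Agent.KFlatLib.TorRing

/-!
# Tor amplitude from the cyclic modules
-/

set_option autoImplicit false
set_option linter.all false
set_option maxHeartbeats 1000000

universe u

open CategoryTheory CategoryTheory.Limits HomologicalComplex MonoidalCategory
open Groth.Agent
open KFlatLib (tensorN)

attribute [local instance] HasDerivedCategory.standard

noncomputable section

namespace ShriekRingLib

variable {R : Type u} [CommRing R]

/-- A cokernel is flat when the complex stays exact modulo every ideal. -/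
theorem flat_coker_of_cyclic (P : CochainComplex (ModuleCat.{u} R) ℤ) (a : ℤ)
    [Module.Flat R (P.X a)]
    (h : ∀ I : Ideal R, IsZero ((tensorN P (ModuleCat.of R (R ⧸ I))).homology (a - 1))) :
    Module.Flat R (P.X a ⧸ LinearMap.range (P.d (a - 1) a).hom) := by
  rw [Module.Flat.iff_lTensor_injective']
  intro I
  let d := (P.d (a - 1) a).hom
  let d' := (P.d (a - 1 - 1) (a - 1)).hom
  let π := (LinearMap.range d).mkQ
  have hπ : Function.Exact d π := LinearMap.exact_map_mkQ_range d
  rw [injective_iff_map_eq_zero]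
  intro z hz
  obtain ⟨y, rfl⟩ := LinearMap.rTensor_surjective I (Submodule.mkQ_surjective _) z
  have hy : π.rTensor R (I.subtype.lTensor (P.X a) y) = 0 := by
    rw [← hz, ← LinearMap.comp_apply, LinearMap.rTensor_comp_lTensor,
      ← LinearMap.lTensor_comp_rTensor, LinearMap.comp_apply]
  obtain ⟨w, hw⟩ := (rTensor_exact R hπ (Submodule.mkQ_surjective _) _).mp hy
  let q := Submodule.mkQ I
  have hq : Function.Exact I.subtype q := LinearMap.exact_subtype_mkQ I
  have hw' : d.rTensor (R ⧸ I) (q.lTensor (P.X (a - 1)) w) = 0 := by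
    rw [← LinearMap.comp_apply, LinearMap.rTensor_comp_lTensor, ← LinearMap.lTensor_comp_rTensor,
      LinearMap.comp_apply, hw, ← LinearMap.comp_apply, ← LinearMap.lTensor_comp,
      hq.linearMap_comp_eq_zero, LinearMap.lTensor_zero, LinearMap.zero_apply]
  obtain ⟨v, hv⟩ := (KFlatLib.isZero_homology_iff_exists _ (a - 1 - 1) (a - 1) a (by omega) (by omega)).mp
    (h I) _ hw'
  obtain ⟨v', rfl⟩ := LinearMap.lTensor_surjective (P.X (a - 1 - 1)) (Submodule.mkQ_surjective I) v
  have hv' : q.lTensor (P.X (a - 1)) (d'.rTensor R v') = q.lTensor (P.X (a - 1)) w := by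
    rw [← hv, ← LinearMap.comp_apply, LinearMap.lTensor_comp_rTensor,
      ← LinearMap.rTensor_comp_lTensor, LinearMap.comp_apply]
    rfl
  have hdiff : q.lTensor (P.X (a - 1)) (w - d'.rTensor R v') = 0 := by
    rw [map_sub, hv', sub_self]
  obtain ⟨w', hw₂⟩ := (lTensor_exact (P.X (a - 1)) hq (Submodule.mkQ_surjective I) _).mp hdiff
  have hdd : d ∘ₗ d' = 0 := by
    rw [← ModuleCat.hom_comp, P.d_comp_d, ModuleCat.hom_zero]
  have key : I.subtype.lTensor (P.X a) (d.rTensor I w') = I.subtype.lTensor (P.X a) y := by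
    rw [← LinearMap.comp_apply, LinearMap.lTensor_comp_rTensor, ← LinearMap.rTensor_comp_lTensor,
      LinearMap.comp_apply, hw₂, map_sub, hw, ← LinearMap.comp_apply, ← LinearMap.rTensor_comp,
      hdd, LinearMap.rTensor_zero, LinearMap.zero_apply, sub_zero]
  rw [← Module.Flat.lTensor_preserves_injective_linearMap _ Subtype.val_injective key]
  rw [← LinearMap.comp_apply, ← LinearMap.rTensor_comp, hπ.linearMap_comp_eq_zero,
    LinearMap.rTensor_zero, LinearMap.zero_apply]

/-- Tor amplitude of a bounded complex of flat modules, from the cyclic modules. -/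
theorem hasTorAmplitudeIn_of_cyclic {E : CochainComplex (ModuleCat.{u} R) ℤ} {a₀ a b : ℤ}
    (hE : DRing.VanishesOutside E a₀ b) (hf : DRing.TermwiseFlat E)
    (hz : ∀ i, i < a → IsZero (E.homology i))
    (h : ∀ I : Ideal R, IsZero ((tensorN E (ModuleCat.of R (R ⧸ I))).homology (a - 1))) :
    DRing.HasTorAmplitudeIn R a b (DerivedCategory.Q.obj E) := by
  haveI : E.IsGE a := by
    rw [CochainComplex.isGE_iff]
    intro i hi
    rw [exactAt_iff_isZero_homology]
    exact hz i hi
  haveI : QuasiIso (E.πTruncGE a) := (CochainComplex.quasiIso_πTruncGE_iff E a).mpr inferInstance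
  refine ⟨E.truncGE a, DRingLib.vanishesOutside_truncGE (fun i hi => hE i (Or.inr hi)) a, fun i => ?_,
    ⟨(asIso (DerivedCategory.Q.map (E.πTruncGE a))).symm⟩⟩
  rcases lt_trichotomy i a with hi | hi | hi
  · have := ModuleCat.subsingleton_of_isZero (CochainComplex.isZero_of_isStrictlyGE (E.truncGE a) a i hi)
    infer_instance
  · subst hi
    have := hf i
    have := flat_coker_of_cyclic E i h
    exact Module.Flat.of_linearEquiv (DRingLib.truncGEXCoker E i).toLinearEquiv
  · have := hf i
    exact Module.Flat.of_linearEquiv (E.truncGEXIso a i hi).toLinearEquiv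

end ShriekRingLib
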