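import Groth.Agent.ShriekRingLib.SelfProps
import Groth.Agent.DRingLib.ProjAmplitude
import Groth.Agent.S6946

/-!
# The tor amplitude of the upper shriek of the base of a flat map
-/

set_option autoImplicit false
set_option linter.all false
set_option maxHeartbeats 1000000

universe u

open CategoryTheory CategoryTheory.Limits MonoidalCategory
open Groth.Agent DTen
open Groth.Agent.TwoTermLib
open scoped TensorProduct
open DTenLib.Point (hH sg)

attribute [local instance] HasDerivedCategory.standard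

noncomputable section

namespace ShriekRingLib

open FinDualLib Groth.Agent.DualCxLib TorIndBCLib DTenLib

theorem hasTorDimLE_of_FD {P : Type u} [CommRing P] {n : ℕ} {M : Type u} [AddCommGroup M] [Module P M]
    (h : DiagLib.FD P n M) : DRing.HasTorDimLE P n M := fun N _ _ i hi => by
  obtain ⟨i, rfl⟩ : ∃ q, i = q + 1 := ⟨i - 1, by omega⟩
  obtain ⟨Q⟩ := (inferInstance : CategoryTheory.HasProjectiveResolution (ModuleCat.of P N)).out
  exact ModuleCat.subsingleton_of_isZero
    (PDLib.isZero_tor_of_exactAtSucc Q i (DiagLib.exactAtSucc_of_FD n h _ Q i (by omega)))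

/-- Over a polynomial ring a flat algebra has tor amplitude at most the number of variables. -/
theorem hasTorAmplitudeIn_inD (R : Type u) [CommRing R] (n : ℕ) (A : Type u) [CommRing A] [Algebra R A]
    [Algebra (MvPolynomial (Fin n) R) A] [IsScalarTower R (MvPolynomial (Fin n) R) A] [Module.Flat R A] :
    DRing.HasTorAmplitudeIn (MvPolynomial (Fin n) R) (-(n : ℤ)) 0 (Dual.inD (MvPolynomial (Fin n) R) A) := by
  have h := PerfModLib.fd_mvPolynomial R n 0 A (show Module.Flat R A from inferInstance)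
  rw [Nat.zero_add] at h
  exact (Groth.Agent.S6946.result (MvPolynomial (Fin n) R) A n).1.1 (hasTorDimLE_of_FD h)

/-- The couniversal object of the unit lives in the dual amplitude. -/
theorem hasTorAmplitudeIn_res_coUniv {P A : Type u} [CommRing P] [CommRing A] [Algebra P A] [HasLTen P] [HasRHom P]
    (hperf : DRing.IsPerfectModule P A) {n : ℕ} (hamp : DRing.HasTorAmplitudeIn P (-(n : ℤ)) 0 (Dual.inD P A))
    {W : Dual.D A} {δ : (DRing.restrictD (algebraMap P A)).obj W ⟶ unit P} (hδ : IsCoUniv (algebraMap P A) δ) :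
    DRing.HasTorAmplitudeIn P 0 n ((DRing.restrictD (algebraMap P A)).obj W) := by
  obtain ⟨F, hb, hp, ⟨e⟩⟩ := DRingLib.exists_finiteProjective_of_amplitude
    ((DRingLib.isPerfect_iff.mp (isPerfect_rU hperf)).1 _)
    (DRingLib.hasTorAmplitudeIn_of_iso inDIso hamp)
  obtain ⟨e₁⟩ := nonempty_RHom_unit_iso hb hp
  haveI := isIso_curry_coUniv (algebraMap P A) hδ
  let e₂ : (DRing.restrictD (algebraMap P A)).obj W ≅ DerivedCategory.Q.obj (DRing.homCx F (RHomEval.A₀ P)) :=
    asIso (rhomHomEquiv _ (rU (algebraMap P A)) _ ((μR (algebraMap P A)).app W ≫ δ)) ≪≫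
      ((RHom P).mapIso e.op).app (unit P) ≪≫ e₁
  have hv := RHomEval.vanishes_dual F hb
  rw [neg_zero, neg_neg] at hv
  exact ⟨_, hv, fun i => haveI := (RHomEval.finite_projective_dual F hp i).2; inferInstance, ⟨e₂.symm⟩⟩

/-- Tor amplitude passes to the base of a flat algebra. -/
theorem hasTorAmplitudeIn_restrict {R P A : Type u} [CommRing R] [CommRing P] [CommRing A] (ρ : R →+* P)
    (hρ : ρ.Flat) {f : P →+* A} (θ : R →+* A) (hθ : f.comp ρ = θ) {W : Dual.D A} {a b : ℤ}
    (h : DRing.HasTorAmplitudeIn P a b ((DRing.restrictD f).obj W)) :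
    DRing.HasTorAmplitudeIn R a b ((DRing.restrictD θ).obj W) := by
  obtain ⟨E, hv, hp, ⟨e⟩⟩ := h
  refine ⟨((ModuleCat.restrictScalars.{u} ρ).mapHomologicalComplex (ComplexShape.up ℤ)).obj E,
    fun i hi => (ModuleCat.restrictScalars.{u} ρ).map_isZero (hv i hi), fun i => ?_,
    ⟨(resFactors ρ).symm.app E ≪≫ (DRing.restrictD ρ).mapIso e ≪≫ (resDComp ρ f θ hθ).symm.app W⟩⟩
  letI : Algebra R P := ρ.toAlgebra
  haveI : Module.Flat R P := hρ
  letI : Module R (E.X i) := Module.compHom _ ρ
  haveI : IsScalarTower R P (E.X i) := IsScalarTower.of_algebraMap_smul fun r x => rfl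
  haveI := hp i
  exact Module.Flat.trans R P (E.X i)

/-- The upper shriek of the base of a flat map has amplitude at most the number of variables. -/
theorem hasTorAmplitudeIn_shriekVia (R A : Type u) [CommRing R] [CommRing A] [IsNoetherianRing R]
    [IsNoetherianRing A] [Algebra R A] [Module.Flat R A] (n : ℕ) (ψ : MvPolynomial (Fin n) R →ₐ[R] A)
    (hψ : Function.Surjective ψ) [DRing.HasLBaseChange (algebraMap R (MvPolynomial (Fin n) R))]
    {Rψ : Dual.D (MvPolynomial (Fin n) R) ⥤ Dual.D A} (adj : DRing.restrictD ψ.toRingHom ⊣ Rψ) :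
    DRing.HasTorAmplitudeIn R (-(n : ℤ)) 0
      ((DRing.restrictD (algebraMap R A)).obj (Dual2.shriekVia n Rψ (Dual.inD R R))) := by
  let P := MvPolynomial (Fin n) R
  letI : Algebra P A := ψ.toRingHom.toAlgebra
  haveI : Module.Finite P A := Module.Finite.of_surjective (Algebra.linearMap P A) hψ
  haveI : IsScalarTower R P A := IsScalarTower.of_algebraMap_eq fun r => (ψ.commutes r).symm
  haveI := Groth.Agent.DualCxLib.hasLTen P
  haveI := Groth.Agent.DualCxLib.hasRHom P
  obtain ⟨W, δ, hδ, ⟨eW⟩⟩ := exists_coUniv_unit R A n ψ adj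
  have h1 := hasTorAmplitudeIn_restrict (algebraMap R P) (RingHom.flat_algebraMap_iff.2 inferInstance)
    (algebraMap R A) ψ.comp_algebraMap
    (hasTorAmplitudeIn_res_coUniv (isPerfectModule_of_flat R n A) (hasTorAmplitudeIn_inD R n A) hδ)
  obtain ⟨E, hv, hf, ⟨e⟩⟩ := DRingLib.hasTorAmplitudeIn_shift h1 (n : ℤ)
  rw [zero_sub, sub_self] at hv
  exact ⟨E, hv, hf, ⟨e ≪≫ (((DRing.restrictD (algebraMap R A)).commShiftIso (n : ℤ)).app W).symm ≪≫
    ((DRing.restrictD (algebraMap R A)).mapIso eW).symm⟩⟩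

end ShriekRingLib
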