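import Groth.Agent.ShriekRingLib.VanishBelow
import Groth.Agent.ShriekRingLib.CokerFlat
import Groth.Agent.ShriekRingLib.UpperFlat
import Groth.Agent.FibDimLib.SchemeInv

/-!
# The range of the upper shriek of the base of a flat map
-/

set_option autoImplicit false
set_option linter.all false
set_option maxHeartbeats 1000000

universe u

open CategoryTheory CategoryTheory.Limits MonoidalCategory AlgebraicGeometry
open Groth.Agent DTen
open DTenLib.Point (hH sg)
open scoped TensorProduct
open KFlatLib (tensorN)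

attribute [local instance] HasDerivedCategory.standard

noncomputable section

namespace ShriekRingLib

open FinDualLib Groth.Agent.DualCxLib TorIndBCLib

/-- Restriction has a right adjoint. -/
theorem exists_rightAdjoint {B C : Type u} [CommRing B] [CommRing C] (φ : B →+* C) :
    Nonempty (Σ G : Dual.D B ⥤ Dual.D C, DRing.restrictD φ ⊣ G) := by
  choose Z ε hε using fun X : Dual.D B => FinDualLib.exists_coUniv φ X
  exact ⟨⟨_, Adjunction.adjunctionOfEquivRight (F := DRing.restrictD φ) (G_obj := Z)
    (fun W X => (Equiv.ofBijective _ (hε X W)).symm) (fun W' W X f g => by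
      refine (Equiv.symm_apply_eq _).2 ?_
      show _ = (DRing.restrictD φ).map (f ≫ (Equiv.ofBijective _ (hε X W)).symm g) ≫ ε X
      rw [Functor.map_comp, Category.assoc]
      exact congrArg _ ((Equiv.ofBijective _ (hε X W)).apply_symm_apply g).symm)⟩⟩

theorem subsingleton_of_localized {B : Type u} [CommRing B] {M : Type u} [AddCommGroup M] [Module B M]
    (h : ∀ q : PrimeSpectrum B, Subsingleton (LocalizedModule q.asIdeal.primeCompl M)) : Subsingleton M := by
  rw [← Module.support_eq_empty_iff (R := B)]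
  exact Set.eq_empty_iff_forall_notMem.2 fun q => Module.notMem_support_iff.2 (h q)

/-- The upper shriek of the base vanishes below minus a bound of the fibre dimensions. -/
theorem isZero_below (R A : Type u) [CommRing R] [CommRing A] [IsNoetherianRing R] [IsNoetherianRing A]
    [Algebra R A] (n : ℕ) (ψ : MvPolynomial (Fin n) R →ₐ[R] A) (hψ : Function.Surjective ψ)
    [DRing.HasLBaseChange (algebraMap R (MvPolynomial (Fin n) R))]
    {Rψ : Dual.D (MvPolynomial (Fin n) R) ⥤ Dual.D A} (adj : DRing.restrictD ψ.toRingHom ⊣ Rψ) (d : ℕ)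
    (hd : ∀ q : PrimeSpectrum A,
      FlatMor.fibreDimAt (Spec.map (CommRingCat.ofHom (algebraMap R A))) q ≤ (d : WithBot ℕ∞))
    (i : ℤ) (hi : i < -(d : ℤ)) :
    IsZero ((hH A i).obj (Dual2.shriekVia n Rψ (Dual.inD R R))) := by
  haveI : Subsingleton (Dual.HD A (Dual2.shriekVia n Rψ (Dual.inD R R)) i) :=
    subsingleton_of_localized fun q => by
      obtain ⟨e, he, hed⟩ : ∃ e : ℕ, FlatMor.fibreDimAt (Spec.map (CommRingCat.ofHom (algebraMap R A))) q = e ∧
          e ≤ d := by
        have h0 : 0 ≤ FlatMor.fibreDimAt (Spec.map (CommRingCat.ofHom (algebraMap R A))) q := FibDimLib.localDim_nonneg _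
        have h1 := hd q
        revert h0 h1
        generalize FlatMor.fibreDimAt (Spec.map (CommRingCat.ofHom (algebraMap R A))) q = x
        intro h0 h1
        induction x with
        | bot => exact absurd h0 (by simp)
        | coe x =>
          induction x with
          | top =>
            exact absurd (WithBot.coe_le_coe.1 h1) (by simp)
          | coe x =>
            refine ⟨x, rfl, ?_⟩
            have : (x : ℕ∞) ≤ (d : ℕ∞) := WithBot.coe_le_coe.1 h1
            exact_mod_cast this
      exact subsingleton_localized_below R A n ψ hψ adj q e he i (by omega)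
  exact ModuleCat.isZero_of_subsingleton _

/-- Fibre dimensions of a base change. -/
theorem fibreDimAt_le_baseChange (R R' A : Type u) [CommRing R] [CommRing R'] [CommRing A] [Algebra R R']
    [Algebra R A] [Algebra.FiniteType R A] (d : ℕ)
    (hd : ∀ q : PrimeSpectrum A,
      FlatMor.fibreDimAt (Spec.map (CommRingCat.ofHom (algebraMap R A))) q ≤ (d : WithBot ℕ∞))
    (q' : PrimeSpectrum (R' ⊗[R] A)) :
    FlatMor.fibreDimAt (Spec.map (CommRingCat.ofHom (algebraMap R' (R' ⊗[R] A)))) q' ≤ (d : WithBot ℕ∞) := by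
  haveI : LocallyOfFiniteType (Spec.map (CommRingCat.ofHom (algebraMap R A))) :=
    (HasRingHomProperty.Spec_iff (P := @LocallyOfFiniteType)).2 (RingHom.finiteType_algebraMap.2 inferInstance)
  letI : Algebra A (R' ⊗[R] A) := Algebra.TensorProduct.rightAlgebra
  haveI : IsScalarTower R A (R' ⊗[R] A) := IsScalarTower.of_algebraMap_eq fun r =>
    ((Algebra.TensorProduct.includeRight : A →ₐ[R] R' ⊗[R] A).commutes r).symm
  have hc := isPullback_SpecMap_of_isPushout _ _ _ _ (CommRingCat.isPushout_of_isPushout R R' A (R' ⊗[R] A))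
  rw [FibDimLib.fibreDimAt_baseChange hc.flip q']
  exact hd _

/-- Vanishing of the homology of a base change computes vanishing of the tensor product with the algebra. -/
theorem isZero_tensorN_of_extCx {R S : Type u} [CommRing R] [CommRing S] [Algebra R S] (E : DRing.Cx R) (i : ℤ)
    (h : IsZero (((extCx (algebraMap R S)).obj E).homology i)) :
    IsZero ((tensorN E (ModuleCat.of R S)).homology i) := by
  let F := ModuleCat.restrictScalars.{u} (algebraMap R S)
  have h1 : IsZero ((F.mapHomologicalComplex (ComplexShape.up ℤ)).obj ((extCx (algebraMap R S)).obj E) |>.homology i) :=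
    (F.map_isZero h).of_iso ((((extCx (algebraMap R S)).obj E).sc i).mapHomologyIso F)
  let N := (ModuleCat.restrictScalars.{u} (algebraMap R S)).obj (𝟙_ (ModuleCat.{u} S))
  let l : S ≃ₗ[R] N :=
    { toFun := fun x => (x : S)
      invFun := fun x => (x : S)
      map_add' := fun _ _ => rfl
      map_smul' := fun r x => Algebra.smul_def r x
      left_inv := fun _ => rfl
      right_inv := fun _ => rfl }
  let j : N ≅ ModuleCat.of R S := l.toModuleIso.symm
  let t := (BraidedCategory.tensorLeftIsoTensorRight (ModuleCat.of R S)).symm ≪≫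
    (curriedTensor (ModuleCat.{u} R)).mapIso j.symm ≪≫ KFlatLib.tensorLeftExtIso (algebraMap R S)
  exact h1.of_iso ((HomologicalComplex.homologyFunctor _ _ i).mapIso
    (HomologicalComplex.Hom.isoOfComponents (fun k => t.app (E.X k))
      (fun a b _ => (t.hom.naturality (E.d a b)).symm)))

/-- Nonnegativity of cohomological degree of a shift is inherited along restriction. -/
theorem isZero_of_restrict {B C : Type u} [CommRing B] [CommRing C] (φ : B →+* C) (X : Dual.D C) (i : ℤ)
    (h : IsZero ((hH C i).obj X)) : IsZero ((hH B i).obj ((DRing.restrictD φ).obj X)) :=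
  ((ModuleCat.restrictScalars.{u} φ).map_isZero h).of_iso
    ((DerLib.ExactHomology.homologyIso (ModuleCat.restrictScalars.{u} φ) i).app X)

/-- The tensor product with a quotient of the base computes the base change. -/
theorem isZero_tensorN_below (R R' A : Type u) [CommRing R] [CommRing R'] [CommRing A] [IsNoetherianRing R]
    [IsNoetherianRing R'] [IsNoetherianRing A] [Algebra R R'] [Algebra R A] [Module.Flat R A] (n : ℕ)
    (ψ : MvPolynomial (Fin n) R →ₐ[R] A) (hψ : Function.Surjective ψ)
    [DRing.HasLBaseChange (algebraMap R (MvPolynomial (Fin n) R))]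
    {Rψ : Dual.D (MvPolynomial (Fin n) R) ⥤ Dual.D A} (adj : DRing.restrictD ψ.toRingHom ⊣ Rψ) (d : ℕ)
    (hd : ∀ q : PrimeSpectrum A,
      FlatMor.fibreDimAt (Spec.map (CommRingCat.ofHom (algebraMap R A))) q ≤ (d : WithBot ℕ∞))
    {E : DRing.Cx R} {a₀ b : ℤ} (hE : DRing.VanishesOutside E a₀ b) (hf : DRing.TermwiseFlat E)
    (e : DerivedCategory.Q.obj E ≅ (DRing.restrictD (algebraMap R A)).obj (Dual2.shriekVia n Rψ (Dual.inD R R)))
    (i : ℤ) (hi : i < -(d : ℤ)) : IsZero ((tensorN E (ModuleCat.of R R')).homology i) := by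
  haveI : Algebra.FiniteType R A := Algebra.FiniteType.of_surjective ψ hψ
  let A' := R' ⊗[R] A
  letI : Algebra A A' := Algebra.TensorProduct.rightAlgebra
  haveI : IsScalarTower R A A' := IsScalarTower.of_algebraMap_eq fun r =>
    ((Algebra.TensorProduct.includeRight : A →ₐ[R] A').commutes r).symm
  haveI : IsNoetherianRing A' := Algebra.FiniteType.isNoetherianRing R' A'
  obtain ⟨m, ψ', hψ'⟩ := Algebra.FiniteType.iff_quotient_mvPolynomial''.1 (inferInstance : Algebra.FiniteType R' A')
  haveI := DRingLib.hasLBaseChange (algebraMap R' (MvPolynomial (Fin m) R'))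
  haveI := DRingLib.hasLBaseChange (algebraMap R R')
  haveI := DRingLib.hasLBaseChange (Algebra.TensorProduct.includeRight : A →ₐ[R] R' ⊗[R] A).toRingHom
  obtain ⟨⟨Rψ', adj'⟩⟩ := exists_rightAdjoint ψ'.toRingHom
  obtain ⟨η₁, hη₁⟩ := exists_univ_base (algebraMap R R') (Dual.inD R R)
  obtain ⟨e₁⟩ := nonempty_univ_unit_iso hη₁
  obtain ⟨k₁⟩ := shriekVia_baseChange_flat ψ hψ adj ψ' hψ' adj' (Dual.inD R R)
  let k : (DRing.LBaseChange (Algebra.TensorProduct.includeRight : A →ₐ[R] R' ⊗[R] A).toRingHom).obj
      (Dual2.shriekVia n Rψ (Dual.inD R R)) ≅ Dual2.shriekVia m Rψ' (Dual.inD R' R') :=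
    k₁ ≪≫ (shiftFunctor _ (m : ℤ)).mapIso (Rψ'.mapIso ((DRing.LBaseChange _).mapIso (e₁ ≪≫ (inDUnit R').symm)))
  have h1 := (isZero_below R' A' m ψ' hψ' adj' d (fibreDimAt_le_baseChange R R' A d hd) i hi).of_iso
    ((hH A' i).mapIso k)
  haveI : DRing.HasLBaseChange (algebraMap A A') :=
    ‹DRing.HasLBaseChange (Algebra.TensorProduct.includeRight : A →ₐ[R] R' ⊗[R] A).toRingHom›
  obtain ⟨ηA, hηA⟩ := exists_univ_base (algebraMap A A') (Dual2.shriekVia n Rψ (Dual.inD R R))
  haveI : Algebra.IsPushout R R' A A' := inferInstance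
  have h2 := isUniv_res_tor R R' A A' (torInd_of_flat R R' A) hηA
  obtain ⟨c, -⟩ := exists_iso_univ h2
    ((isUniv_γ_kf (algebraMap R R') (DRingLib.isKFlat_of_flatAmplitude hE hf)).comp_iso e.symm (Iso.refl _))
  exact isZero_tensorN_of_extCx E i (((isZero_of_restrict (algebraMap R' A') _ i h1).of_iso
    ((hH R' i).mapIso c).symm).of_iso
      ((DerivedCategory.homologyFunctorFactors (ModuleCat.{u} R') i).app ((extCx (algebraMap R R')).obj E)).symm)

/-- The tor amplitude from the dimensions of the fibres. -/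
theorem hasTorAmplitudeIn_dim (R A : Type u) [CommRing R] [CommRing A] [IsNoetherianRing R] [IsNoetherianRing A]
    [Algebra R A] [Module.Flat R A] (n : ℕ)
    (ψ : MvPolynomial (Fin n) R →ₐ[R] A) (hψ : Function.Surjective ψ)
    [DRing.HasLBaseChange (algebraMap R (MvPolynomial (Fin n) R))]
    {Rψ : Dual.D (MvPolynomial (Fin n) R) ⥤ Dual.D A} (adj : DRing.restrictD ψ.toRingHom ⊣ Rψ) (d : ℕ)
    (hd : ∀ q : PrimeSpectrum A,
      FlatMor.fibreDimAt (Spec.map (CommRingCat.ofHom (algebraMap R A))) q ≤ (d : WithBot ℕ∞)) :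
    DRing.HasTorAmplitudeIn R (-(d : ℤ)) 0
      ((DRing.restrictD (algebraMap R A)).obj (Dual2.shriekVia n Rψ (Dual.inD R R))) := by
  obtain ⟨E, hE, hf, ⟨e⟩⟩ := hasTorAmplitudeIn_shriekVia R A n ψ hψ adj
  refine DRingLib.hasTorAmplitudeIn_of_iso e (hasTorAmplitudeIn_of_cyclic hE hf (fun i hi => ?_) fun I =>
    isZero_tensorN_below R (R ⧸ I) A n ψ hψ adj d hd hE hf e _ (by omega))
  exact ((isZero_of_restrict (algebraMap R A) _ i (isZero_below R A n ψ hψ adj d hd i hi)).of_iso
    ((hH R i).mapIso e)).of_iso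
      ((DerivedCategory.homologyFunctorFactors (ModuleCat.{u} R) i).app E).symm

/-- The upper shriek of the base of a flat map vanishes in positive degrees. -/
theorem subsingleton_above (R A : Type u) [CommRing R] [CommRing A] [IsNoetherianRing R] [IsNoetherianRing A]
    [Algebra R A] [Module.Flat R A] (n : ℕ)
    (ψ : MvPolynomial (Fin n) R →ₐ[R] A) (hψ : Function.Surjective ψ)
    [DRing.HasLBaseChange (algebraMap R (MvPolynomial (Fin n) R))]
    {Rψ : Dual.D (MvPolynomial (Fin n) R) ⥤ Dual.D A} (adj : DRing.restrictD ψ.toRingHom ⊣ Rψ) (i : ℤ) (hi : 0 < i) :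
    Subsingleton (Dual.HD A (Dual2.shriekVia n Rψ (Dual.inD R R)) i) := by
  have h := (DRingLib.isZero_Hn_of_hasTorAmplitudeIn (hasTorAmplitudeIn_shriekVia R A n ψ hψ adj) i (Or.inr hi)).of_iso
    ((DerLib.ExactHomology.homologyIso (ModuleCat.restrictScalars.{u} (algebraMap R A)) i).app
      (Dual2.shriekVia n Rψ (Dual.inD R R))).symm
  exact ModuleCat.subsingleton_of_isZero
    (M := (ModuleCat.restrictScalars.{u} (algebraMap R A)).obj ((hH A i).obj (Dual2.shriekVia n Rψ (Dual.inD R R)))) h

end ShriekRingLib
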