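import Groth.Agent.ShriekRingLib.Degree
import Groth.Agent.DualBCLib.Local

/-!
# The upper shriek of a normalized dualizing complex is normalized at closed points over the closed point
-/

set_option autoImplicit false
set_option linter.all false
set_option maxHeartbeats 1000000

universe u

open CategoryTheory CategoryTheory.Limits
open Groth.Agent DTen
open DTenLib.Point (hH sg)
open scoped TensorProduct

attribute [local instance] HasDerivedCategory.standard

noncomputable section

namespace ShriekRingLib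

open Groth.Agent.DualCxLib FlatExtLib

theorem not_van_of_killed {A : Type u} [CommRing A] (M : Ideal A) [M.IsMaximal] {V : Type (u + 1)}
    [AddCommGroup V] [Module A V] (hk : ∀ r ∈ M, ∀ v : V, r • v = 0) (h : ¬ Subsingleton V) : ¬ Van M V :=
  fun hv => h (subsingleton_of_forall_eq 0 fun v => by
    obtain ⟨s, hs, hsv⟩ := hv v
    obtain ⟨y, m, hm, hy⟩ := Ideal.IsMaximal.exists_inv inferInstance hs
    calc v = (y * s + m) • v := by rw [hy, one_smul]
      _ = 0 := by rw [add_smul, mul_smul, hsv, smul_zero, hk m hm v, zero_add])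

variable {R A : Type u} [CommRing R] [CommRing A] [IsNoetherianRing R] [IsNoetherianRing A] [Algebra R A]
variable (n : ℕ) (ψ : MvPolynomial (Fin n) R →ₐ[R] A) (hψ : Function.Surjective ψ)
variable [DRing.HasLBaseChange (algebraMap R (MvPolynomial (Fin n) R))]
variable {Rψ : Dual.D (MvPolynomial (Fin n) R) ⥤ Dual.D A} (adj : DRing.restrictD ψ.toRingHom ⊣ Rψ)

include hψ adj in
theorem line_shriekVia {ω : Dual.D R} (hω : Dual.IsDualizing R ω) (p : PrimeSpectrum R) [p.asIdeal.IsMaximal]
    (m : Ideal A) [m.IsMaximal] (hm : m.comap (algebraMap R A) = p.asIdeal) :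
    (∀ i : ℤ, i ≠ deg hω p → Subsingleton (Ext (Dual2.shriekVia n Rψ ω) (ModuleCat.of A (A ⧸ m)) i)) ∧
      Nonempty (Ext (Dual2.shriekVia n Rψ ω) (ModuleCat.of A (A ⧸ m)) (deg hω p) ≃ₗ[A] A ⧸ m) := by
  letI : Algebra (MvPolynomial (Fin n) R) A := ψ.toRingHom.toAlgebra
  haveI : Module.Finite (MvPolynomial (Fin n) R) A :=
    Module.Finite.of_surjective (Algebra.linearMap (MvPolynomial (Fin n) R) A) hψ
  have hP := isDualizing_base n hω
  obtain ⟨η, hη⟩ := DualBCLib.exists_bc_base (S := MvPolynomial (Fin n) R) ω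
  obtain ⟨d, hne, hvan, ⟨line⟩⟩ := FinDualLib.exists_line_closed hP
    (FinDualLib.isCoUniv_of_adjunction (algebraMap (MvPolynomial (Fin n) R) A) adj _) m
  let M : PrimeSpectrum (MvPolynomial (Fin n) R) := ⟨m.comap (algebraMap (MvPolynomial (Fin n) R) A), inferInstance⟩
  haveI : M.asIdeal.IsMaximal := Ideal.comap_isMaximal_of_surjective _ hψ
  have hdeg : deg hP M = deg hω p + n := deg_polynomial n hω hP hη p M (by
    show (m.comap (algebraMap (MvPolynomial (Fin n) R) A)).comap _ = _
    rw [Ideal.comap_comap, show (algebraMap (MvPolynomial (Fin n) R) A).comp (algebraMap R _) = algebraMap R A from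
      RingHom.ext ψ.commutes, hm])
  obtain rfl : d = deg hP M := by
    by_contra hd
    exact not_van_of_killed M.asIdeal (fun r hr v => DualBCLib.smul_ext_eq_zero hr d v) hne
      ((isDeg_deg hP M).1 d hd)
  rw [hdeg] at hvan line
  refine ⟨fun i hi => ?_, ?_⟩
  · exact (postcompL _ (shift₂ _ (n : ℤ) i (i + n) (add_comm _ _))).toEquiv.subsingleton_congr.2
      (hvan (i + n) (by omega))
  · exact ⟨(postcompL _ (shift₂ _ (n : ℤ) (deg hω p) (deg hω p + n) (add_comm _ _))).trans line⟩

include hψ adj in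
theorem normalized_localization [IsLocalRing R] (m : Ideal A) [m.IsMaximal]
    (hm : m.comap (algebraMap R A) = IsLocalRing.maximalIdeal R) {ω : Dual.D R} (hω : Dual.IsDualizing R ω)
    (hn : Dual.IsNormalized R ω) [DRing.HasLBaseChange (algebraMap A (Localization.AtPrime m))] :
    IsPointwiseDual ((DRing.LBaseChange (algebraMap A (Localization.AtPrime m))).obj (Dual2.shriekVia n Rψ ω)) 0 := by
  let S := Localization.AtPrime m
  haveI : IsNoetherianRing S := IsLocalization.isNoetherianRing m.primeCompl _ inferInstance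
  haveI : Module.Flat A S := IsLocalization.flat S m.primeCompl
  haveI : (closedPt R).asIdeal.IsMaximal := IsLocalRing.maximalIdeal.isMaximal R
  obtain ⟨hvan, ⟨line⟩⟩ := line_shriekVia n ψ hψ adj hω (closedPt R) m hm
  rw [deg_closedPt_of_normalized hω hn] at hvan line
  obtain ⟨a, ha⟩ := isGE_dualizing (isDualizing_shriekVia n ψ hψ adj hω)
  have hfin := (isDualizing_shriekVia n ψ hψ adj hω).finite_cohomology
  obtain ⟨η, hη⟩ := DualBCLib.exists_bc_base (S := S) (Dual2.shriekVia n Rψ ω)
  let ek : S ⊗[A] (A ⧸ m) ≃ₗ[S] IsLocalRing.ResidueField S :=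
    (Algebra.TensorProduct.quotIdealMapEquivTensorQuot S m).symm.toLinearEquiv.trans
      (Submodule.quotEquivOfEq _ _ (Localization.AtPrime.map_eq_maximalIdeal (I := m)))
  have eExt : ∀ i, Nonempty (S ⊗[A] Ext (Dual2.shriekVia n Rψ ω) (ModuleCat.of A (A ⧸ m)) i ≃ₗ[S]
      (Dual.inD S (IsLocalRing.ResidueField S) ⟶
        ((DRing.LBaseChange (algebraMap A S)).obj (Dual2.shriekVia n Rψ ω))⟦i⟧)) := fun i => by
    obtain ⟨E⟩ := nonempty_ext_bc ha hη (A ⧸ m) i
    exact ⟨E.trans (precompL ((DerivedCategory.singleFunctor (ModuleCat.{u} S) 0).mapIso ek.toModuleIso) _)⟩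
  refine ⟨fun i => DualBCLib.finite_HD_bc ha hfin hη i, ⟨a, (exists_isGE hη ha).2⟩, fun i hi => ?_, ?_⟩
  · obtain ⟨E⟩ := eExt i
    haveI := hvan i hi
    haveI := DualBCLib.subsingleton_tensor (A := A) (S := S)
      (V := Ext (Dual2.shriekVia n Rψ ω) (ModuleCat.of A (A ⧸ m)) i)
    exact E.symm.toEquiv.subsingleton
  · obtain ⟨E⟩ := eExt 0
    exact ⟨E.symm.trans ((TensorProduct.AlgebraTensorModule.congr (LinearEquiv.refl S S) line).trans ek)⟩

end ShriekRingLib
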