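import Groth.Agent.ShriekRingLib.Invertible

/-!
# Gorenstein fibres and invertibility of the upper shriek of the base
-/

set_option autoImplicit false
set_option linter.all false
set_option maxHeartbeats 1000000

universe u

open CategoryTheory CategoryTheory.Limits
open Groth.Agent DTen
open scoped TensorProduct
open DTenLib.Point (hH sg)

attribute [local instance] HasDerivedCategory.standard

noncomputable section

namespace ShriekRingLib

open FinDualLib Groth.Agent.DualCxLib TorIndBCLib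

variable (R A : Type u) [CommRing R] [CommRing A] [IsNoetherianRing R] [IsNoetherianRing A] [Algebra R A]
  [Module.Flat R A] (n : ℕ) (ψ : MvPolynomial (Fin n) R →ₐ[R] A)
  [DRing.HasLBaseChange (algebraMap R (MvPolynomial (Fin n) R))]
  {Rψ : Dual.D (MvPolynomial (Fin n) R) ⥤ Dual.D A}

theorem finite_bounded_shriekVia (hψ : Function.Surjective ψ) (adj : DRing.restrictD ψ.toRingHom ⊣ Rψ) :
    ∃ a b : ℤ, (∀ i : ℤ, (i < a ∨ b < i) → Subsingleton (Dual.HD A (Dual2.shriekVia n Rψ (Dual.inD R R)) i)) ∧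
      ∀ i : ℤ, Module.Finite A (Dual.HD A (Dual2.shriekVia n Rψ (Dual.inD R R)) i) := by
  obtain ⟨W, hperf, -, -, ⟨e⟩⟩ := exists_perfect_unit R A n ψ hψ adj
  obtain ⟨a, b, hab⟩ := bounded_of_perfect hperf
  have hge : (Dual.inD R R).IsGE 0 := inferInstance
  exact ⟨_, _, bounded_shift (n : ℤ) e hab,
    (bounded_and_finite n ψ hψ adj hge).2 (finite_HD_inD R)⟩

/-- Invertibility gives Gorenstein fibres. -/
theorem gorenstein_fibre_of_invertible (hψ : Function.Surjective ψ) (adj : DRing.restrictD ψ.toRingHom ⊣ Rψ)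
    [hL : ∀ f : A, DRing.HasLBaseChange (algebraMap A (Localization.Away f))]
    (h : ∀ q : PrimeSpectrum A, ∃ (f : A) (_ : f ∉ q.asIdeal) (m : ℤ),
      Nonempty ((DRing.LBaseChange (algebraMap A (Localization.Away f))).obj (Dual2.shriekVia n Rψ (Dual.inD R R)) ≅
        (Dual.inD (Localization.Away f) (Localization.Away f))⟦m⟧))
    (k : Type u) [Field k] [Algebra R k] : LocCoh.IsGorensteinRing (k ⊗[R] A) := by
  let F := k ⊗[R] A
  let ι : A →+* F := (Algebra.TensorProduct.includeRight : A →ₐ[R] k ⊗[R] A).toRingHom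
  haveI := DRingLib.hasLBaseChange ι
  have hd := isDualizing_fibre R A n ψ hψ adj k
  obtain ⟨η₀, hη₀⟩ := exists_univ_base ι (Dual2.shriekVia n Rψ (Dual.inD R R))
  haveI := hd.isNoetherianRing
  refine { toIsNoetherian := inferInstance, isGorensteinLocalRing_localization := fun Q hQ => ?_ }
  haveI : IsNoetherianRing (Localization.AtPrime Q) := IsLocalization.isNoetherianRing Q.primeCompl _ inferInstance
  obtain ⟨t, ht, m, ⟨e⟩⟩ := h ⟨Q.comap ι, inferInstance⟩
  haveI := hL t
  obtain ⟨Zl, ηl, hul, hll⟩ := DualBCLib.exists_loc_any (L := Localization.AtPrime Q) Q.primeCompl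
    ((DRing.LBaseChange ι).obj (Dual2.shriekVia n Rψ (Dual.inD R R)))
  have hθ := isUniv_comp (θ := (algebraMap F (Localization.AtPrime Q)).comp ι) rfl hη₀ hul
  have hu : IsUnit (((algebraMap F (Localization.AtPrime Q)).comp ι) t) :=
    IsLocalization.map_units (Localization.AtPrime Q) (⟨ι t, ht⟩ : Q.primeCompl)
  let ρ : Localization.Away t →+* Localization.AtPrime Q := IsLocalization.Away.lift t hu
  obtain ⟨η₁, hη₁⟩ := exists_univ_base (algebraMap A (Localization.Away t)) (Dual2.shriekVia n Rψ (Dual.inD R R))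
  obtain ⟨Z, η, η', hη, hη'⟩ := exists_univ_comp_iso (θ := (algebraMap F (Localization.AtPrime Q)).comp ι)
    (IsLocalization.Away.lift_comp t hu) hη₁
  obtain ⟨e'⟩ := nonempty_univ_shift_iso hη' m e
  obtain ⟨c, -⟩ := exists_iso_univ hθ hη
  exact (gorenstein_iff (isDualizing_loc Q.primeCompl hd hul hll)).2
    ⟨-m, ⟨((shiftFunctorCompIsoId (Dual.D (Localization.AtPrime Q)) m (-m) (by omega)).app _).symm ≪≫
      (shiftFunctor _ (-m)).mapIso (c ≪≫ e').symm⟩⟩

/-- Gorenstein fibres give invertibility. -/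
theorem invertible_of_gorenstein_fibre (hψ : Function.Surjective ψ) (adj : DRing.restrictD ψ.toRingHom ⊣ Rψ)
    [hL : ∀ f : A, DRing.HasLBaseChange (algebraMap A (Localization.Away f))] (q : PrimeSpectrum A)
    (hp : LocCoh.IsGorensteinRing ((q.asIdeal.comap (algebraMap R A)).ResidueField ⊗[R] A)) :
    ∃ (f : A) (_ : f ∉ q.asIdeal) (m : ℤ),
      Nonempty ((DRing.LBaseChange (algebraMap A (Localization.Away f))).obj (Dual2.shriekVia n Rψ (Dual.inD R R)) ≅
        (Dual.inD (Localization.Away f) (Localization.Away f))⟦m⟧) := by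
  let p := q.asIdeal.comap (algebraMap R A)
  let k := p.ResidueField
  let F := k ⊗[R] A
  let K := q.asIdeal.ResidueField
  let S := Localization.AtPrime q.asIdeal
  let ι : A →+* F := (Algebra.TensorProduct.includeRight : A →ₐ[R] k ⊗[R] A).toRingHom
  haveI := DRingLib.hasLBaseChange ι
  have hd := isDualizing_fibre R A n ψ hψ adj k
  let j : k →ₐ[R] K := Ideal.ResidueField.mapₐ p q.asIdeal (Algebra.ofId R A) rfl
  let g : F →+* K := (Algebra.TensorProduct.productMap j (IsScalarTower.toAlgHom R A K)).toRingHom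
  have hg : g.comp ι = algebraMap A K := RingHom.ext fun a => by
    show Algebra.TensorProduct.productMap j (IsScalarTower.toAlgHom R A K) (1 ⊗ₜ a) = algebraMap A K a
    rw [Algebra.TensorProduct.productMap_apply_tmul, map_one, one_mul]
    rfl
  haveI := hp.toIsNoetherian
  haveI : (RingHom.ker g).IsPrime := RingHom.ker_isPrime g
  haveI hgor := hp.isGorensteinLocalRing_localization (RingHom.ker g)
  let L := Localization.AtPrime (RingHom.ker g)
  haveI : IsNoetherianRing L := IsLocalization.isNoetherianRing (RingHom.ker g).primeCompl _ inferInstance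
  have hu : ∀ x : (RingHom.ker g).primeCompl, IsUnit (g x) := fun x => IsUnit.mk0 _ x.2
  let g' : L →+* K := IsLocalization.lift hu
  obtain ⟨η₀, hη₀⟩ := exists_univ_base ι (Dual2.shriekVia n Rψ (Dual.inD R R))
  obtain ⟨Zl, ηl, hul, hll⟩ := DualBCLib.exists_loc_any (L := L) (RingHom.ker g).primeCompl
    ((DRing.LBaseChange ι).obj (Dual2.shriekVia n Rψ (Dual.inD R R)))
  obtain ⟨m, ⟨e⟩⟩ := (gorenstein_iff (isDualizing_loc (RingHom.ker g).primeCompl hd hul hll)).1 hgor
  let e₁ : Zl ≅ (Dual.inD L L)⟦-m⟧ :=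
    ((shiftFunctorCompIsoId (Dual.D L) m (-m) (by omega)).app _).symm ≪≫ (shiftFunctor _ (-m)).mapIso e.symm
  have hθ := isUniv_comp (θ := (algebraMap F L).comp ι) rfl hη₀ hul
  obtain ⟨ZK, ηK, ηK', hηK, hηK'⟩ := exists_univ_comp_iso (θ := algebraMap A K)
    (show g'.comp ((algebraMap F L).comp ι) = algebraMap A K by
      rw [← RingHom.comp_assoc, IsLocalization.lift_comp hu, hg]) hθ
  obtain ⟨e₂⟩ := nonempty_univ_shift_iso hηK' (-m) e₁
  obtain ⟨Y, ηY, huY, hlY⟩ := DualBCLib.exists_loc_any (L := S) q.asIdeal.primeCompl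
    (Dual2.shriekVia n Rψ (Dual.inD R R))
  obtain ⟨ZK₂, η₂, η₂', hη₂, hη₂'⟩ := exists_univ_comp_iso (θ := algebraMap A K)
    (IsScalarTower.algebraMap_eq A S K).symm huY
  obtain ⟨c, -⟩ := exists_iso_univ hη₂ hηK
  obtain ⟨a, b, hab, hfin⟩ := finite_bounded_shriekVia R A n ψ hψ adj
  haveI : IsNoetherianRing S := IsLocalization.isNoetherianRing q.asIdeal.primeCompl _ inferInstance
  have hYf : ∀ i : ℤ, Module.Finite S (Dual.HD S Y i) := fun i => by
    haveI := hfin i
    exact Module.Finite.equiv (nonempty_HD_loc q hlY i).some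
  have hYb : ∀ i, b < i → Subsingleton (Dual.HD S Y i) := fun i hi => by
    haveI := hab i (Or.inr hi)
    exact (nonempty_HD_loc q hlY i).some.symm.toEquiv.subsingleton
  obtain ⟨eY⟩ := iso_shift_of_residue (algebraMap S K)
    (fun x hx => (IsLocalRing.residue_eq_zero_iff x).2 hx) hYf hYb hη₂' (c ≪≫ e₂)
  obtain ⟨t, ht, H⟩ := exists_shift_nhd hfin hab q hlY eY
  haveI := hL t
  obtain ⟨η, -, hl⟩ := exists_loc_base (S := Localization.Away t) (Submonoid.powers t)
    (Dual2.shriekVia n Rψ (Dual.inD R R))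
  exact ⟨t, ht, -m, H _ η hl⟩

end ShriekRingLib
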