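import Groth.Agent.ShriekRingLib.Iso
import Mathlib.RingTheory.IsTensorProduct

/-!
# Restriction of scalars and flat base change in a cocartesian square
-/

set_option autoImplicit false
set_option linter.all false
set_option maxHeartbeats 1000000

universe u

open CategoryTheory CategoryTheory.Limits
open Groth.Agent DTen
open scoped TensorProduct

attribute [local instance] HasDerivedCategory.standard

noncomputable section

namespace ShriekRingLib

open Groth.Agent.DualCxLib

variable (R S A B : Type u) [CommRing R] [CommRing S] [CommRing A] [CommRing B]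
  [Algebra R S] [Algebra R A] [Algebra R B] [Algebra S B] [Algebra A B]
  [IsScalarTower R A B] [IsScalarTower R S B]

/-- The two ways of restricting from the corner. -/
def sqComm : DRing.restrictD (algebraMap A B) ⋙ DRing.restrictD (algebraMap R A) ≅
    DRing.restrictD (algebraMap S B) ⋙ DRing.restrictD (algebraMap R S) :=
  (resDComp (algebraMap R A) (algebraMap A B) (algebraMap R B) (IsScalarTower.algebraMap_eq R A B).symm).symm ≪≫
    resDComp (algebraMap R S) (algebraMap S B) (algebraMap R B) (IsScalarTower.algebraMap_eq R S B).symm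

/-- The comparison, on modules. -/
def thetaMod : ModuleCat.restrictScalars.{u} (algebraMap R A) ⋙ ModuleCat.extendScalars.{u, u, u} (algebraMap R S) ⟶
    ModuleCat.extendScalars.{u, u, u} (algebraMap A B) ⋙ ModuleCat.restrictScalars.{u} (algebraMap S B) where
  app M := ((ModuleCat.extendRestrictScalarsAdj.{u, u, u} (algebraMap R S)).homEquiv _ _).symm
    ((ModuleCat.restrictScalars.{u} (algebraMap R A)).map
        ((ModuleCat.extendRestrictScalarsAdj.{u, u, u} (algebraMap A B)).unit.app M) ≫
      (ModuleCat.restrictScalarsComp'App (algebraMap R A) (algebraMap A B) (algebraMap R B)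
        (IsScalarTower.algebraMap_eq R A B) _).inv ≫
      (ModuleCat.restrictScalarsComp'App (algebraMap R S) (algebraMap S B) (algebraMap R B)
        (IsScalarTower.algebraMap_eq R S B) _).hom)
  naturality M N g := by
    rw [Functor.comp_map, ← (ModuleCat.extendRestrictScalarsAdj.{u, u, u} (algebraMap R S)).homEquiv_naturality_left_symm,
      ← (ModuleCat.extendRestrictScalarsAdj.{u, u, u} (algebraMap R S)).homEquiv_naturality_right_symm]
    exact congrArg _ (ModuleCat.hom_ext (LinearMap.ext fun m => rfl))

variable [Algebra.IsPushout R S A B]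

theorem bijective_thetaMod (M : ModuleCat.{u} A) : Function.Bijective ((thetaMod R S A B).app M).hom := by
  letI : Module R M := Module.compHom M (algebraMap R A)
  haveI : IsScalarTower R A M := IsScalarTower.of_algebraMap_smul fun _ _ => rfl
  let e1 : ((ModuleCat.restrictScalars.{u} (algebraMap R S)).obj ((ModuleCat.extendScalars.{u, u, u} (algebraMap R S)).obj
      ((ModuleCat.restrictScalars.{u} (algebraMap R A)).obj M)) : Type u) ≃ₗ[R] S ⊗[R] M :=
    (extEquiv (A := R) (S := S) _).trans
      (TensorProduct.congr (LinearEquiv.refl R S)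
        { toFun := fun x => x
          invFun := fun x => x
          map_add' := fun _ _ => rfl
          map_smul' := fun r x => rfl
          left_inv := fun _ => rfl
          right_inv := fun _ => rfl })
  let e2 := extEquiv (A := A) (S := B) M
  let c := Algebra.IsPushout.cancelBaseChange R S A B M
  have key : ∀ z : S ⊗[R] M, e2 (((thetaMod R S A B).app M).hom (e1.symm z)) = c.symm z := fun z => by
    induction z using TensorProduct.induction_on with
    | zero =>
      exact ((congrArg e2 ((congrArg ((thetaMod R S A B).app M).hom (map_zero e1.symm)).trans (map_zero _))).trans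
        (map_zero e2)).trans (map_zero c.symm).symm
    | tmul s m =>
      rw [Algebra.IsPushout.cancelBaseChange_symm_tmul]
      show (algebraMap S B s * 1) ⊗ₜ[A] m = _
      rw [mul_one]
    | add x y hx hy =>
      exact ((congrArg e2 ((congrArg ((thetaMod R S A B).app M).hom (map_add e1.symm x y)).trans (map_add _ _ _))).trans
        (map_add e2 _ _)).trans ((congrArg₂ (· + ·) hx hy).trans (map_add c.symm x y).symm)
  refine ⟨fun x y h => e1.injective (c.symm.injective ?_), fun y => ?_⟩
  · rw [← key, ← key, e1.symm_apply_apply, e1.symm_apply_apply]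
    exact congrArg e2 h
  · obtain ⟨z, hz⟩ := c.symm.surjective (e2 y)
    exact ⟨e1.symm z, e2.injective ((key z).trans hz)⟩

instance isIso_thetaMod (M : ModuleCat.{u} A) : IsIso ((thetaMod R S A B).app M) :=
  (ConcreteCategory.isIso_iff_bijective _).2 (bijective_thetaMod R S A B M)

variable [Module.Flat R S]

/-- Restriction sends universal maps to universal maps in a cocartesian square with a flat edge. -/
theorem isUniv_res {W : Dual.D A} {W' : Dual.D B} {η : W ⟶ (DRing.restrictD (algebraMap A B)).obj W'}
    (hη : IsUniv (algebraMap A B) η) :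
    IsUniv (algebraMap R S) ((DRing.restrictD (algebraMap R A)).map η ≫ (sqComm R S A B).hom.app W') := by
  haveI : Algebra.IsPushout R A S B := Algebra.IsPushout.symm inferInstance
  haveI : Module.Flat A B := Module.Flat.of_linearEquiv (Algebra.IsPushout.equiv R A S B).symm.toLinearEquiv
  obtain ⟨P, ⟨e⟩⟩ : ∃ P : DRing.Cx A, Nonempty (DerivedCategory.Q.obj P ≅ W) :=
    ⟨_, ⟨DerivedCategory.Q.objObjPreimageIso W⟩⟩
  obtain ⟨k, hk⟩ := exists_iso_univ ((FlatExtLib.isUniv_γ_flat (A := A) (S := B) P).comp_iso e.symm (Iso.refl _)) hη
  let φ := algebraMap R A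
  let ρ := algebraMap R S
  let φ' := algebraMap S B
  let E := (extCx (algebraMap A B)).obj P
  let th : (extCx ρ).obj ((resCx φ).obj P) ⟶ (resCx φ').obj E :=
    { f := fun i => (thetaMod R S A B).app (P.X i)
      comm' := fun i j _ => ((thetaMod R S A B).naturality (P.d i j)).symm }
  haveI : ∀ i, IsIso (th.f i) := fun i => isIso_thetaMod R S A B _
  haveI : IsIso th := HomologicalComplex.Hom.isIso_of_components th
  let f : DerivedCategory.Q.obj ((extCx ρ).obj ((resCx φ).obj P)) ≅ (DRing.restrictD φ').obj (DerivedCategory.Q.obj E) :=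
    DerivedCategory.Q.mapIso (asIso th) ≪≫ ((resFactors φ').app E).symm
  have hu := (FlatExtLib.isUniv_γ_flat (A := R) (S := S) ((resCx φ).obj P)).comp_iso ((resFactors φ).app P) f
  have hX : (sqComm R S A B).hom.app (DerivedCategory.Q.obj E) =
      (DRing.restrictD φ).map ((resFactors (algebraMap A B)).hom.app E) ≫ (resFactors φ).hom.app _ ≫
        DerivedCategory.Q.map ((resCxIso φ (algebraMap A B) (algebraMap R B) (IsScalarTower.algebraMap_eq R A B).symm).inv.app E ≫
          (resCxIso ρ φ' (algebraMap R B) (IsScalarTower.algebraMap_eq R S B).symm).hom.app E) ≫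
          (resFactors ρ).inv.app _ ≫ (DRing.restrictD ρ).map ((resFactors φ').inv.app E) := by
    show (resDComp _ _ _ _).inv.app _ ≫ (resDComp _ _ _ _).hom.app _ = _
    rw [Functor.map_comp, Category.assoc]
    refine (cancel_epi ((resDComp φ (algebraMap A B) (algebraMap R B)
      (IsScalarTower.algebraMap_eq R A B).symm).hom.app (DerivedCategory.Q.obj E))).1 ?_
    rw [Iso.hom_inv_id_app_assoc]
    simp only [resDComp_app_Q, Category.assoc, ← Functor.map_comp_assoc, Iso.inv_hom_id_app,
      CategoryTheory.Functor.map_id, Category.id_comp, Iso.inv_hom_id_app_assoc]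
    erw [CategoryTheory.Functor.map_id, Category.id_comp, Iso.inv_hom_id_app_assoc, ← Functor.map_comp_assoc,
      Iso.hom_inv_id_app_assoc]
  have hγ : (DRing.restrictD φ).map (γ (algebraMap A B) P) ≫ (sqComm R S A B).hom.app (DerivedCategory.Q.obj E) =
      ((resFactors φ).app P).hom ≫ γ ρ ((resCx φ).obj P) ≫ (DRing.restrictD ρ).map f.hom := by
    rw [hX, show f.hom = DerivedCategory.Q.map th ≫ (resFactors φ').inv.app E from rfl,
      (DRing.restrictD ρ).map_comp, ← Category.assoc (γ ρ _), γ_comp]
    show (DRing.restrictD φ).map (DerivedCategory.Q.map _ ≫ _) ≫ _ = _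
    have hu1 : (DRing.restrictD φ).map (DerivedCategory.Q.map ((unitCx (algebraMap A B)).app P) ≫
          (resFactors (algebraMap A B)).inv.app E) ≫
        (DRing.restrictD φ).map ((resFactors (algebraMap A B)).hom.app E) =
        (DRing.restrictD φ).map (DerivedCategory.Q.map ((unitCx (algebraMap A B)).app P)) :=
      ((DRing.restrictD φ).map_comp _ _).symm.trans (congrArg _ ((Category.assoc _ _ _).trans
        ((congrArg (DerivedCategory.Q.map ((unitCx (algebraMap A B)).app P) ≫ ·)
          ((resFactors (algebraMap A B)).inv_hom_id_app E)).trans (Category.comp_id _))))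
    refine ((Category.assoc _ _ _).symm.trans (congrArg (· ≫ _) hu1)).trans ?_
    refine ((reassoc_of% ((resFactors φ).hom.naturality ((unitCx (algebraMap A B)).app P))) _).trans ?_
    simp only [Category.assoc, Functor.comp_map, ← Functor.map_comp_assoc, Iso.app_hom]
    refine congrArg (fun g => (resFactors φ).hom.app P ≫ DerivedCategory.Q.map g ≫ _) ?_
    refine HomologicalComplex.hom_ext _ _ fun i => ?_
    exact (((ModuleCat.extendRestrictScalarsAdj.{u, u, u} ρ).homEquiv _ _).apply_symm_apply _).symm.trans
      ((ModuleCat.extendRestrictScalarsAdj.{u, u, u} ρ).homEquiv_unit _ _ _)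
  rw [← hγ] at hu
  have h2 := hu.comp_iso ((DRing.restrictD φ).mapIso e.symm) ((DRing.restrictD φ').mapIso k)
  have he : ((DRing.restrictD φ).mapIso e.symm).hom ≫ ((DRing.restrictD φ).map (γ (algebraMap A B) P) ≫
      (sqComm R S A B).hom.app (DerivedCategory.Q.obj E)) ≫
      (DRing.restrictD ρ).map ((DRing.restrictD φ').mapIso k).hom =
      (DRing.restrictD φ).map η ≫ (sqComm R S A B).hom.app W' := by
    rw [← hk]
    simp only [Functor.mapIso_hom, Iso.refl_hom, CategoryTheory.Functor.map_id, Category.comp_id, Functor.map_comp,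
      Category.assoc]
    refine congrArg ((DRing.restrictD φ).map e.symm.hom ≫ (DRing.restrictD φ).map (γ (algebraMap A B) P) ≫ ·) ?_
    exact ((sqComm R S A B).hom.naturality k.hom).symm
  rwa [he] at h2

end ShriekRingLib
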