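import Groth.Agent.FinDualLib.CoUniv

/-!
# Restriction of scalars along a composite, naturally in the derived category
-/

set_option autoImplicit false
set_option linter.all false
set_option maxHeartbeats 1000000

universe u

open CategoryTheory CategoryTheory.Limits
open Groth.Agent DTen

attribute [local instance] HasDerivedCategory.standard

noncomputable section

namespace ShriekRingLib

open FinDualLib Groth.Agent.DualCxLib

variable {A B C : Type u} [CommRing A] [CommRing B] [CommRing C]


/-- Restriction along a composite, on complexes. -/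
def resCxIso (φ : A →+* B) (π : B →+* C) (θ : A →+* C) (h : π.comp φ = θ) :
    (ModuleCat.restrictScalars.{u} θ).mapHomologicalComplex (ComplexShape.up ℤ) ≅
      (ModuleCat.restrictScalars.{u} π).mapHomologicalComplex (ComplexShape.up ℤ) ⋙
        (ModuleCat.restrictScalars.{u} φ).mapHomologicalComplex (ComplexShape.up ℤ) :=
  NatIso.ofComponents (fun K => HomologicalComplex.Hom.isoOfComponents
    (fun i => (ModuleCat.restrictScalarsComp'App φ π θ h.symm (K.X i))) fun i j _ => rfl) fun _ => rfl

instance liftingComp (φ : A →+* B) (π : B →+* C) :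
    Localization.Lifting DerivedCategory.Q (HomologicalComplex.quasiIso (ModuleCat.{u} C) (ComplexShape.up ℤ))
      (((ModuleCat.restrictScalars.{u} π).mapHomologicalComplex (ComplexShape.up ℤ) ⋙
        (ModuleCat.restrictScalars.{u} φ).mapHomologicalComplex (ComplexShape.up ℤ)) ⋙ DerivedCategory.Q)
      (DRing.restrictD π ⋙ DRing.restrictD φ) :=
    ⟨(Functor.associator _ _ _).symm ≪≫
      Functor.isoWhiskerRight (ModuleCat.restrictScalars.{u} π).mapDerivedCategoryFactors _ ≪≫
      Functor.associator _ _ _ ≪≫
      Functor.isoWhiskerLeft _ (ModuleCat.restrictScalars.{u} φ).mapDerivedCategoryFactors ≪≫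
      (Functor.associator _ _ _).symm⟩

/-- Restriction along a composite. -/
def resDComp (φ : A →+* B) (π : B →+* C) (θ : A →+* C) (h : π.comp φ = θ) :
    DRing.restrictD θ ≅ DRing.restrictD π ⋙ DRing.restrictD φ :=
  Localization.liftNatIso DerivedCategory.Q (HomologicalComplex.quasiIso (ModuleCat.{u} C) (ComplexShape.up ℤ))
    ((ModuleCat.restrictScalars.{u} θ).mapHomologicalComplex (ComplexShape.up ℤ) ⋙ DerivedCategory.Q) _
    (DRing.restrictD θ) _ (Functor.isoWhiskerRight (resCxIso φ π θ h) _)

theorem resDComp_app_Q (φ : A →+* B) (π : B →+* C) (θ : A →+* C) (h : π.comp φ = θ) (K : DRing.Cx C) :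
    (resDComp φ π θ h).hom.app (DerivedCategory.Q.obj K) =
      (resFactors θ).hom.app K ≫ DerivedCategory.Q.map ((resCxIso φ π θ h).hom.app K) ≫
        (resFactors φ).inv.app _ ≫ (DRing.restrictD φ).map ((resFactors π).inv.app K) := by
  refine (Localization.liftNatTrans_app DerivedCategory.Q _ _ _ _ _ _ K).trans ?_
  show _ ≫ _ ≫ _ = _
  simp [liftingComp, resFactors, Localization.Lifting.iso]


end ShriekRingLib
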