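import Groth.Agent.ShriekRingLib.FlatSelf
import Groth.Agent.ShriekRingLib.ResComp
import Groth.Agent.DRingLib.AmplitudeTri
import Groth.Agent.DerLib.ExactHomology

/-!
# Boundedness and tor dimension of objects perfect over a polynomial ring
-/

set_option autoImplicit false
set_option linter.all false
set_option maxHeartbeats 1000000

universe u

open CategoryTheory CategoryTheory.Limits
open Groth.Agent DTen
open DTenLib.Point (hH sg)

attribute [local instance] HasDerivedCategory.standard

noncomputable section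

namespace ShriekRingLib

open FinDualLib Groth.Agent.DualCxLib

variable {R P A : Type u} [CommRing R] [CommRing P] [CommRing A]

/-- A perfect restriction bounds the cohomology. -/
theorem bounded_of_perfect {f : P →+* A} {W : Dual.D A}
    (h : DRing.IsPerfect P ((DRing.restrictD f).obj W)) :
    ∃ a b : ℤ, ∀ i : ℤ, (i < a ∨ b < i) → Subsingleton (Dual.HD A W i) := by
  obtain ⟨E, a, b, hv, hp, ⟨e⟩⟩ := h
  refine ⟨a, b, fun i hi => ?_⟩
  have h1 := DRingLib.isZero_Hn_of_hasTorAmplitudeIn (K := (DRing.restrictD f).obj W)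
    ⟨E, hv, fun j => haveI := (hp j).2; inferInstance, ⟨e⟩⟩ i hi
  have h2 := h1.of_iso ((DerLib.ExactHomology.homologyIso (ModuleCat.restrictScalars.{u} f) i).app W).symm
  exact ModuleCat.subsingleton_of_isZero (M := (ModuleCat.restrictScalars.{u} f).obj ((hH A i).obj W)) h2

/-- Perfect over a flat algebra has finite tor dimension over the base. -/
theorem hasFiniteTorDimCx_of_perfect (ρ : R →+* P) (hρ : ρ.Flat) {f : P →+* A} (θ : R →+* A)
    (hθ : f.comp ρ = θ) {W : Dual.D A} (h : DRing.IsPerfect P ((DRing.restrictD f).obj W)) :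
    DRing.HasFiniteTorDimCx R ((DRing.restrictD θ).obj W) := by
  obtain ⟨E, a, b, hv, hp, ⟨e⟩⟩ := h
  refine ⟨a, b, ((ModuleCat.restrictScalars.{u} ρ).mapHomologicalComplex (ComplexShape.up ℤ)).obj E,
    fun i hi => (ModuleCat.restrictScalars.{u} ρ).map_isZero (hv i hi), fun i => ?_,
    ⟨(resFactors ρ).symm.app E ≪≫ (DRing.restrictD ρ).mapIso e ≪≫ (resDComp ρ f θ hθ).symm.app W⟩⟩
  letI : Algebra R P := ρ.toAlgebra
  haveI : Module.Flat R P := hρ
  letI : Module R (E.X i) := Module.compHom _ ρ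
  haveI : IsScalarTower R P (E.X i) := IsScalarTower.of_algebraMap_smul fun r x => rfl
  haveI := (hp i).2
  exact Module.Flat.trans R P (E.X i)

/-- Finite tor dimension survives shifting. -/
theorem hasFiniteTorDimCx_shift {θ : R →+* A} {W V : Dual.D A} (n : ℤ) (e : V ≅ W⟦n⟧)
    (h : DRing.HasFiniteTorDimCx R ((DRing.restrictD θ).obj W)) :
    DRing.HasFiniteTorDimCx R ((DRing.restrictD θ).obj V) := by
  obtain ⟨a, b, hab⟩ := h
  obtain ⟨E, h1, h2, ⟨e'⟩⟩ := DRingLib.hasTorAmplitudeIn_shift hab n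
  exact ⟨a - n, b - n, E, h1, h2,
    ⟨e' ≪≫ (((DRing.restrictD θ).commShiftIso n).app W).symm ≪≫ ((DRing.restrictD θ).mapIso e).symm⟩⟩

/-- Bounded cohomology survives shifting. -/
theorem bounded_shift {W V : Dual.D A} (n : ℤ) (e : V ≅ W⟦n⟧) {a b : ℤ}
    (h : ∀ i : ℤ, (i < a ∨ b < i) → Subsingleton (Dual.HD A W i)) :
    ∀ i : ℤ, (i < a - n ∨ b - n < i) → Subsingleton (Dual.HD A V i) := fun i hi =>
  haveI := h (n + i) (by omega)
  (((hH A i).mapIso e).toLinearEquiv.trans (hHShift W n i (n + i) rfl).toLinearEquiv).toEquiv.subsingleton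

theorem finite_HD_inD (R : Type u) [CommRing R] (i : ℤ) : Module.Finite R (Dual.HD R (Dual.inD R R) i) := by
  rcases eq_or_ne i 0 with rfl | hi
  · exact Module.Finite.equiv (DTenLib.Point.sgH (ModuleCat.of R R) 0).toLinearEquiv.symm
  · haveI := ModuleCat.subsingleton_of_isZero (DTenLib.Point.isZero_sg (N := ModuleCat.of R R) hi)
    exact inferInstanceAs (Module.Finite R ((hH R i).obj (sg (ModuleCat.of R R) 0)))

end ShriekRingLib
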