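import Groth.Agent.ShriekRingLib.FlatSelf
import Groth.Agent.ShriekRingLib.SelfProps
import Groth.Agent.InvCxLib.Basic
import Groth.Agent.DualCxLib.SchGor
import Groth.Agent.DualBCLib.GorFibre

/-!
# Invertibility is detected on residue fields
-/

set_option autoImplicit false
set_option linter.all false
set_option maxHeartbeats 1000000

universe u

open CategoryTheory CategoryTheory.Limits
open Groth.Agent DTen
open DTenLib.Point (hH sg)

attribute [local instance] HasDerivedCategory.standard

noncomputable section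

namespace ShriekRingLib

open FinDualLib Groth.Agent.DualCxLib TorIndBCLib

/-- Base change of a shift of the ring is a shift of the ring. -/
theorem nonempty_univ_shift_iso {A B : Type u} [CommRing A] [CommRing B] {φ : A →+* B} {X : Dual.D A}
    {Z : Dual.D B} {η : X ⟶ (DRing.restrictD φ).obj Z} (hη : IsUniv φ η) (m : ℤ)
    (e : X ≅ (Dual.inD A A)⟦m⟧) : Nonempty (Z ≅ (Dual.inD B B)⟦m⟧) := by
  obtain ⟨Z₀, η₀, hη₀⟩ := exists_univ_any φ (Dual.inD A A)
  obtain ⟨e₀⟩ := nonempty_univ_unit_iso hη₀
  obtain ⟨k, -⟩ := exists_iso_univ hη ((isUniv_shift hη₀ m).comp_iso e (Iso.refl _))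
  exact ⟨k ≪≫ (shiftFunctor _ m).mapIso (e₀ ≪≫ (inDUnit B).symm)⟩

/-- Base changes along two factorisations agree. -/
theorem exists_univ_comp_iso {A B C : Type u} [CommRing A] [CommRing B] [CommRing C] {φ : A →+* B}
    {π : B →+* C} {θ : A →+* C} (h : π.comp φ = θ) {X : Dual.D A}
    {Z₁ : Dual.D B} {η₁ : X ⟶ (DRing.restrictD φ).obj Z₁} (h₁ : IsUniv φ η₁) :
    ∃ (Z : Dual.D C) (η : X ⟶ (DRing.restrictD θ).obj Z) (η' : Z₁ ⟶ (DRing.restrictD π).obj Z),
      IsUniv θ η ∧ IsUniv π η' := by
  obtain ⟨Z, η', hη'⟩ := exists_univ_any π Z₁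
  exact ⟨Z, _, η', isUniv_comp h h₁ hη', hη'⟩

/-- An object whose fibre at the closed point is a shifted line is a shift of the ring. -/
theorem iso_shift_of_residue {S : Type u} [CommRing S] [IsLocalRing S] [IsNoetherianRing S]
    {K : Type u} [Field K] (f : S →+* K) (hf : ∀ x ∈ IsLocalRing.maximalIdeal S, f x = 0) {X : Dual.D S}
    (hfin : ∀ i : ℤ, Module.Finite S (Dual.HD S X i)) {b : ℤ}
    (hb : ∀ i, b < i → Subsingleton (Dual.HD S X i))
    {Z : Dual.D K} {η : X ⟶ (DRing.restrictD f).obj Z} (hη : IsUniv f η) {m : ℤ}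
    (e : Z ≅ (Dual.inD K K)⟦m⟧) : Nonempty (X ≅ (Dual.inD S S)⟦m⟧) := by
  obtain ⟨P, c, hP, ⟨eP⟩⟩ := InvCxLib.exists_min X hfin hb
  have hPk : DRing.IsKFlat S P := DRingLib.isKFlat_of_free P c hP.above fun i => (hP.free i).1
  obtain ⟨k, -⟩ := exists_iso_univ hη ((isUniv_γ_kf f hPk).comp_iso eP.symm (Iso.refl _))
  let E := (extCx f).obj P
  letI : Algebra S K := f.toAlgebra
  let D := (HomologicalComplex.single (ModuleCat.{u} K) (ComplexShape.up ℤ) (-m)).obj (ModuleCat.of K K)
  have hEf : ∀ i, Module.Free K (E.X i) ∧ Module.Finite K (E.X i) := fun i => by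
    haveI := (hP.free i).2
    exact ⟨Module.Free.of_divisionRing K _,
      inferInstanceAs (Module.Finite K (TensorProduct S K (P.X i)))⟩
  have hEa : ∀ i, c < i → IsZero (E.X i) := fun i hi =>
    (ModuleCat.extendScalars.{u, u, u} f).map_isZero (hP.above i hi)
  have hEd : ∀ p q, p + 1 = q → (E.d p q).hom = 0 := fun p q h => by
    refine LinearMap.ext fun z => ?_
    induction (show TensorProduct S ((ModuleCat.restrictScalars f).obj (ModuleCat.of K K)) (P.X p) from z) using TensorProduct.induction_on with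
    | zero => exact map_zero _
    | add u v hu hv => exact (map_add _ u v).trans ((congrArg₂ (· + ·) hu hv).trans (add_zero _))
    | tmul a x =>
      show a ⊗ₜ[S] ((P.d p q).hom x) = 0
      have hx := hP.mem_smul p q h x
      revert hx
      generalize ((P.d p q).hom x : P.X q) = w
      intro hx
      induction hx using Submodule.smul_induction_on' with
      | smul r hr z hz =>
        rw [TensorProduct.tmul_smul, TensorProduct.smul_tmul',
          show r • a = 0 from (show f r * (show K from a) = 0 by rw [hf r hr, zero_mul]), TensorProduct.zero_tmul]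
      | add u _ v _ hu hv => rw [TensorProduct.tmul_add, hu, hv, add_zero]
  have hDf : ∀ i, Module.Free K (D.X i) ∧ Module.Finite K (D.X i) := fun i => by
    by_cases h : i = -m
    · subst h
      let e := (HomologicalComplex.singleObjXSelf (ComplexShape.up ℤ) (-m) (ModuleCat.of K K)).toLinearEquiv.symm
      exact ⟨Module.Free.of_equiv e, Module.Finite.equiv e⟩
    · haveI := ModuleCat.subsingleton_of_isZero
        (HomologicalComplex.isZero_single_obj_X (ComplexShape.up ℤ) (-m) (ModuleCat.of K K) i h)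
      exact ⟨inferInstance, inferInstance⟩
  let eD : DerivedCategory.Q.obj D ≅ (Dual.inD K K)⟦m⟧ :=
    ((DerivedCategory.singleFunctorIsoCompQ (ModuleCat.{u} K) (-m)).app (ModuleCat.of K K)).symm ≪≫
      (DRingLib.singleShiftIso (ModuleCat.of K K) (-m)).symm ≪≫ eqToIso (by rw [neg_neg])
  obtain ⟨g⟩ := TwoTermLib.MinRep.nonempty_iso E D hEa
    (fun i hi => HomologicalComplex.isZero_single_obj_X _ _ _ i (show i ≠ -m by omega) : ∀ i, -m < i → _)
    hEf hDf (fun p q h => by rw [hEd p q h]; exact LinearMap.baseChange_zero)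
    (fun p q h => by rw [HomologicalComplex.single_obj_d]; exact LinearMap.baseChange_zero)
    (k.symm ≪≫ e ≪≫ eD.symm)
  have hr : ∀ i, Module.finrank S (P.X i) = Module.finrank K (D.X i) := fun i => by
    haveI := (hP.free i).1
    haveI := (hP.free i).2
    rw [← (HomologicalComplex.Hom.isoApp g i).toLinearEquiv.finrank_eq]
    exact (Module.finrank_baseChange (R := K) (S := S) (M' := P.X i)).symm
  have hz : ∀ i, i ≠ -m → IsZero (P.X i) := fun i hi => by
    haveI := (hP.free i).1
    haveI := (hP.free i).2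
    haveI := ModuleCat.subsingleton_of_isZero
      (HomologicalComplex.isZero_single_obj_X (ComplexShape.up ℤ) (-m) (ModuleCat.of K K) i hi)
    have h0 : Module.finrank S (P.X i) = 0 := (hr i).trans (Module.finrank_zero_of_subsingleton (R := K))
    let bP := Module.Free.chooseBasis S (P.X i)
    haveI : IsEmpty (Module.Free.ChooseBasisIndex S (P.X i)) :=
      Fintype.card_eq_zero_iff.1 ((Module.finrank_eq_card_chooseBasisIndex S (P.X i)).symm.trans h0)
    haveI : Subsingleton (P.X i) := bP.repr.toEquiv.subsingleton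
    exact ModuleCat.isZero_of_subsingleton _
  have h1 : Module.finrank S (P.X (-m)) = 1 := by
    rw [hr]
    exact (HomologicalComplex.singleObjXSelf (ComplexShape.up ℤ) (-m) (ModuleCat.of K K)).toLinearEquiv.finrank_eq.trans
      (Module.finrank_self K)
  obtain ⟨j⟩ := InvCxLib.nonempty_iso_shift hz (hP.free (-m)) h1
  exact ⟨eP.symm ≪≫ j ≪≫ eqToIso (by rw [neg_neg])⟩

/-- A shift of the ring at a prime spreads to a neighbourhood. -/
theorem exists_shift_nhd {A : Type u} [CommRing A] [IsNoetherianRing A] {ω : Dual.D A}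
    (hfin : ∀ i : ℤ, Module.Finite A (Dual.HD A ω i)) {a b : ℤ}
    (hab : ∀ i : ℤ, (i < a ∨ b < i) → Subsingleton (Dual.HD A ω i)) (p : PrimeSpectrum A)
    {Y : Dual.D (Localization.AtPrime p.asIdeal)}
    {η : ω ⟶ (DRing.restrictD (algebraMap A (Localization.AtPrime p.asIdeal))).obj Y}
    (hL : IsLocH (algebraMap A (Localization.AtPrime p.asIdeal)) p.asIdeal.primeCompl η) {m : ℤ}
    (eY : Y ≅ (Dual.inD (Localization.AtPrime p.asIdeal) (Localization.AtPrime p.asIdeal))⟦m⟧) :
    ∃ (t : A), t ∉ p.asIdeal ∧ ∀ (Z : Dual.D (Localization.Away t))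
      (η : ω ⟶ (DRing.restrictD (awayMap t)).obj Z), IsLocH (awayMap t) (Submonoid.powers t) η →
        Nonempty (Z ≅ (Dual.inD (Localization.Away t) (Localization.Away t))⟦m⟧) := by
  classical
  let S := Localization.AtPrime p.asIdeal
  have hY : ∀ i, Dual.HD S Y i ≃ₗ[S] (hH S (m + i)).obj (Dual.inD S S) := fun i =>
    ((hH S i).mapIso eY ≪≫ hHShift (Dual.inD S S) m i (m + i) rfl).toLinearEquiv
  have ε := fun i => (nonempty_HD_loc p hL i).some
  have hz : ∀ i, i ≠ -m → p ∉ Module.support A (Dual.HD A ω i) := fun i hi => by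
    rw [Module.notMem_support_iff]
    haveI := ModuleCat.subsingleton_of_isZero
      (DTenLib.Point.isZero_sg (N := ModuleCat.of S S) (show m + i ≠ 0 by omega))
    exact ((ε i).trans (hY i)).toEquiv.subsingleton
  obtain ⟨q⟩ : Nonempty (LocalizedModule p.asIdeal.primeCompl (Dual.HD A ω (-m)) ≃ₗ[S] S) := by
    have := hY (-m)
    rw [add_neg_cancel] at this
    exact ⟨(ε (-m)).trans (this.trans (DTenLib.Point.sgH (ModuleCat.of S S) 0).toLinearEquiv)⟩
  haveI := hfin
  haveI : Module.FinitePresentation A (Dual.HD A ω (-m)) := Module.finitePresentation_of_finite A _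
  let f := LocalizedModule.mkLinearMap p.asIdeal.primeCompl (Dual.HD A ω (-m))
  let g := Algebra.linearMap A S
  let q' := q.restrictScalars A
  obtain ⟨l, s, hl⟩ :=
    Module.FinitePresentation.exists_lift_of_isLocalizedModule p.asIdeal.primeCompl g (q'.toLinearMap ∘ₗ f)
  have hmap : IsLocalizedModule.map p.asIdeal.primeCompl f g l = (s • LinearMap.id) ∘ₗ q'.toLinearMap :=
    IsLocalizedModule.ext p.asIdeal.primeCompl f (IsLocalizedModule.map_units g) (by
      rw [IsLocalizedModule.map_comp, hl]; rfl)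
  have hbij : Function.Bijective (IsLocalizedModule.map p.asIdeal.primeCompl f g l) := by
    rw [hmap, LinearMap.coe_comp]
    exact ((Module.End.isUnit_iff _).1 (IsLocalizedModule.map_units g s)).comp q'.bijective
  obtain ⟨r, hr, hrt⟩ := exists_bijective_map_powers p.asIdeal.primeCompl f g l hbij
  have hann : ∀ i, i ≠ -m → ∃ u ∈ Module.annihilator A (Dual.HD A ω i), u ∉ p.asIdeal := fun i hi =>
    SetLike.not_le_iff_exists.1 fun h => hz i hi (Module.mem_support_iff_of_finite.2 h)
  choose! u hu hup using hann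
  let I := (Finset.Icc a b).erase (-m)
  let t := r * ∏ i ∈ I, u i
  have ht : t ∉ p.asIdeal := fun h => by
    rcases p.isPrime.mem_or_mem h with h | h
    · exact hr h
    · obtain ⟨i, hi, h'⟩ := p.isPrime.prod_mem_iff.1 h
      exact hup i (Finset.mem_erase.1 hi).1 h'
  refine ⟨t, ht, fun Z η hL' => ?_⟩
  have key : Nonempty (Z ≅ (Dual.inD (Localization.Away t) (Localization.Away t))⟦-(-m)⟧) := by
    refine nonempty_iso_inD_shift (-m) (fun i hi => ?_) ?_
    · refine ModuleCat.subsingleton_of_isZero (not_tor_HD (Submonoid.powers t) hL' i fun x => ?_)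
      by_cases hib : i ∈ Finset.Icc a b
      · refine ⟨t, Submonoid.mem_powers t, ?_⟩
        obtain ⟨c, hc⟩ : u i ∣ t :=
          (Finset.dvd_prod_of_mem u (Finset.mem_erase.2 ⟨hi, hib⟩)).trans (dvd_mul_left _ _)
        rw [hc, mul_comm, mul_smul, Module.mem_annihilator.1 (hu i hi) x, smul_zero]
      · haveI : Subsingleton (Dual.HD A ω i) := hab i (by rw [Finset.mem_Icc] at hib; omega)
        exact ⟨1, Submonoid.one_mem _, Subsingleton.elim _ _⟩
    · let ee := (DRingLib.exists_homology_iso_mapDerived (ModuleCat.restrictScalars.{u} (awayMap t)) Z (-m)).some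
      letI : Module A (Dual.HD (Localization.Away t) Z (-m)) := Module.compHom _ (awayMap t)
      haveI : IsScalarTower A (Localization.Away t) (Dual.HD (Localization.Away t) Z (-m)) :=
        IsScalarTower.of_algebraMap_smul fun _ _ => rfl
      let e' : (hH A (-m)).obj ((DRing.restrictD (awayMap t)).obj Z) ≃ₗ[A] Dual.HD (Localization.Away t) Z (-m) :=
        ee.toLinearEquiv
      haveI := hL' (-m)
      haveI : IsLocalizedModule (Submonoid.powers t) (e'.toLinearMap.comp ((hH A (-m)).map η).hom) :=
        IsLocalizedModule.of_linearEquiv _ _ e'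
      let i₁ := (IsLocalizedModule.iso (Submonoid.powers t)
        (e'.toLinearMap.comp ((hH A (-m)).map η).hom)).extendScalarsOfIsLocalization (Submonoid.powers t)
          (Localization.Away t)
      let i₂ : LocalizedModule (Submonoid.powers t) (Dual.HD A ω (-m)) ≃ₗ[Localization.Away t]
          LocalizedModule (Submonoid.powers t) A :=
        LinearEquiv.ofBijective (LocalizedModule.map (Submonoid.powers t) l) (hrt t (dvd_mul_right _ _))
      let i₃ : LocalizedModule (Submonoid.powers t) A ≃ₗ[Localization.Away t] Localization.Away t :=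
        (IsLocalizedModule.iso (Submonoid.powers t)
          (Algebra.linearMap A (Localization.Away t))).extendScalarsOfIsLocalization (Submonoid.powers t) _
      exact i₁.symm.trans (i₂.trans i₃)
  obtain ⟨k⟩ := key
  exact ⟨k ≪≫ eqToIso (by rw [neg_neg])⟩

end ShriekRingLib
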