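import Groth.Agent.ShriekRingLib.FlatRelDual
import Groth.Agent.ShriekRingLib.Tensor
import Groth.Agent.DTenLib.InvertibleIdeal
import Groth.Agent.GorLib.RegSeq

/-!
# Couniversal objects of regular quotients, and their flat localisation
-/

set_option autoImplicit false
set_option linter.all false
set_option maxHeartbeats 1000000

universe u

open CategoryTheory CategoryTheory.Limits MonoidalCategory
open Groth.Agent DTen
open scoped TensorProduct
open RingTheory.Sequence

attribute [local instance] HasDerivedCategory.standard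

noncomputable section

namespace ShriekRingLib

open FinDualLib Groth.Agent.DualCxLib TorIndBCLib DTenLib

/-- Derived base change has a left adjoint. -/
theorem hasLBase {A B : Type u} [CommRing A] [CommRing B] (φ : A →+* B) : HasLBase φ := by
  choose Z η hη using fun X : Dual.D A => exists_univ_any φ X
  refine ⟨(Adjunction.adjunctionOfEquivLeft (G := DRing.restrictD φ) (F_obj := Z)
    (fun X W => Equiv.ofBijective _ (hη X W)) fun X Y Y' g h => ?_).isRightAdjoint⟩
  show η X ≫ (DRing.restrictD φ).map (h ≫ g) = (η X ≫ (DRing.restrictD φ).map h) ≫ (DRing.restrictD φ).map g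
  rw [Functor.map_comp, Category.assoc]

/-- Couniversal maps out of finite modules commute with flat base change. -/
theorem exists_coUniv_bc_flat (R S A B : Type u) [CommRing R] [CommRing S] [CommRing A] [CommRing B]
    [IsNoetherianRing R]
    [Algebra R S] [Algebra R A] [Algebra R B] [Algebra S B] [Algebra A B]
    [IsScalarTower R A B] [IsScalarTower R S B] [Algebra.IsPushout R S A B]
    [Module.Flat R S] [Module.Finite R A]
    {K : Dual.D R} (m : ℤ) (hK : DerivedCategory.IsGE K m)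
    {Z : Dual.D A} {ε : (DRing.restrictD (algebraMap R A)).obj Z ⟶ K}
    (hε : IsCoUniv (algebraMap R A) ε)
    {K' : Dual.D S} {ηK : K ⟶ (DRing.restrictD (algebraMap R S)).obj K'} (hηK : IsUniv (algebraMap R S) ηK)
    {Z' : Dual.D B} {ηZ : Z ⟶ (DRing.restrictD (algebraMap A B)).obj Z'} (hηZ : IsUniv (algebraMap A B) ηZ) :
    ∃ ε' : (DRing.restrictD (algebraMap S B)).obj Z' ⟶ K', IsCoUniv (algebraMap S B) ε' := by
  haveI := Groth.Agent.DualCxLib.hasLTen R
  haveI := DTenLib.hasLTen₃ R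
  haveI := DTenLib.isSymMonoidal R
  haveI := Groth.Agent.DualCxLib.hasRHom R
  haveI := hasLBase (algebraMap R S)
  have hti : TorInd R S A := fun Z _ => FlatExtLib.isUniv_γ_flat _
  obtain ⟨ε', hε'⟩ := (isUniv_res_tor R S A B hti hηZ K').2 (ε ≫ ηK)
  refine ⟨ε', (isCoUniv_iff_kMap R S A B hti ε' (FinDualLib.exists_coUniv _ K')).2 ?_⟩
  exact (isCoUniv_kMap_iff_evalTen R S A B hti hηK hε hηZ ε' hε' (FinDualLib.exists_coUniv _ _)).2
    (isIso_evalTen_of_pseudoCoherent K _ PerfModLib.hasFiniteTorDim_of_flat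
      (isPseudoCoherent'_rU PerfModLib.pcoh'_of_finite) m hK)

/-- The couniversal object of the quotient by a non-zero-divisor. -/
theorem exists_coUniv_nzd {B : Type u} [CommRing B] (r : B) (hr : IsSMulRegular B r) :
    ∃ ε : (DRing.restrictD (algebraMap B (B ⧸ Ideal.span {r}))).obj
        ((Dual.inD (B ⧸ Ideal.span {r}) (B ⧸ Ideal.span {r}))⟦(-1 : ℤ)⟧) ⟶ unit B,
      IsCoUniv (algebraMap B (B ⧸ Ideal.span {r})) ε := by
  let C := B ⧸ Ideal.span {r}
  let φ := algebraMap B C
  have hker : RingHom.ker φ = Ideal.span {r} := Ideal.mk_ker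
  let f : B →ₗ[B] RingHom.ker φ := LinearMap.codRestrict _ (LinearMap.toSpanSingleton B B r) fun b => by
    rw [hker]; exact Ideal.mem_span_singleton'.2 ⟨b, rfl⟩
  have hf : Function.Bijective f := ⟨fun a b h => hr (by
      have h' : a • r = b • r := congrArg Subtype.val h
      simpa [mul_comm] using h'), fun x => by
      obtain ⟨b, hb⟩ := Ideal.mem_span_singleton'.1 (le_of_eq hker x.2)
      exact ⟨b, Subtype.ext hb⟩⟩
  let ef : B ≃ₗ[B] RingHom.ker φ := LinearEquiv.ofBijective f hf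
  haveI : Module.Invertible B (RingHom.ker φ) := Module.Invertible.congr ef
  haveI := Groth.Agent.DualCxLib.hasLTen C
  haveI := DTenLib.hasLTen₃ C
  haveI := DTenLib.isSymMonoidal C
  obtain ⟨adj⟩ : Nonempty (Σ G : Dual.D B ⥤ Dual.D C, DRing.restrictD φ ⊣ G) := by
    choose Z ε hε using fun X : Dual.D B => FinDualLib.exists_coUniv φ X
    exact ⟨⟨_, Adjunction.adjunctionOfEquivRight (F := DRing.restrictD φ) (G_obj := Z)
      (fun W X => (Equiv.ofBijective _ (hε X W)).symm) (fun W' W X f g => by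
        refine (Equiv.symm_apply_eq _).2 ?_
        show _ = (DRing.restrictD φ).map (f ≫ (Equiv.ofBijective _ (hε X W)).symm g) ≫ ε X
        rw [Functor.map_comp, Category.assoc]
        exact congrArg _ ((Equiv.ofBijective _ (hε X W)).apply_symm_apply g).symm)⟩⟩
  haveI : HasRHomRel φ := ⟨adj.2.isLeftAdjoint⟩
  haveI := hasLTenMix φ
  obtain ⟨e⟩ := nonempty_RHomRel_iso_of_invertible (R := B) (A := C) Ideal.Quotient.mk_surjective C
    ((TensorProduct.AlgebraTensorModule.congr (LinearEquiv.refl C C) ef.symm).trans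
      (TensorProduct.AlgebraTensorModule.rid B C C) |> fun l =>
      (TensorProduct.AlgebraTensorModule.congr l (LinearEquiv.refl C C)).trans (TensorProduct.lid C C))
  obtain ⟨N, -, ⟨eN⟩⟩ := exists_kf_rep ((Dual.inD C C)⟦(-1 : ℤ)⟧)
  haveI := DTenLib.isIso_εMix φ (𝟙_ (DRing.Cx B)) N kf_unit
  let e₀ : (extCx φ).obj (𝟙_ (DRing.Cx B)) ≅ 𝟙_ (DRing.Cx C) :=
    (HomologicalComplex.singleMapHomologicalComplex (ModuleCat.extendScalars.{u, u, u} φ)
        (ComplexShape.up ℤ) 0).app (𝟙_ (ModuleCat.{u} B)) ≪≫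
      (HomologicalComplex.single (ModuleCat.{u} C) (ComplexShape.up ℤ) 0).mapIso
        (Functor.Monoidal.εIso (ModuleCat.extendScalars.{u, u, u} φ)).symm
  let k : (Dual.inD C C)⟦(-1 : ℤ)⟧ ≅ (RHomRel φ).obj (unit B) :=
    eN.symm ≪≫ DerivedCategory.Q.mapIso ((λ_ N).symm ≪≫ MonoidalCategory.tensorIso e₀.symm (Iso.refl N)) ≪≫
      (asIso ((εMix φ).app (𝟙_ (DRing.Cx B), N))).symm ≪≫ (LTenMix φ).mapIso (Iso.prod (Iso.refl _) eN) ≪≫
      (e.app (unit B)).symm
  exact ⟨_, IsCoUniv_precomp (isCoUniv_of_adjunction φ (relAdj φ) (unit B)) k⟩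

/-- The couniversal object of a regular quotient. -/
theorem exists_coUniv_regular : ∀ (n : ℕ) (B S : Type u) [CommRing B] [CommRing S] (φ : B →+* S)
    (rs : List B), rs.length = n → Function.Surjective φ → RingHom.ker φ = Ideal.ofList rs →
    IsWeaklyRegular B rs →
    ∃ ε : (DRing.restrictD φ).obj ((Dual.inD S S)⟦(-n : ℤ)⟧) ⟶ unit B, IsCoUniv φ ε := by
  intro n
  induction n with
  | zero =>
    intro B S _ _ φ rs hl hs hk _
    obtain rfl := List.length_eq_zero_iff.1 hl
    let e : B ≃+* S := RingEquiv.ofBijective φ ⟨(RingHom.injective_iff_ker_eq_bot _).2 (hk.trans (by simp)), hs⟩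
    have he : e.toRingHom = φ := RingHom.ext fun _ => rfl
    obtain ⟨W, ⟨i⟩⟩ := exists_res_iso e (unit B)
    obtain ⟨k, -⟩ := exists_iso_univ ((isUniv_of_iso e i.symm)) ((isUniv_of_iso e i.symm))
    obtain ⟨j⟩ := nonempty_univ_unit_iso ((isUniv_of_iso e i.symm).comp_iso (inDUnit B) (Iso.refl _))
    rw [← he]
    exact ⟨_, IsCoUniv_precomp (isCoUniv_of_iso e i) ((shiftFunctorZero' (Dual.D S) _ (by simp)).app _ ≪≫
      inDUnit S ≪≫ j.symm)⟩
  | succ n ih =>
    intro B S _ _ φ rs hl hs hk hreg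
    obtain ⟨r, rs, rfl⟩ := List.exists_cons_of_length_eq_add_one hl
    rw [GorLib.isWeaklyRegular_cons_ring] at hreg
    obtain ⟨hr, hrs⟩ := hreg
    let C := B ⧸ Ideal.span {r}
    let π : C →+* S := Ideal.Quotient.lift (Ideal.span {r}) φ fun x hx => by
      have : x ∈ RingHom.ker φ := by
        rw [hk, Ideal.ofList_cons]; exact Ideal.mem_sup_left hx
      exact this
    have hπ : π.comp (algebraMap B C) = φ := RingHom.ext fun x => rfl
    have hπs : Function.Surjective π := Ideal.Quotient.lift_surjective_of_surjective _ _ hs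
    have hπk : RingHom.ker π = Ideal.ofList (rs.map (Ideal.Quotient.mk (Ideal.span {r}))) := by
      rw [← Ideal.map_ofList, Ideal.ker_quotient_lift, hk, Ideal.ofList_cons, Ideal.map_sup,
        Ideal.map_quotient_self, bot_sup_eq]
    obtain ⟨ε₁, hε₁⟩ := exists_coUniv_nzd r hr
    obtain ⟨ε₂, hε₂⟩ := ih C S π _ (by simpa using hl) hπs hπk hrs
    have hε₂' := (isCoUniv_shift hε₂ (-1 : ℤ)).postcomp _ ((shiftFunctor _ (-1 : ℤ)).mapIso (inDUnit C).symm)
    exact ⟨_, IsCoUniv_precomp (isCoUniv_comp hπ hε₁ hε₂')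
      ((shiftFunctorAdd' (Dual.D S) (-n : ℤ) (-1) (-(n + 1 : ℕ) : ℤ) (by push_cast; ring)).app _)⟩

end ShriekRingLib
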