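import Groth.Agent.ShriekRingLib.FibreGrade
import Groth.Agent.ShriekRingLib.RegularQuot
import Groth.Agent.ShriekRingLib.Invertible

/-!
# Vanishing of the upper shriek of the base below minus the fibre dimension
-/

set_option autoImplicit false
set_option linter.all false
set_option maxHeartbeats 1000000

universe u

open CategoryTheory CategoryTheory.Limits
open Groth.Agent DTen
open DTenLib.Point (hH sg)
open scoped TensorProduct
open RingTheory.Sequence

attribute [local instance] HasDerivedCategory.standard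

noncomputable section

namespace ShriekRingLib

open FinDualLib Groth.Agent.DualCxLib TorIndBCLib

/-- A regular sequence in the kernel pushes the couniversal object of the unit upwards. -/
theorem isGE_of_regular_ker {B S : Type u} [CommRing B] [CommRing S] (φ : B →+* S) (rs : List B)
    (hreg : IsWeaklyRegular B rs) (hker : ∀ x ∈ rs, φ x = 0) {Y : Dual.D S}
    {δ : (DRing.restrictD φ).obj Y ⟶ unit B} (hδ : IsCoUniv φ δ) : Y.IsGE (rs.length : ℤ) := by
  let C := B ⧸ Ideal.ofList rs
  obtain ⟨ε₁, hε₁⟩ := exists_coUniv_regular _ B C (Ideal.Quotient.mk _) rs rfl Ideal.Quotient.mk_surjective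
    Ideal.mk_ker hreg
  let π : C →+* S := Ideal.Quotient.lift _ φ (fun x hx => by
    suffices Ideal.ofList rs ≤ RingHom.ker φ from this hx
    exact Ideal.span_le.2 hker)
  letI : Algebra C S := π.toAlgebra
  obtain ⟨Z, ε₂, hε₂⟩ := FinDualLib.exists_coUniv (algebraMap C S) ((Dual.inD C C)⟦(-rs.length : ℤ)⟧)
  haveI : (Dual.inD C C).IsGE 0 := inferInstance
  haveI hZ : Z.IsGE (rs.length : ℤ) := isGE_of_coUniv hε₂
    (DerivedCategory.TStructure.t.isGE_shift (Dual.inD C C) 0 (-rs.length : ℤ) rs.length (by omega))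
  obtain ⟨j⟩ := nonempty_iso_of_coUniv rfl (Iso.refl _) hδ
    (isCoUniv_comp (θ := φ) (Ideal.Quotient.lift_comp_mk _ _ _) hε₁ hε₂)
  exact DerivedCategory.TStructure.t.isGE_of_iso j.symm _

/-- The upper shriek of the base vanishes below minus the dimension of the fibre. -/
theorem subsingleton_localized_below (R A : Type u) [CommRing R] [CommRing A] [IsNoetherianRing R]
    [IsNoetherianRing A] [Algebra R A] (n : ℕ) (ψ : MvPolynomial (Fin n) R →ₐ[R] A) (hψ : Function.Surjective ψ)
    [DRing.HasLBaseChange (algebraMap R (MvPolynomial (Fin n) R))]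
    {Rψ : Dual.D (MvPolynomial (Fin n) R) ⥤ Dual.D A} (adj : DRing.restrictD ψ.toRingHom ⊣ Rψ)
    (q : PrimeSpectrum A) (d : ℕ)
    (hd : FlatMor.fibreDimAt (AlgebraicGeometry.Spec.map (CommRingCat.ofHom (algebraMap R A))) q = d)
    (i : ℤ) (hi : i < -(d : ℤ)) :
    Subsingleton (LocalizedModule q.asIdeal.primeCompl (Dual.HD A (Dual2.shriekVia n Rψ (Dual.inD R R)) i)) := by
  obtain ⟨xs, hxl, hxψ, hxreg⟩ := exists_regular_ker R A n ψ hψ q d hd
  let P := MvPolynomial (Fin n) R
  letI : Algebra P A := ψ.toRingHom.toAlgebra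
  haveI : Module.Finite P A := Module.Finite.of_surjective (Algebra.linearMap P A) hψ
  obtain ⟨η₁, hη₁⟩ := exists_univ_base (algebraMap R P) (Dual.inD R R)
  obtain ⟨eU⟩ := nonempty_univ_unit_iso hη₁
  obtain ⟨W, δ, hδ, eW⟩ : ∃ (W : Dual.D A) (δ : (DRing.restrictD ψ.toRingHom).obj W ⟶ unit P),
      IsCoUniv ψ.toRingHom δ ∧ Dual2.shriekVia n Rψ (Dual.inD R R) = W⟦(n : ℤ)⟧ :=
    ⟨_, _, (isCoUniv_of_adjunction ψ.toRingHom adj _).postcomp _ eU, rfl⟩
  let Qp := q.asIdeal.comap ψ.toRingHom
  let B := Localization.AtPrime Qp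
  let S := Localization.AtPrime q.asIdeal
  letI : Algebra B S := (Localization.localRingHom Qp q.asIdeal ψ.toRingHom rfl).toAlgebra
  haveI : IsScalarTower P B S := IsScalarTower.of_algebraMap_eq fun x =>
    ((IsScalarTower.algebraMap_apply P A S x).trans
      (Localization.localRingHom_to_map Qp q.asIdeal ψ.toRingHom rfl x).symm)
  have hM : Algebra.algebraMapSubmonoid A Qp.primeCompl = q.asIdeal.primeCompl := by
    ext a
    constructor
    · rintro ⟨x, hx, rfl⟩; exact hx
    · intro ha
      obtain ⟨x, rfl⟩ := hψ a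
      exact ⟨x, ha, rfl⟩
  haveI : IsLocalization (Algebra.algebraMapSubmonoid A Qp.primeCompl) S := by
    rw [hM]; infer_instance
  haveI hpo : Algebra.IsPushout P B A S := (Algebra.isPushout_of_isLocalization Qp.primeCompl B A S).symm
  obtain ⟨K', ηK, hηK⟩ := exists_univ_any (algebraMap P B) (unit P)
  obtain ⟨eK⟩ := nonempty_univ_unit_iso (hηK.comp_iso (inDUnit P) (Iso.refl _))
  obtain ⟨Y, ηY, huY, hlY⟩ := DualBCLib.exists_loc_any (L := S) q.asIdeal.primeCompl W
  haveI hge : (Dual.inD P P).IsGE 0 := inferInstance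
  haveI hge' : (unit P).IsGE 0 := DerivedCategory.TStructure.t.isGE_of_iso (inDUnit P) 0
  obtain ⟨ε', hε'⟩ := exists_coUniv_bc_flat P B A S 0 hge' hδ hηK huY
  have hB := hε'.postcomp _ eK
  let rs := xs.map (algebraMap P B)
  haveI : Y.IsGE (rs.length : ℤ) := isGE_of_regular_ker (algebraMap B S) rs hxreg (fun b hb => by
    obtain ⟨x, hx', rfl⟩ := List.mem_map.1 hb
    rw [← IsScalarTower.algebraMap_apply P B S, IsScalarTower.algebraMap_apply P A S,
      show algebraMap P A x = 0 from hxψ x hx', map_zero]) hB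
  have hlen : rs.length = n - d := (List.length_map _).trans hxl
  haveI : Subsingleton (Dual.HD S Y ((n : ℤ) + i)) :=
    ModuleCat.subsingleton_of_isZero (DerivedCategory.isZero_of_isGE Y (rs.length : ℤ) _ (by omega))
  have hW : q ∉ Module.support A (Dual.HD A W ((n : ℤ) + i)) := by
    rw [Module.notMem_support_iff]
    exact (nonempty_HD_loc q hlY _).some.toEquiv.subsingleton
  rw [← Module.notMem_support_iff, eW]
  rwa [LinearEquiv.support_eq (hHShift W (n : ℤ) i ((n : ℤ) + i) rfl).toLinearEquiv]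

end ShriekRingLib
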