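import Groth.Agent.ShriekRingLib.SelfProps
import Groth.Agent.DRingLib.PCohMore

/-!
# The upper shriek of the base is a relative dualizing complex
-/

set_option autoImplicit false
set_option linter.all false
set_option maxHeartbeats 1000000

universe u

open CategoryTheory CategoryTheory.Limits
open Groth.Agent DTen
open scoped TensorProduct
open DTenLib.Point (hH sg)

attribute [local instance] HasDerivedCategory.standard

noncomputable section

namespace ShriekRingLib

open FinDualLib Groth.Agent.DualCxLib TorIndBCLib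

/-- The identity functor is couniversal along the identity. -/
theorem isCoUniv_id {B : Type u} [CommRing B] (L : Dual.D B) : IsCoUniv (RingHom.id B) (resDId.hom.app L) :=
  fun W => by
    let e : (W ⟶ L) ≃ ((DRing.restrictD (RingHom.id B)).obj W ⟶ L) :=
      (resDId.app W).symm.homCongr (Iso.refl L)
    convert e.bijective using 1
    funext f
    show _ = (resDId.app W).hom ≫ f ≫ 𝟙 L
    rw [Category.comp_id]
    exact resDId.hom.naturality f

/-- A presentation of the identity has the trivial upper shriek. -/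
theorem nonempty_iso_inD_of_section {B : Type u} [CommRing B] (n : ℕ) (σ : MvPolynomial (Fin n) B →+* B)
    (hσ : σ.comp (algebraMap B (MvPolynomial (Fin n) B)) = RingHom.id B)
    {Z : Dual.D B} {ε : (DRing.restrictD σ).obj Z ⟶ (unit (MvPolynomial (Fin n) B))⟦(n : ℤ)⟧}
    (hε : IsCoUniv σ ε) : Nonempty (Z ≅ Dual.inD B B) := by
  obtain ⟨E, η, hη⟩ := exists_univ_any (algebraMap B (MvPolynomial (Fin n) B)) (Dual.inD B B)
  obtain ⟨eE⟩ := nonempty_univ_unit_iso hη
  have key : ∀ θ : B →+* B, θ = RingHom.id B → σ.comp (algebraMap B (MvPolynomial (Fin n) B)) = θ →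
      ∀ {e₀ : (DRing.restrictD θ).obj (Dual.inD B B) ⟶ Dual.inD B B}, IsCoUniv θ e₀ →
      ∃ ε' : (DRing.restrictD σ).obj (Dual.inD B B) ⟶ E⟦(n : ℤ)⟧, IsCoUniv σ ε' := by
    rintro θ hθ rfl e₀ he₀
    exact exists_poly n σ (fun i => by rw [hθ]; exact Algebra.IsIntegral.isIntegral (R := B) (σ (MvPolynomial.X i))) hη he₀
  obtain ⟨ε', hε'⟩ := key _ rfl hσ (isCoUniv_id (Dual.inD B B))
  exact nonempty_iso_of_coUniv rfl ((shiftFunctor _ (n : ℤ)).mapIso eE.symm) hε hε'

section Fibre

attribute [local instance] MvPolynomial.algebraMvPolynomial Algebra.TensorProduct.rightAlgebra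

/-- Base change of the upper shriek of the base is couniversal over the unit. -/
theorem exists_coUniv_leftBaseChange (R A R' : Type u) [CommRing R] [CommRing A] [CommRing R'] [IsNoetherianRing R]
    [Algebra R A] [Algebra R R'] [Module.Flat R A] (n : ℕ) (ψ : MvPolynomial (Fin n) R →ₐ[R] A)
    (hψ : Function.Surjective ψ) [DRing.HasLBaseChange (algebraMap R (MvPolynomial (Fin n) R))]
    {Rψ : Dual.D (MvPolynomial (Fin n) R) ⥤ Dual.D A} (adj : DRing.restrictD ψ.toRingHom ⊣ Rψ)
    [DRing.HasLBaseChange (Algebra.TensorProduct.includeLeftRingHom : A →+* A ⊗[R] R')] :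
    ∃ (τ : MvPolynomial (Fin n) R' →+* A ⊗[R] R') (ε : (DRing.restrictD τ).obj
        ((DRing.LBaseChange (Algebra.TensorProduct.includeLeftRingHom : A →+* A ⊗[R] R')).obj
          (Dual2.shriekVia n Rψ (Dual.inD R R))) ⟶ (unit (MvPolynomial (Fin n) R'))⟦(n : ℤ)⟧),
      IsCoUniv τ ε ∧ ∀ r : R', τ (MvPolynomial.C r) = 1 ⊗ₜ r := by
  let P := MvPolynomial (Fin n) R
  let P' := MvPolynomial (Fin n) R'
  let A' := A ⊗[R] R'
  haveI : DRing.HasLBaseChange (algebraMap A A') :=
    ‹DRing.HasLBaseChange (Algebra.TensorProduct.includeLeftRingHom : A →+* A ⊗[R] R')›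
  letI : Algebra P A := ψ.toRingHom.toAlgebra
  haveI : Module.Finite P A := Module.Finite.of_surjective (Algebra.linearMap P A) hψ
  haveI : IsScalarTower R P A := IsScalarTower.of_algebraMap_eq fun r => (ψ.commutes r).symm
  let τ : P' →+* A' := (MvPolynomial.aeval fun i => algebraMap A A' (ψ (MvPolynomial.X i))).toRingHom
  letI : Algebra P' A' := τ.toAlgebra
  have hPA : ∀ r, algebraMap P A (MvPolynomial.C r) = algebraMap R A r := ψ.commutes
  haveI : IsScalarTower P P' A' := IsScalarTower.of_algebraMap_eq' (by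
    refine MvPolynomial.ringHom_ext (fun r => ?_) fun i => ?_
    · show algebraMap P A' (MvPolynomial.C r) = τ (MvPolynomial.map (algebraMap R R') (MvPolynomial.C r))
      rw [IsScalarTower.algebraMap_apply P A A', hPA, MvPolynomial.map_C, ← IsScalarTower.algebraMap_apply R A A',
        IsScalarTower.algebraMap_apply R R' A']
      exact (MvPolynomial.aeval_C (R := R') (fun i => algebraMap A A' (ψ (MvPolynomial.X i))) _).symm
    · show algebraMap A A' (ψ (MvPolynomial.X i)) = τ (MvPolynomial.map (algebraMap R R') (MvPolynomial.X i))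
      rw [MvPolynomial.map_X]
      exact (MvPolynomial.aeval_X (R := R') (fun i => algebraMap A A' (ψ (MvPolynomial.X i))) i).symm)
  haveI : IsScalarTower R P P' := IsScalarTower.of_algebraMap_eq (R := R) (S := P) (A := P') fun r =>
    (MvPolynomial.map_C (algebraMap R R') r).symm
  haveI : IsScalarTower R' P' A' := IsScalarTower.of_algebraMap_eq fun r => (MvPolynomial.aeval_C _ r).symm
  haveI : IsScalarTower R P' A' := IsScalarTower.of_algebraMap_eq fun r => by
    rw [IsScalarTower.algebraMap_apply R R' P', ← IsScalarTower.algebraMap_apply R' P' A',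
      ← IsScalarTower.algebraMap_apply R R' A']
  have hbig : Algebra.IsPushout R A R' A' := inferInstance
  haveI hpo : Algebra.IsPushout P A P' A' :=
    (Algebra.IsPushout.comp_iff (T := A) (T' := A') R P R' P').1 hbig
  haveI : Algebra.IsPushout P P' A A' := hpo.symm
  haveI : Algebra.IsPushout R P R' P' := inferInstance
  have hti : TorInd P P' A := torInd_cancel R R' A P P' (torInd_of_flat R R' A) (torInd_of_flat R R' P)
  have hperf : DRing.IsPerfectModule P A := isPerfectModule_of_flat R n A
  obtain ⟨η₀, hη₀⟩ := exists_univ_base (algebraMap A A') (Dual2.shriekVia n Rψ (Dual.inD R R))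
  obtain ⟨η, hη⟩ := exists_univ_base (algebraMap R P) (Dual.inD R R)
  obtain ⟨e⟩ := nonempty_univ_unit_iso hη
  obtain ⟨ε, hε⟩ := exists_coUniv_shriekVia n ψ adj (Dual.inD R R)
  obtain ⟨K', ηK, hηK⟩ := exists_univ_any (algebraMap P P') (unit P)
  obtain ⟨eK⟩ := nonempty_univ_unit_iso (hηK.comp_iso (inDUnit P) (Iso.refl _))
  obtain ⟨ε', hε'⟩ := exists_coUniv_bc P P' A A' hti hperf
    (hε.postcomp _ ((shiftFunctor _ (n : ℤ)).mapIso e)) (isUniv_shift hηK (n : ℤ)) hη₀
  exact ⟨τ, _, hε'.postcomp _ ((shiftFunctor _ (n : ℤ)).mapIso eK), fun r => MvPolynomial.aeval_C _ r⟩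

end Fibre

/-- The upper shriek of the base is relatively dualizing. -/
theorem relDual_iso (R A : Type u) [CommRing R] [CommRing A] [IsNoetherianRing R]
    [Algebra R A] [Module.Flat R A] (n : ℕ) (ψ : MvPolynomial (Fin n) R →ₐ[R] A) (hψ : Function.Surjective ψ)
    [DRing.HasLBaseChange (algebraMap R (MvPolynomial (Fin n) R))]
    {Rψ : Dual.D (MvPolynomial (Fin n) R) ⥤ Dual.D A} (adj : DRing.restrictD ψ.toRingHom ⊣ Rψ)
    [DRing.HasLBaseChange (Algebra.TensorProduct.includeLeftRingHom : A →+* TensorProduct R A A)]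
    {Rμ : Dual.D (TensorProduct R A A) ⥤ Dual.D A}
    (adjμ : DRing.restrictD (Algebra.TensorProduct.lmul' R (S := A)).toRingHom ⊣ Rμ) :
    Nonempty (Rμ.obj ((DRing.LBaseChange
      (Algebra.TensorProduct.includeLeftRingHom : A →+* TensorProduct R A A)).obj
        (Dual2.shriekVia n Rψ (Dual.inD R R))) ≅ Dual.inD A A) := by
  obtain ⟨τ, ε, hε, hτ⟩ := exists_coUniv_leftBaseChange R A A n ψ hψ adj
  have h₂ := isCoUniv_of_adjunction (Algebra.TensorProduct.lmul' R (S := A)).toRingHom adjμ
    ((DRing.LBaseChange (Algebra.TensorProduct.includeLeftRingHom : A →+* TensorProduct R A A)).obj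
      (Dual2.shriekVia n Rψ (Dual.inD R R)))
  refine nonempty_iso_inD_of_section n ((Algebra.TensorProduct.lmul' R (S := A)).toRingHom.comp τ)
    (RingHom.ext fun a => ?_) (isCoUniv_comp rfl hε h₂)
  show Algebra.TensorProduct.lmul' R (τ (MvPolynomial.C a)) = a
  rw [hτ, Algebra.TensorProduct.lmul'_apply_tmul, one_mul]

end ShriekRingLib
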