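import Groth.Agent.ShriekRingLib.RegularQuot
import Groth.Agent.ShriekRingLib.Invertible
import Groth.Agent.PerfModLib.Koszul
import Groth.Agent.S9269

/-!
# The upper shriek of the base of a local complete intersection is invertible
-/

set_option autoImplicit false
set_option linter.all false
set_option maxHeartbeats 1000000

universe u

open CategoryTheory CategoryTheory.Limits
open Groth.Agent DTen
open DTenLib.Point (hH sg)
open scoped TensorProduct

attribute [local instance] HasDerivedCategory.standard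

noncomputable section

namespace ShriekRingLib

open FinDualLib Groth.Agent.DualCxLib TorIndBCLib

/-- Invertibility of the upper shriek of the base of a local complete intersection. -/
theorem invertible_of_isLCI (R A : Type u) [CommRing R] [CommRing A] [IsNoetherianRing R] [IsNoetherianRing A]
    [Algebra R A] (hl : LCI.IsLCI R A) (n : ℕ) (ψ : MvPolynomial (Fin n) R →ₐ[R] A) (hψ : Function.Surjective ψ)
    [DRing.HasLBaseChange (algebraMap R (MvPolynomial (Fin n) R))]
    {Rψ : Dual.D (MvPolynomial (Fin n) R) ⥤ Dual.D A} (adj : DRing.restrictD ψ.toRingHom ⊣ Rψ)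
    [hL : ∀ f : A, DRing.HasLBaseChange (algebraMap A (Localization.Away f))] (q : PrimeSpectrum A) :
    ∃ (f : A) (_ : f ∉ q.asIdeal) (m : ℤ),
      Nonempty ((DRing.LBaseChange (algebraMap A (Localization.Away f))).obj (Dual2.shriekVia n Rψ (Dual.inD R R)) ≅
        (Dual.inD (Localization.Away f) (Localization.Away f))⟦m⟧) := by
  obtain ⟨-, n', f', hf', hker'⟩ := hl
  have hker := S9269.result R A n' n f' hf' ψ hψ hker'
  let P := MvPolynomial (Fin n) R
  letI : Algebra P A := ψ.toRingHom.toAlgebra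
  haveI : Module.Finite P A := Module.Finite.of_surjective (Algebra.linearMap P A) hψ
  have hperf : DRing.IsPerfectModule P A := by
    refine PerfModLib.perfect_of_equiv
      ((Submodule.quotEquivOfEq _ _ ?_).trans (LinearMap.quotKerEquivOfSurjective (Algebra.linearMap P A) hψ))
      (PerfModLib.perfect_quotient_of_locKR _ ((KRLib.locKR_iff _).2 hker))
    ext x
    simp [RingHom.mem_ker]
    rfl
  haveI := Groth.Agent.DualCxLib.hasLTen P
  haveI := Groth.Agent.DualCxLib.hasRHom P
  obtain ⟨η₁, hη₁⟩ := exists_univ_base (algebraMap R P) (Dual.inD R R)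
  obtain ⟨eU⟩ := nonempty_univ_unit_iso hη₁
  obtain ⟨W, δ, hδ, eW⟩ : ∃ (W : Dual.D A) (δ : (DRing.restrictD ψ.toRingHom).obj W ⟶ unit P),
      IsCoUniv ψ.toRingHom δ ∧ Dual2.shriekVia n Rψ (Dual.inD R R) = W⟦(n : ℤ)⟧ :=
    ⟨_, _, (isCoUniv_of_adjunction ψ.toRingHom adj _).postcomp _ eU, rfl⟩
  obtain ⟨a, b, hab⟩ := bounded_of_perfect (exists_dual hperf hδ).1
  have hge : (Dual.inD R R).IsGE 0 := inferInstance
  have hfin := (bounded_and_finite n ψ hψ adj hge).2 (finite_HD_inD R)
  have hbd := bounded_shift (n : ℤ) (eqToIso eW) hab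
  let Qp := q.asIdeal.comap ψ.toRingHom
  let B := Localization.AtPrime Qp
  let S := Localization.AtPrime q.asIdeal
  letI : Algebra B S := (Localization.localRingHom Qp q.asIdeal ψ.toRingHom rfl).toAlgebra
  haveI : IsScalarTower P B S := IsScalarTower.of_algebraMap_eq fun x =>
    ((IsScalarTower.algebraMap_apply P A S x).trans
      (Localization.localRingHom_to_map Qp q.asIdeal ψ.toRingHom rfl x).symm)
  have hM : Algebra.algebraMapSubmonoid A Qp.primeCompl = q.asIdeal.primeCompl := by
    ext a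
    constructor
    · rintro ⟨x, hx, rfl⟩; exact hx
    · intro ha
      obtain ⟨x, rfl⟩ := hψ a
      exact ⟨x, ha, rfl⟩
  haveI : IsLocalization (Algebra.algebraMapSubmonoid A Qp.primeCompl) S := by
    rw [hM]; infer_instance
  haveI hpo : Algebra.IsPushout P B A S := (Algebra.isPushout_of_isLocalization Qp.primeCompl B A S).symm
  obtain ⟨K', ηK, hηK⟩ := exists_univ_any (algebraMap P B) (unit P)
  obtain ⟨eK⟩ := nonempty_univ_unit_iso (hηK.comp_iso (inDUnit P) (Iso.refl _))
  obtain ⟨Y, ηY, huY, hlY⟩ := DualBCLib.exists_loc_any (L := S) q.asIdeal.primeCompl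
    (Dual2.shriekVia n Rψ (Dual.inD R R))
  obtain ⟨Z', ηZ, hηZ⟩ := exists_univ_any (algebraMap A S) W
  obtain ⟨ε', hε'⟩ := exists_coUniv_bc P B A S
    (fun Z _ => FlatExtLib.isUniv_γ_flat _) hperf hδ hηK hηZ
  have hB := hε'.postcomp _ eK
  obtain ⟨g, hg, hgI⟩ := (KRLib.locKR_iff _).2 hker Qp inferInstance (fun x hx => by
    show ψ x ∈ q.asIdeal
    rw [show ψ x = 0 from hx]
    exact Ideal.zero_mem _)
  obtain ⟨r, v, hv, hvI⟩ := hgI.map_of_isUnit (R := B) (IsLocalization.map_units B (⟨g, hg⟩ : Qp.primeCompl))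
  have hk : RingHom.ker (algebraMap B S) = Ideal.ofList (List.ofFn v).reverse := by
    have h1 : Ideal.ofList (List.ofFn v).reverse = Ideal.span (Set.range v) := by
      unfold Ideal.ofList
      congr 1
      ext x
      simp [List.mem_ofFn]
    rw [h1, hvI]
    exact IsLocalization.ker_map S (g := ψ.toRingHom) hM
  have hsurj : Function.Surjective (algebraMap B S) :=
    haveI : IsLocalization (Qp.primeCompl.map ψ.toRingHom) S := by
      rw [show Qp.primeCompl.map ψ.toRingHom = q.asIdeal.primeCompl from hM]; infer_instance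
    IsLocalization.map_surjective_of_surjective Qp.primeCompl B S hψ
  have hm : ∀ i, v i ∈ IsLocalRing.maximalIdeal B := fun i => by
    refine IsLocalRing.le_maximalIdeal (RingHom.ker_ne_top (algebraMap B S)) ?_
    rw [hk]
    exact Ideal.subset_span (by simp [List.mem_ofFn])
  haveI : IsNoetherianRing B := IsLocalization.isNoetherianRing Qp.primeCompl _ inferInstance
  haveI : IsNoetherianRing S := IsLocalization.isNoetherianRing q.asIdeal.primeCompl _ inferInstance
  obtain ⟨εr, hεr⟩ := exists_coUniv_regular _ B S (algebraMap B S) _ rfl hsurj hk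
    (GorLib.isWeaklyRegular_reverse_of_isExactK v hv hm)
  obtain ⟨j⟩ := nonempty_iso_of_coUniv rfl (Iso.refl _) hB hεr
  obtain ⟨c, -⟩ := exists_iso_univ huY ((isUniv_shift hηZ (n : ℤ)).comp_iso (eqToIso eW) (Iso.refl _))
  let eY : Y ≅ (Dual.inD S S)⟦(-(List.ofFn v).reverse.length : ℤ) + n⟧ :=
    c ≪≫ (shiftFunctor _ (n : ℤ)).mapIso j ≪≫ ((shiftFunctorAdd' (Dual.D S) _ (n : ℤ) _ rfl).app _).symm
  obtain ⟨t, ht, H⟩ := exists_shift_nhd hfin hbd q hlY eY
  haveI := hL t
  obtain ⟨η, -, hl'⟩ := exists_loc_base (S := Localization.Away t) (Submonoid.powers t)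
    (Dual2.shriekVia n Rψ (Dual.inD R R))
  exact ⟨t, ht, _, H _ η hl'⟩

end ShriekRingLib
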