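import Groth.Agent.CommAlgDim.Depth
import Groth.Agent.LocSuppLib.DepthStalk
import Mathlib.RingTheory.Localization.BaseChange

/-!
# Depth of duals
-/

set_option autoImplicit false
set_option linter.all false
set_option maxHeartbeats 1000000

universe u

open RingTheory.Sequence IsLocalRing CommAlgDim Pointwise

noncomputable section

namespace ShriekRingLib

/-- The dual inherits regular sequences up to length two. -/
theorem hasSeqIn_hom {C : Type u} [CommRing C] (S : Type u) [AddCommGroup S] [Module C S] (I : Ideal C) {k : ℕ}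
    (hk : k ≤ 2) (h : HasSeqIn I C k) : HasSeqIn I (S →ₗ[C] C) k := by
  obtain ⟨rs, hl, hm, hr⟩ := h
  have hx : ∀ x : C, IsSMulRegular C x → IsSMulRegular (S →ₗ[C] C) x := fun x hx f g hfg =>
    LinearMap.ext fun s => hx (LinearMap.congr_fun hfg s)
  match k, hk with
  | 0, _ => exact hasSeqIn_zero _
  | 1, _ =>
    obtain ⟨x, rfl⟩ := List.length_eq_one_iff.1 hl
    exact ⟨[x], rfl, hm, (isWeaklyRegular_singleton_iff _ _).2 (hx x ((isWeaklyRegular_singleton_iff _ _).1 hr))⟩
  | 2, _ =>
    obtain ⟨x, y, rfl⟩ := List.length_eq_two.1 hl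
    rw [isWeaklyRegular_cons_iff, isWeaklyRegular_singleton_iff] at hr
    refine ⟨[x, y], rfl, hm, ?_⟩
    rw [isWeaklyRegular_cons_iff, isWeaklyRegular_singleton_iff]
    refine ⟨hx x hr.1, fun a b hab => ?_⟩
    obtain ⟨f, rfl⟩ := Submodule.Quotient.mk_surjective _ a
    obtain ⟨g, rfl⟩ := Submodule.Quotient.mk_surjective _ b
    change y • Submodule.Quotient.mk f = y • Submodule.Quotient.mk g at hab
    rw [← Submodule.Quotient.mk_smul, ← Submodule.Quotient.mk_smul, Submodule.Quotient.eq,
      Submodule.mem_smul_pointwise_iff_exists] at hab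
    obtain ⟨d, -, hd⟩ := hab
    have hmem : ∀ s, ∃ c : C, x • c = f s - g s := fun s => by
      have h1 : (Submodule.Quotient.mk (f s - g s) : QuotSMulTop x C) = 0 := hr.2 (show
        y • (Submodule.Quotient.mk (f s - g s) : QuotSMulTop x C) = y • (0 : QuotSMulTop x C) by
          rw [smul_zero, ← Submodule.Quotient.mk_smul, Submodule.Quotient.mk_eq_zero,
            Submodule.mem_smul_pointwise_iff_exists]
          exact ⟨d s, trivial, (LinearMap.congr_fun hd s).trans (by simp [smul_sub, mul_sub])⟩)
      rw [Submodule.Quotient.mk_eq_zero, Submodule.mem_smul_pointwise_iff_exists] at h1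
      obtain ⟨c, -, hc⟩ := h1
      exact ⟨c, hc⟩
    choose e he using hmem
    let E : S →ₗ[C] C :=
      { toFun := e
        map_add' := fun s t => hr.1 (by
          show x • e (s + t) = x • (e s + e t)
          rw [smul_add, he, he, he, map_add, map_add]; abel)
        map_smul' := fun c s => hr.1 (by
          show x • e (c • s) = x • (c • e s)
          rw [smul_comm x c, he, he, map_smul, map_smul, smul_sub]) }
    rw [Submodule.Quotient.eq, Submodule.mem_smul_pointwise_iff_exists]
    exact ⟨E, trivial, LinearMap.ext he⟩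

/-- Regular sequences along a local map. -/
theorem hasSeqIn_of_local {C S : Type u} [CommRing C] [CommRing S] [IsLocalRing C] [IsLocalRing S] [Algebra C S]
    [IsLocalHom (algebraMap C S)] (N : Type u) [AddCommGroup N] [Module C N] [Module S N] [IsScalarTower C S N] {k : ℕ}
    (h : HasSeqIn (maximalIdeal C) N k) : HasSeqIn (maximalIdeal S) N k := by
  obtain ⟨rs, hl, hm, hr⟩ := h
  refine ⟨rs.map (algebraMap C S), by simpa using hl, fun a ha => ?_, (isWeaklyRegular_map_algebraMap_iff S _ rs).2 hr⟩
  obtain ⟨b, hb, rfl⟩ := List.mem_map.1 ha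
  exact map_nonunit (algebraMap C S) b (hm b hb)

/-- Serre's condition for a localized module from the local statements. -/
theorem hasSk_localized {A : Type u} [CommRing A] [IsNoetherianRing A] (U : Submonoid A) (M : Type u)
    [AddCommGroup M] [Module A M] [Module.Finite A M] (k : ℕ)
    (h : ∀ q : PrimeSpectrum A, Disjoint (U : Set A) (q.asIdeal : Set A) →
      min (k : WithBot ℕ∞) (ringKrullDim (Localization.AtPrime q.asIdeal)) ≤
        ((LocCoh.depth (Localization.AtPrime q.asIdeal) (LocalizedModule q.asIdeal.primeCompl M) : ℕ∞) : WithBot ℕ∞)) :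
    LocCoh.HasSk k (Localization U) (LocalizedModule U M) := by
  intro P _
  let T := Localization.AtPrime P
  let N := LocalizedModule P.primeCompl (LocalizedModule U M)
  haveI : IsLocalization.AtPrime T (P.comap (algebraMap A (Localization U))) :=
    IsLocalization.isLocalization_atPrime_localization_atPrime U P
  obtain ⟨hP, hdis⟩ := (IsLocalization.isPrime_iff_isPrime_disjoint U (Localization U) P).1 inferInstance
  let q : PrimeSpectrum A := ⟨P.comap (algebraMap A (Localization U)), hP⟩
  haveI : IsLocalization.AtPrime T q.asIdeal := ‹IsLocalization.AtPrime T (P.comap (algebraMap A (Localization U)))›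
  let g : M →ₗ[A] N :=
    ((LocalizedModule.mkLinearMap P.primeCompl (LocalizedModule U M)).restrictScalars A).comp
      (LocalizedModule.mkLinearMap U M)
  haveI : IsLocalizedModule q.asIdeal.primeCompl g := by
    rw [isLocalizedModule_iff_isBaseChange q.asIdeal.primeCompl T g]
    exact ((isLocalizedModule_iff_isBaseChange U (Localization U) _).1 inferInstance).comp
      ((isLocalizedModule_iff_isBaseChange P.primeCompl T _).1 inferInstance)
  refine le_trans (min_le_min le_rfl ((Module.supportDim_le_ringKrullDim T N).trans (le_of_eq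
    (ringKrullDim_eq_of_ringEquiv
      (IsLocalization.algEquiv q.asIdeal.primeCompl T (Localization.AtPrime q.asIdeal)).toRingEquiv))))
    ((h q hdis).trans (le_of_eq ?_))
  congr 1
  refine ENat.eq_of_forall_natCast_le_iff fun n => ?_
  exact (LocSuppLib.le_depth_iff_localization q.asIdeal g n).symm

end ShriekRingLib

end
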