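import Groth.Agent.ShriekRingLib.FibreGrade
import Groth.Agent.CatLib.Univ
import Groth.Agent.AlgSpLib.RelDim2
import Groth.Agent.AlgSpLib.HasAtMore
import Groth.Agent.CommAlgDim.Depth
import Mathlib.RingTheory.KrullDimension.Regular
import Mathlib.RingTheory.MvPolynomial.Localization
import Groth.Prelude.Def_Dual3

/-!
# The grade of a presentation over a Cohen-Macaulay local base
-/

set_option autoImplicit false
set_option linter.all false
set_option maxHeartbeats 1000000

universe u

open CategoryTheory AlgebraicGeometry IsLocalRing RingTheory.Sequence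
open CommAlgDim

noncomputable section

namespace ShriekRingLib

/-- A minimal prime has the dimension of the fibre equal to the transcendence degree. -/
theorem exists_fibreDimAt_minimal (R A : Type u) [CommRing R] [CommRing A] [Algebra R A] [Algebra.FiniteType R A]
    (q : PrimeSpectrum A) (hq : q.asIdeal ∈ minimalPrimes A) (r : ℕ)
    (hr : Dual3.resTrdeg (Spec.map (CommRingCat.ofHom (algebraMap R A))) q ≤ (r : Cardinal.{u})) :
    ∃ d : ℕ, d ≤ r ∧ FlatMor.fibreDimAt (Spec.map (CommRingCat.ofHom (algebraMap R A))) q = d := by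
  let f := Spec.map (CommRingCat.ofHom (algebraMap R A))
  haveI : LocallyOfFiniteType f :=
    (HasRingHomProperty.Spec_iff (P := @LocallyOfFiniteType)).2 (RingHom.finiteType_algebraMap.2 inferInstance)
  have h := AlgSpLib.fibreDimAt_eq_stalk_add_resTrdeg f q
  rw [AlgSpLib.stalkDim_eq_zero_of_maximal (f.asFiber q) (fun w hw => by
    refine (f.fiberι _).isEmbedding.injective (Eq.trans ?_ (f.fiberι_asFiber q).symm)
    have h2 : (f.fiberι (f.base q)).base w ⤳ (q : Spec (CommRingCat.of A)) :=
      (hw.map (f.fiberι _).continuous).trans (specializes_of_eq (f.fiberι_asFiber q))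
    have h3 : ((f.fiberι (f.base q)).base w : PrimeSpectrum A).asIdeal ≤ q.asIdeal :=
      (PrimeSpectrum.le_iff_specializes _ _).2 h2
    exact PrimeSpectrum.ext (le_antisymm h3 (hq.2 ⟨inferInstance, bot_le⟩ h3))), zero_add] at h
  obtain ⟨d, hd, hdr⟩ : ∃ d : ℕ, Cardinal.toENat (Dual3.resTrdeg f q) = d ∧ d ≤ r := by
    have h' : Cardinal.toENat (Dual3.resTrdeg f q) ≤ (r : ℕ∞) :=
      Cardinal.toENat_le_natCast.2 hr
    obtain ⟨d, hd⟩ := ENat.ne_top_iff_exists.1 (ne_top_of_le_ne_top (ENat.natCast_ne_top r) h')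
    exact ⟨d, hd.symm, by rw [← hd] at h'; exact_mod_cast h'⟩
  exact ⟨d, hdr, h.trans (by rw [hd]; rfl)⟩

theorem natCast_le_ringKrullDim_of_weaklyRegular {T : Type u} [CommRing T] [IsLocalRing T] [IsNoetherianRing T]
    {rs : List T} (hr : IsWeaklyRegular T rs) (hm : ∀ x ∈ rs, x ∈ maximalIdeal T) :
    (rs.length : WithBot ℕ∞) ≤ ringKrullDim T := by
  have hle : Ideal.ofList rs ≤ maximalIdeal T := Ideal.span_le.2 hm
  have hne : Ideal.ofList rs ≠ ⊤ := ne_top_of_le_ne_top (maximalIdeal.isMaximal T).ne_top hle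
  have hreg : IsRegular T rs := ⟨hr, by rw [smul_eq_mul, Ideal.mul_top]; exact hne.symm⟩
  haveI : Nontrivial (T ⧸ Ideal.ofList rs) := Ideal.Quotient.nontrivial_iff.2 hne
  rw [← ringKrullDim_add_length_eq_ringKrullDim_of_isRegular rs hreg]
  exact le_add_of_nonneg_left ringKrullDim_nonneg_of_nontrivial

/-- Primes over the kernel of a presentation have large height. -/
theorem sub_le_height (R A : Type u) [CommRing R] [CommRing A] [IsNoetherianRing R] [IsNoetherianRing A]
    [Algebra R A] (n : ℕ) (ψ : MvPolynomial (Fin n) R →ₐ[R] A) (hψ : Function.Surjective ψ) (r : ℕ)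
    (hr : ∀ q : PrimeSpectrum A, q.asIdeal ∈ minimalPrimes A →
      Dual3.resTrdeg (Spec.map (CommRingCat.ofHom (algebraMap R A))) q ≤ (r : Cardinal.{u}))
    (Q : Ideal (MvPolynomial (Fin n) R)) [hQ : Q.IsPrime] (hker : RingHom.ker ψ.toRingHom ≤ Q) :
    ((n - r : ℕ) : ℕ∞) ≤ Q.height := by
  haveI : Algebra.FiniteType R A := Algebra.FiniteType.of_surjective ψ hψ
  have hker' : RingHom.ker ψ ≤ Q := hker
  haveI hq : (Q.map ψ).IsPrime := Ideal.map_isPrime_of_surjective hψ hker'
  obtain ⟨q₀, hq₀, hle⟩ := Ideal.exists_minimalPrimes_le (I := (⊥ : Ideal A)) (J := Q.map ψ) bot_le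
  haveI := hq₀.1.1
  obtain ⟨d, hdr, hd⟩ := exists_fibreDimAt_minimal R A ⟨q₀, inferInstance⟩ hq₀ r (hr _ hq₀)
  obtain ⟨xs, hxl, hxψ, hxreg⟩ := exists_regular_ker R A n ψ hψ ⟨q₀, inferInstance⟩ d hd
  let Q₀ := q₀.comap ψ.toRingHom
  have h1 := natCast_le_ringKrullDim_of_weaklyRegular hxreg (fun y hy => by
    obtain ⟨x, hx, rfl⟩ := List.mem_map.1 hy
    refine (IsLocalization.AtPrime.to_map_mem_maximal_iff (Localization.AtPrime Q₀) Q₀ x).2 ?_
    show ψ x ∈ q₀
    rw [hxψ x hx]
    exact zero_mem _)
  rw [IsLocalization.AtPrime.ringKrullDim_eq_height Q₀ (Localization.AtPrime Q₀), List.length_map, hxl] at h1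
  have h2 : ((n - d : ℕ) : ℕ∞) ≤ Q₀.height := WithBot.coe_le_coe.1 h1
  have h3 : Q₀ ≤ Q := fun x hx => by
    have h4 : ψ x ∈ Q.map ψ := hle hx
    rw [← Ideal.mem_comap, Ideal.comap_map_of_surjective ψ hψ] at h4
    exact (sup_le le_rfl hker' : Q ⊔ _ ≤ Q) h4
  exact (le_trans (by exact_mod_cast (by omega : n - r ≤ n - d)) h2).trans (Ideal.height_mono h3)

attribute [local instance] MvPolynomial.algebraMvPolynomial in
/-- Localizations of polynomial rings over a Cohen-Macaulay localization. -/
theorem isCM_polynomial_localization (R : Type u) [CommRing R] [IsNoetherianRing R] (p : Ideal R) [p.IsPrime]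
    [LocCoh.IsCohenMacaulayLocalRing (Localization.AtPrime p)] (n : ℕ)
    (Q : Ideal (MvPolynomial (Fin n) R)) [Q.IsPrime] (hQ : Q.comap (algebraMap R (MvPolynomial (Fin n) R)) ≤ p) :
    IsCM (Localization.AtPrime Q) := by
  let S := MvPolynomial (Fin n) (Localization.AtPrime p)
  let M := p.primeCompl.map (MvPolynomial.C (σ := Fin n))
  haveI : IsLocalization M S := MvPolynomial.isLocalization p.primeCompl (Localization.AtPrime p)
  have hdisj : Disjoint (M : Set (MvPolynomial (Fin n) R)) (Q : Set (MvPolynomial (Fin n) R)) := by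
    rw [Set.disjoint_left]
    rintro _ ⟨s, hs, rfl⟩ hmem
    exact hs (hQ hmem)
  let Q' := Q.map (algebraMap (MvPolynomial (Fin n) R) S)
  haveI : Q'.IsPrime := IsLocalization.isPrime_of_isPrime_disjoint M S Q inferInstance hdisj
  have hc : Q'.comap (algebraMap (MvPolynomial (Fin n) R) S) = Q :=
    IsLocalization.comap_map_of_isPrime_disjoint M S inferInstance hdisj
  haveI h : IsLocalization.AtPrime (Localization.AtPrime Q') Q := by
    have := IsLocalization.isLocalization_isLocalization_atPrime_isLocalization (R := MvPolynomial (Fin n) R) M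
      (S := S) (Localization.AtPrime Q') Q'
    convert this using 1
    exact hc.symm
  exact CatLib.isCM_of_ringEquiv (IsLocalization.algEquiv Q.primeCompl (Localization.AtPrime Q') (Localization.AtPrime Q)).toRingEquiv
    (CatLib.isCMRing_mvPolynomial (CatLib.isCMRing_of_isCM (SMTLib.isCM_of_isCohenMacaulayLocalRing _)) n Q')

theorem natCast_le_height_maximal {T : Type u} [CommRing T] (P : Ideal T) [P.IsPrime] {c : ℕ}
    (h : (c : ℕ∞) ≤ P.height) : (c : ℕ∞) ≤ (maximalIdeal (Localization.AtPrime P)).height := by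
  have h2 : (P.height : WithBot ℕ∞) = ((maximalIdeal (Localization.AtPrime P)).height : WithBot ℕ∞) :=
    (IsLocalization.AtPrime.ringKrullDim_eq_height P (Localization.AtPrime P)).symm.trans
      IsLocalRing.maximalIdeal_height_eq_ringKrullDim.symm
  rw [← WithBot.coe_injective h2]
  exact h

theorem hasSeqIn_maximal_of_isCM {T : Type u} [CommRing T] [IsLocalRing T] [IsNoetherianRing T] (hT : IsCM T) {c : ℕ}
    (h : (c : ℕ∞) ≤ (maximalIdeal T).height) : HasSeqIn (maximalIdeal T) T c := by
  obtain ⟨m, hm⟩ := ENat.ne_top_iff_exists.1 (Ideal.height_ne_top (R := T) (maximalIdeal.isMaximal T).ne_top)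
  rw [← hm] at h
  exact (CatLib.hasSeqIn_prime hT _ hm.symm).mono (by exact_mod_cast h)

/-- In a Cohen-Macaulay local ring an ideal all of whose primes have height at least `c` contains a regular sequence of length `c`. -/
theorem hasSeqIn_of_le_height {T : Type u} [CommRing T] [IsLocalRing T] [IsNoetherianRing T] (hT : IsCM T)
    (J : Ideal T) (c : ℕ) (h : ∀ P : Ideal T, P.IsPrime → J ≤ P → (c : ℕ∞) ≤ P.height) : HasSeqIn J T c := by
  refine hasSeqIn_of_forall_localization _ _ fun P _ hP => ?_
  haveI : IsNoetherianRing (Localization.AtPrime P) := IsLocalization.isNoetherianRing P.primeCompl _ inferInstance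
  exact (hasSeqIn_maximal_of_isCM (CatLib.isCM_localization hT P)
    (natCast_le_height_maximal P (h P inferInstance hP))).congr
    ((LinearEquiv.extendScalarsOfIsLocalization P.primeCompl (Localization.AtPrime P)
      (IsLocalizedModule.linearEquiv P.primeCompl (LocalizedModule.mkLinearMap P.primeCompl T)
        (Algebra.linearMap T (Localization.AtPrime P))))).symm

/-- Regular sequences in the kernel of a presentation over a Cohen-Macaulay localization of the base. -/
theorem exists_regular_ker_CM (R A : Type u) [CommRing R] [CommRing A] [IsNoetherianRing R] [IsNoetherianRing A]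
    [Algebra R A] (n : ℕ) (ψ : MvPolynomial (Fin n) R →ₐ[R] A) (hψ : Function.Surjective ψ) (r : ℕ)
    (hr : ∀ q : PrimeSpectrum A, q.asIdeal ∈ minimalPrimes A →
      Dual3.resTrdeg (Spec.map (CommRingCat.ofHom (algebraMap R A))) q ≤ (r : Cardinal.{u}))
    (p : Ideal R) [p.IsPrime] [LocCoh.IsCohenMacaulayLocalRing (Localization.AtPrime p)]
    (Q : Ideal (MvPolynomial (Fin n) R)) [Q.IsPrime] (hQ : Q.comap (algebraMap R (MvPolynomial (Fin n) R)) ≤ p)
    (hker : RingHom.ker ψ.toRingHom ≤ Q) :
    HasSeqIn ((RingHom.ker ψ.toRingHom).map (algebraMap _ (Localization.AtPrime Q))) (Localization.AtPrime Q)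
      (n - r) := by
  haveI : IsNoetherianRing (Localization.AtPrime Q) := IsLocalization.isNoetherianRing Q.primeCompl _ inferInstance
  refine hasSeqIn_of_le_height (isCM_polynomial_localization R p n Q hQ) _ _ fun P hP hle => ?_
  have h1 := sub_le_height R A n ψ hψ r hr (P.comap (algebraMap _ (Localization.AtPrime Q)))
    (le_trans Ideal.le_comap_map (Ideal.comap_mono hle))
  rwa [IsLocalization.height_comap Q.primeCompl P] at h1

end ShriekRingLib

end
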