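import Groth.Agent.ShriekRingLib.VanishBelow
import Groth.Agent.ShriekRingLib.GradeCM
import Groth.Agent.ShriekRingLib.DepthHom
import Groth.Agent.RegImmKindLib.CM

/-!
# The lowest cohomology of the upper shriek over a Cohen-Macaulay localization of the base
-/

set_option autoImplicit false
set_option linter.all false
set_option maxHeartbeats 1000000

universe u

open CategoryTheory CategoryTheory.Limits
open Groth.Agent DTen
open DTenLib.Point (hH sg)
open scoped TensorProduct
open RingTheory.Sequence CommAlgDim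

attribute [local instance] HasDerivedCategory.standard

noncomputable section

namespace ShriekRingLib

open FinDualLib Groth.Agent.DualCxLib TorIndBCLib

/-- The local form of the upper shriek of the base at a prime. -/
theorem exists_local_dual (R A : Type u) [CommRing R] [CommRing A] [IsNoetherianRing R]
    [IsNoetherianRing A] [Algebra R A] (n : ℕ) (ψ : MvPolynomial (Fin n) R →ₐ[R] A) (hψ : Function.Surjective ψ)
    [DRing.HasLBaseChange (algebraMap R (MvPolynomial (Fin n) R))]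
    {Rψ : Dual.D (MvPolynomial (Fin n) R) ⥤ Dual.D A} (adj : DRing.restrictD ψ.toRingHom ⊣ Rψ)
    (q : PrimeSpectrum A) :
    ∃ (Y : Dual.D (Localization.AtPrime q.asIdeal))
      (δ : (DRing.restrictD (Localization.localRingHom (q.asIdeal.comap ψ.toRingHom) q.asIdeal ψ.toRingHom rfl)).obj Y ⟶
        unit (Localization.AtPrime (q.asIdeal.comap ψ.toRingHom))),
      IsCoUniv (Localization.localRingHom (q.asIdeal.comap ψ.toRingHom) q.asIdeal ψ.toRingHom rfl) δ ∧
        ∀ i : ℤ, Nonempty (LocalizedModule q.asIdeal.primeCompl (Dual.HD A (Dual2.shriekVia n Rψ (Dual.inD R R)) i)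
          ≃ₗ[Localization.AtPrime q.asIdeal] Dual.HD (Localization.AtPrime q.asIdeal) Y ((n : ℤ) + i)) := by
  let P := MvPolynomial (Fin n) R
  letI : Algebra P A := ψ.toRingHom.toAlgebra
  haveI : Module.Finite P A := Module.Finite.of_surjective (Algebra.linearMap P A) hψ
  obtain ⟨η₁, hη₁⟩ := exists_univ_base (algebraMap R P) (Dual.inD R R)
  obtain ⟨eU⟩ := nonempty_univ_unit_iso hη₁
  obtain ⟨W, δ, hδ, eW⟩ : ∃ (W : Dual.D A) (δ : (DRing.restrictD ψ.toRingHom).obj W ⟶ unit P),
      IsCoUniv ψ.toRingHom δ ∧ Dual2.shriekVia n Rψ (Dual.inD R R) = W⟦(n : ℤ)⟧ :=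
    ⟨_, _, (isCoUniv_of_adjunction ψ.toRingHom adj _).postcomp _ eU, rfl⟩
  let Qp := q.asIdeal.comap ψ.toRingHom
  let B := Localization.AtPrime Qp
  let S := Localization.AtPrime q.asIdeal
  letI : Algebra B S := (Localization.localRingHom Qp q.asIdeal ψ.toRingHom rfl).toAlgebra
  haveI : IsScalarTower P B S := IsScalarTower.of_algebraMap_eq fun x =>
    ((IsScalarTower.algebraMap_apply P A S x).trans
      (Localization.localRingHom_to_map Qp q.asIdeal ψ.toRingHom rfl x).symm)
  have hM : Algebra.algebraMapSubmonoid A Qp.primeCompl = q.asIdeal.primeCompl := by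
    ext a
    constructor
    · rintro ⟨x, hx, rfl⟩; exact hx
    · intro ha
      obtain ⟨x, rfl⟩ := hψ a
      exact ⟨x, ha, rfl⟩
  haveI : IsLocalization (Algebra.algebraMapSubmonoid A Qp.primeCompl) S := by
    rw [hM]; infer_instance
  haveI hpo : Algebra.IsPushout P B A S := (Algebra.isPushout_of_isLocalization Qp.primeCompl B A S).symm
  obtain ⟨K', ηK, hηK⟩ := exists_univ_any (algebraMap P B) (unit P)
  obtain ⟨eK⟩ := nonempty_univ_unit_iso (hηK.comp_iso (inDUnit P) (Iso.refl _))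
  obtain ⟨Y, ηY, huY, hlY⟩ := DualBCLib.exists_loc_any (L := S) q.asIdeal.primeCompl W
  haveI hge : (Dual.inD P P).IsGE 0 := inferInstance
  haveI hge' : (unit P).IsGE 0 := DerivedCategory.TStructure.t.isGE_of_iso (inDUnit P) 0
  obtain ⟨ε', hε'⟩ := exists_coUniv_bc_flat P B A S 0 hge' hδ hηK huY
  refine ⟨Y, _, hε'.postcomp _ eK, fun i => ?_⟩
  rw [eW]
  exact ⟨(IsLocalizedModule.mapEquiv q.asIdeal.primeCompl (LocalizedModule.mkLinearMap _ _)
    (LocalizedModule.mkLinearMap _ _) S (hHShift W (n : ℤ) i ((n : ℤ) + i) rfl).toLinearEquiv).trans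
      (nonempty_HD_loc q hlY _).some⟩

/-- The first possibly nonzero cohomology of a couniversal object of the unit is a dual. -/
theorem nonempty_HD_equiv_hom {B C S : Type u} [CommRing B] [CommRing C] [CommRing S] [Algebra C S]
    (φ : B →+* S) (π : B →+* C) (hπ : Function.Surjective π) (hφ : (algebraMap C S).comp π = φ)
    (rs : List B) (hker : RingHom.ker π = Ideal.ofList rs) (hreg : IsWeaklyRegular B rs)
    {Y : Dual.D S} {δ : (DRing.restrictD φ).obj Y ⟶ unit B} (hδ : IsCoUniv φ δ) (c : ℤ) (hc : c = rs.length) :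
    ∃ E : Dual.HD S Y c ≃+ (S →ₗ[C] C), ∀ (x : C) (v : Dual.HD S Y c), E (algebraMap C S x • v) = x • E v := by
  subst hc
  obtain ⟨ε₁, hε₁⟩ := exists_coUniv_regular _ B C π rs rfl hπ hker hreg
  obtain ⟨Z, ε₂, hε₂⟩ := FinDualLib.exists_coUniv (algebraMap C S) ((Dual.inD C C)⟦(-rs.length : ℤ)⟧)
  obtain ⟨j⟩ := nonempty_iso_of_coUniv rfl (Iso.refl _) hδ (isCoUniv_comp (θ := φ) hφ hε₁ hε₂)
  obtain ⟨T, hT, hadd, hsmul⟩ := exists_tr hε₂ S (rs.length : ℤ)
  let T' : Ext Z (ModuleCat.of S S) (rs.length : ℤ) ≃+ Ext ((Dual.inD C C)⟦(-rs.length : ℤ)⟧) (ModuleCat.of C S) (rs.length : ℤ) :=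
    AddEquiv.ofBijective (AddMonoidHom.mk' T hadd) hT
  let e₃ : Ext ((Dual.inD C C)⟦(-rs.length : ℤ)⟧) (ModuleCat.of C S) (rs.length : ℤ) ≃ₗ[C]
      (sg (ModuleCat.of C S) 0 ⟶ sg (ModuleCat.of C C) 0) :=
    DualCxLib.postcompL _ ((shiftFunctorCompIsoId (Dual.D C) (-rs.length : ℤ) (rs.length : ℤ) (by omega)).app _)
  let F := DerivedCategory.singleFunctor (ModuleCat.{u} C) 0
  let e₄ : (sg (ModuleCat.of C S) 0 ⟶ sg (ModuleCat.of C C) 0) ≃ₗ[C] (S →ₗ[C] C) :=
    (LinearEquiv.ofBijective (F.mapLinearMap C (X := ModuleCat.of C S) (Y := ModuleCat.of C C))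
      ⟨fun f g h => F.map_injective h, fun f => F.map_surjective f⟩).symm.trans ModuleCat.homLinearEquiv
  let e₁ := ((hH S (rs.length : ℤ)).mapIso j).toLinearEquiv.trans (extHL Z (rs.length : ℤ)).symm
  refine ⟨e₁.toAddEquiv.trans (T'.trans (e₃.trans e₄).toAddEquiv), fun x v => ?_⟩
  show (e₃.trans e₄) (T (e₁ (algebraMap C S x • v))) = x • (e₃.trans e₄) (T (e₁ v))
  rw [map_smul, hsmul, map_smul]

/-- Depth of the first possibly nonzero cohomology of a couniversal object. -/
theorem le_depth_of_coUniv {B S : Type u} [CommRing B] [CommRing S] [IsLocalRing B] [IsLocalRing S] [IsNoetherianRing B]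
    [IsNoetherianRing S] (hB : IsCM B) (φ : B →+* S) (hφ : Function.Surjective φ) (rs : List B)
    (hker : ∀ x ∈ rs, φ x = 0) (hreg : IsWeaklyRegular B rs)
    {Y : Dual.D S} {δ : (DRing.restrictD φ).obj Y ⟶ unit B} (hδ : IsCoUniv φ δ)
    (N : Type u) [AddCommGroup N] [Module S N] [Module.Finite S N] (c : ℤ) (hc : c = rs.length)
    (e : N ≃ₗ[S] Dual.HD S Y c) :
    min (2 : WithBot ℕ∞) (ringKrullDim S) ≤ ((LocCoh.depth S N : ℕ∞) : WithBot ℕ∞) := by
  let C := B ⧸ Ideal.ofList rs
  have hle : Ideal.ofList rs ≤ RingHom.ker φ := Ideal.span_le.2 hker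
  have hne : Ideal.ofList rs ≠ ⊤ := ne_top_of_le_ne_top (RingHom.ker_ne_top φ) hle
  haveI : Nontrivial C := Ideal.Quotient.nontrivial_iff.2 hne
  haveI : IsLocalRing C := IsLocalRing.of_surjective' _ Ideal.Quotient.mk_surjective
  have hmem : ∀ x ∈ rs, x ∈ IsLocalRing.maximalIdeal B := fun x hx =>
    IsLocalRing.le_maximalIdeal hne (Ideal.subset_span hx)
  have hC : IsCM C := RegImmKindLib.isCM_quotient_ofList _ B rs rfl hreg hmem hB
  let π : C →+* S := Ideal.Quotient.lift _ φ hle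
  letI : Algebra C S := π.toAlgebra
  have hπ : Function.Surjective π := fun s => by
    obtain ⟨b, rfl⟩ := hφ s
    exact ⟨Ideal.Quotient.mk _ b, rfl⟩
  haveI : IsLocalHom (algebraMap C S) := IsLocalHom.of_surjective π hπ
  obtain ⟨E, hE⟩ := nonempty_HD_equiv_hom (C := C) φ (Ideal.Quotient.mk _) Ideal.Quotient.mk_surjective
    (Ideal.Quotient.lift_comp_mk _ _ _) rs Ideal.mk_ker hreg hδ c hc
  letI : Module C N := Module.compHom N π
  haveI : IsScalarTower C S N := IsScalarTower.of_algebraMap_smul fun x v => rfl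
  let E' : N ≃ₗ[C] (S →ₗ[C] C) :=
    { e.toAddEquiv.trans E with
      map_smul' := fun x v => by
        show E (e (algebraMap C S x • v)) = x • E (e v)
        rw [map_smul, hE] }
  obtain ⟨ls, hls, hd⟩ := hC
  obtain ⟨d, hd'⟩ : ∃ d : ℕ, ringKrullDim C = d := ⟨_, hd⟩
  have hseq : HasSeqIn (IsLocalRing.maximalIdeal C) C (min 2 d) := by
    have hd2 : ls.length = d := by
      rw [hd] at hd'
      exact_mod_cast hd'
    have hne' : Ideal.ofList ls ≠ ⊤ := fun h => hls.top_ne_smul (by rw [h, Submodule.top_smul])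
    exact HasSeqIn.mono (min_le_right 2 d) ⟨ls, hd2, fun x hx => IsLocalRing.le_maximalIdeal hne'
      (show x ∈ Ideal.ofList ls from Ideal.subset_span hx), hls.toIsWeaklyRegular⟩
  have h2 : ((min 2 d : ℕ) : ℕ∞) ≤ LocCoh.depth S N :=
    (le_depth_iff _).2 (hasSeqIn_of_local N ((hasSeqIn_hom S _ (min_le_left 2 d) hseq).congr E'.symm))
  have h3 : ((min 2 d : ℕ) : WithBot ℕ∞) ≤ ((LocCoh.depth S N : ℕ∞) : WithBot ℕ∞) := WithBot.coe_le_coe.2 h2
  refine le_trans (min_le_min le_rfl ((ringKrullDim_le_of_surjective π hπ).trans hd'.le)) (le_trans ?_ h3)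
  rcases le_total 2 d with h | h
  · rw [min_eq_left h]; exact min_le_left _ _
  · rw [min_eq_right h]; exact min_le_right _ _

/-- Vanishing and depth over a Cohen-Macaulay localization of the base. -/
theorem main_CM (R A : Type u) [CommRing R] [CommRing A] [IsNoetherianRing R] [IsNoetherianRing A]
    [Algebra R A] (n : ℕ) (ψ : MvPolynomial (Fin n) R →ₐ[R] A) (hψ : Function.Surjective ψ)
    [DRing.HasLBaseChange (algebraMap R (MvPolynomial (Fin n) R))]
    {Rψ : Dual.D (MvPolynomial (Fin n) R) ⥤ Dual.D A} (adj : DRing.restrictD ψ.toRingHom ⊣ Rψ)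
    (p : Ideal R) [p.IsPrime] [LocCoh.IsCohenMacaulayLocalRing (Localization.AtPrime p)] (r : ℕ)
    (hr : ∀ q : PrimeSpectrum A, q.asIdeal ∈ minimalPrimes A →
      Dual3.resTrdeg (AlgebraicGeometry.Spec.map (CommRingCat.ofHom (algebraMap R A))) q ≤ (r : Cardinal.{u}))
    (q : PrimeSpectrum A) (hq : q.asIdeal.comap (algebraMap R A) ≤ p) :
    (∀ i : ℤ, i < -(r : ℤ) →
      Subsingleton (LocalizedModule q.asIdeal.primeCompl (Dual.HD A (Dual2.shriekVia n Rψ (Dual.inD R R)) i))) ∧
    ∀ [Module.Finite A (Dual.HD A (Dual2.shriekVia n Rψ (Dual.inD R R)) (-(r : ℤ)))],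
      min (2 : WithBot ℕ∞) (ringKrullDim (Localization.AtPrime q.asIdeal)) ≤
        ((LocCoh.depth (Localization.AtPrime q.asIdeal)
          (LocalizedModule q.asIdeal.primeCompl (Dual.HD A (Dual2.shriekVia n Rψ (Dual.inD R R)) (-(r : ℤ)))) : ℕ∞) :
            WithBot ℕ∞) := by
  have hQ : (q.asIdeal.comap ψ.toRingHom).comap (algebraMap R (MvPolynomial (Fin n) R)) ≤ p := by
    rw [Ideal.comap_comap]
    exact (le_of_eq (congrArg (fun f => q.asIdeal.comap f) ψ.comp_algebraMap)).trans hq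
  have hkerQ : RingHom.ker ψ.toRingHom ≤ q.asIdeal.comap ψ.toRingHom := fun x hx => by
    rw [Ideal.mem_comap, show ψ.toRingHom x = 0 from hx]
    exact zero_mem _
  haveI : IsNoetherianRing (Localization.AtPrime (q.asIdeal.comap ψ.toRingHom)) :=
    IsLocalization.isNoetherianRing (q.asIdeal.comap ψ.toRingHom).primeCompl _ inferInstance
  haveI : IsNoetherianRing (Localization.AtPrime q.asIdeal) :=
    IsLocalization.isNoetherianRing q.asIdeal.primeCompl _ inferInstance
  obtain ⟨rs, hl, hm, hreg⟩ := exists_regular_ker_CM R A n ψ hψ r hr p _ hQ hkerQ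
  obtain ⟨hsurj, hker⟩ := CatLib.localRingHom_surjective ψ.toRingHom hψ q.asIdeal
  obtain ⟨Y, δ, hδ, he⟩ := exists_local_dual R A n ψ hψ adj q
  have hk : ∀ x ∈ rs, Localization.localRingHom (q.asIdeal.comap ψ.toRingHom) q.asIdeal ψ.toRingHom rfl x = 0 :=
    fun x hx => by
      have := hm x hx
      rw [← hker] at this
      exact this
  haveI : Y.IsGE (rs.length : ℤ) := isGE_of_regular_ker _ rs hreg hk hδ
  have hsub : ∀ i : ℤ, (n : ℤ) + i < (rs.length : ℤ) →
      Subsingleton (LocalizedModule q.asIdeal.primeCompl (Dual.HD A (Dual2.shriekVia n Rψ (Dual.inD R R)) i)) :=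
    fun i hi => by
      haveI : Subsingleton (Dual.HD (Localization.AtPrime q.asIdeal) Y ((n : ℤ) + i)) :=
        ModuleCat.subsingleton_of_isZero (DerivedCategory.isZero_of_isGE Y (rs.length : ℤ) _ hi)
      exact (he i).some.toEquiv.subsingleton
  refine ⟨fun i hi => hsub i (by omega), ?_⟩
  intro _
  haveI : Module.Finite (Localization.AtPrime q.asIdeal)
      (LocalizedModule q.asIdeal.primeCompl (Dual.HD A (Dual2.shriekVia n Rψ (Dual.inD R R)) (-(r : ℤ)))) :=
    Module.Finite.of_isLocalizedModule q.asIdeal.primeCompl (LocalizedModule.mkLinearMap q.asIdeal.primeCompl _)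
  rcases Nat.lt_or_ge n r with hlt | hge
  · haveI := hsub (-(r : ℤ)) (by omega)
    have : (2 : ℕ∞) ≤ LocCoh.depth (Localization.AtPrime q.asIdeal)
        (LocalizedModule q.asIdeal.primeCompl (Dual.HD A (Dual2.shriekVia n Rψ (Dual.inD R R)) (-(r : ℤ)))) :=
      (le_depth_iff 2).2 (hasSeqIn_of_subsingleton _ _)
    exact le_trans (min_le_left _ _) (WithBot.coe_le_coe.2 this)
  · exact le_depth_of_coUniv (isCM_polynomial_localization R p n _ hQ) _ hsurj rs hk hreg hδ _ _ (by omega)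
      (he (-(r : ℤ))).some

/-- Vanishing below `-r` and Serre's condition at `-r` after localizing the base. -/
theorem vanishing_and_S2 (R A : Type u) [CommRing R] [CommRing A] [IsNoetherianRing R] [IsNoetherianRing A]
    [Algebra R A] (n : ℕ) (ψ : MvPolynomial (Fin n) R →ₐ[R] A) (hψ : Function.Surjective ψ)
    [DRing.HasLBaseChange (algebraMap R (MvPolynomial (Fin n) R))]
    (Rψ : Dual.D (MvPolynomial (Fin n) R) ⥤ Dual.D A) (adj : DRing.restrictD ψ.toRingHom ⊣ Rψ)
    (p : Ideal R) [p.IsPrime] [LocCoh.IsCohenMacaulayLocalRing (Localization.AtPrime p)] (r : ℕ)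
    (hr : ∀ q : PrimeSpectrum A, q.asIdeal ∈ minimalPrimes A →
      Dual3.resTrdeg (AlgebraicGeometry.Spec.map (CommRingCat.ofHom (algebraMap R A))) q ≤ (r : Cardinal.{u})) :
    (∀ i : ℤ, Nontrivial (LocalizedModule (Algebra.algebraMapSubmonoid A p.primeCompl)
        (Dual.HD A (Dual2.shriekVia n Rψ (Dual.inD R R)) i)) → -(r : ℤ) ≤ i) ∧
      LocCoh.HasSk 2 (Localization (Algebra.algebraMapSubmonoid A p.primeCompl))
        (LocalizedModule (Algebra.algebraMapSubmonoid A p.primeCompl)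
          (Dual.HD A (Dual2.shriekVia n Rψ (Dual.inD R R)) (-(r : ℤ)))) := by
  let U := Algebra.algebraMapSubmonoid A p.primeCompl
  have hU : ∀ q : PrimeSpectrum A, Disjoint (U : Set A) (q.asIdeal : Set A) →
      q.asIdeal.comap (algebraMap R A) ≤ p := fun q hd x hx => by
    by_contra hxp
    exact Set.disjoint_left.1 hd ⟨x, hxp, rfl⟩ hx
  haveI : (Dual.inD R R).IsGE 0 := inferInstance
  have hfin := (bounded_and_finite n ψ hψ adj (K := Dual.inD R R) (a := 0) inferInstance).2 (finite_HD_inD R)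
  refine ⟨fun i hi => ?_, hasSk_localized U _ 2 fun q hq => ?_⟩
  · by_contra hlt
    obtain ⟨z, hz⟩ := exists_ne (0 : LocalizedModule U (Dual.HD A (Dual2.shriekVia n Rψ (Dual.inD R R)) i))
    induction z using LocalizedModule.induction_on with
    | h v s =>
      have hdisj : Disjoint ((Ideal.torsionOf A _ v : Ideal A) : Set A) (U : Set A) := by
        rw [Set.disjoint_left]
        intro a ha haU
        refine hz ?_
        rw [← LocalizedModule.zero_mk s, LocalizedModule.mk_eq]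
        exact ⟨⟨a, haU⟩, by
          rw [smul_zero, smul_zero, Submonoid.smul_def, Submonoid.smul_def, smul_comm]
          show (s : A) • (a • v) = 0
          rw [show a • v = 0 from ha, smul_zero]⟩
      obtain ⟨Q, hQ, hle, hdQ⟩ := Ideal.exists_le_prime_disjoint _ U hdisj
      haveI := (main_CM R A n ψ hψ adj p r hr ⟨Q, hQ⟩ (hU ⟨Q, hQ⟩ hdQ.symm)).1 i (by omega)
      obtain ⟨t, ht, htv⟩ := LocalizedModule.subsingleton_iff.1 this v
      exact ht (hle htv)
  · haveI := hfin (-(r : ℤ))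
    exact (main_CM R A n ψ hψ adj p r hr q (hU q hq)).2

end ShriekRingLib

end
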