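import Groth.Agent.ShriekRingLib.FlatRelDual
import Groth.Agent.ShriekRingLib.Tensor
import Mathlib.Algebra.Category.Ring.Epi
import Mathlib.AlgebraicGeometry.Morphisms.Flat

/-!
# The upper shriek of an open immersion of affine schemes
-/

set_option autoImplicit false
set_option linter.all false
set_option maxHeartbeats 1000000

universe u

open CategoryTheory CategoryTheory.Limits MonoidalCategory AlgebraicGeometry
open Groth.Agent DTen
open scoped TensorProduct

attribute [local instance] HasDerivedCategory.standard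

noncomputable section

namespace ShriekRingLib

open FinDualLib Groth.Agent.DualCxLib TorIndBCLib

/-- The tensor product with a complex is derived by K-flat complexes. -/
theorem hasLTensorCx {R : Type u} [CommRing R] (L : DRing.Cx R) : DRing.HasLTensorCx R L := by
  let W := HomologicalComplex.quasiIso (ModuleCat.{u} R) (ComplexShape.up ℤ)
  have hψ : ∀ K, W ((DRingLib.resψ R).app K) := fun K => DRingLib.quasiIso_resψ K
  have hR : W.IsInvertedBy (DRingLib.resP R ⋙ DRing.tensorCxQ R L) := fun K M f (hf : QuasiIso f) => by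
    refine TwoTermLib.LTCx.isIso_tensorCxQ_map L _ (DRingLib.good_resP K).1 (DRingLib.good_resP M).1 ?_
    have := DRingLib.quasiIso_resψ K
    have := DRingLib.quasiIso_resψ M
    have : QuasiIso ((DRingLib.resP R).map f ≫ (DRingLib.resψ R).app M) := by
      rw [(DRingLib.resψ R).naturality f]
      change QuasiIso ((DRingLib.resψ R).app K ≫ f)
      exact quasiIso_comp _ _
    exact quasiIso_of_comp_right ((DRingLib.resP R).map f) ((DRingLib.resψ R).app M)
  haveI := KFlatLib.isRightKanExtension_derivedOfRes DerivedCategory.Q W (DRing.tensorCxQ R L)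
    (DRingLib.resP R) (DRingLib.resψ R) hψ
    (fun K => TwoTermLib.LTCx.isIso_tensorCxQ_map L _ (DRingLib.good_resP _).1 (DRingLib.good_resP _).1 (hψ _)) hR
  exact (Functor.hasLeftDerivedFunctor_iff _ DerivedCategory.Q W).2 (Functor.HasRightKanExtension.mk _
    (KFlatLib.derivedOfResα DerivedCategory.Q W (DRing.tensorCxQ R L) (DRingLib.resP R) (DRingLib.resψ R) hR))

/-- For a flat epimorphism the upper shriek of the base is trivial. -/
theorem shriekVia_self_of_isEpi (R A : Type u) [CommRing R] [CommRing A] [IsNoetherianRing R]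
    [Algebra R A] [Module.Flat R A] [Algebra.IsEpi R A] (n : ℕ) (ψ : MvPolynomial (Fin n) R →ₐ[R] A)
    (hψ : Function.Surjective ψ) [DRing.HasLBaseChange (algebraMap R (MvPolynomial (Fin n) R))]
    {Rψ : Dual.D (MvPolynomial (Fin n) R) ⥤ Dual.D A} (adj : DRing.restrictD ψ.toRingHom ⊣ Rψ) :
    Nonempty (Dual2.shriekVia n Rψ (Dual.inD R R) ≅ Dual.inD A A) := by
  let μ := (Algebra.TensorProduct.lmul' R (S := A)).toRingHom
  have hbij : Function.Bijective μ := by
    refine ⟨?_, fun a => ⟨a ⊗ₜ 1, (Algebra.TensorProduct.lmul'_apply_tmul a 1).trans (mul_one a)⟩⟩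
    intro x y h
    refine Algebra.IsEpi.injective_lift_mul (R := R) (A := A) ?_
    have key : ∀ z : A ⊗[R] A, TensorProduct.lift (LinearMap.mul R A) z = μ z := fun z => by
      induction z using TensorProduct.induction_on with
      | zero => simp
      | tmul a b => exact (Algebra.TensorProduct.lmul'_apply_tmul a b).symm
      | add a b ha hb => rw [map_add, map_add, ha, hb]
    rw [key, key, h]
  let e : A ⊗[R] A ≃+* A := RingEquiv.ofBijective μ hbij
  let iL : A →+* A ⊗[R] A := Algebra.TensorProduct.includeLeftRingHom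
  haveI := DRingLib.hasLBaseChange iL
  obtain ⟨τ, ε, hε, hτ⟩ := exists_coUniv_leftBaseChange R A A n ψ hψ adj
  let ω := Dual2.shriekVia n Rψ (Dual.inD R R)
  obtain ⟨Z, ⟨i⟩⟩ := exists_res_iso e ((DRing.LBaseChange iL).obj ω)
  obtain ⟨η, hη⟩ := exists_univ_base iL ω
  have hid : e.toRingHom.comp iL = (RingEquiv.refl A).toRingHom := RingHom.ext fun a =>
    (Algebra.TensorProduct.lmul'_apply_tmul a 1).trans (mul_one a)
  have h2 := isUniv_comp hid hη (isUniv_of_iso e i.symm)
  obtain ⟨Z', ⟨i'⟩⟩ := exists_res_iso (RingEquiv.refl A) ω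
  obtain ⟨k, -⟩ := exists_iso_univ h2 (isUniv_of_iso (RingEquiv.refl A) i'.symm)
  obtain ⟨j⟩ := nonempty_iso_inD_of_section n (e.toRingHom.comp τ)
    (RingHom.ext fun a => by
      show μ (τ (MvPolynomial.C a)) = a
      rw [hτ]
      exact (Algebra.TensorProduct.lmul'_apply_tmul 1 a).trans (one_mul a))
    (isCoUniv_comp rfl hε (isCoUniv_of_iso e i))
  exact ⟨i'.symm ≪≫ resDId.app Z' ≪≫ k.symm ≪≫ j⟩

/-- The upper shriek of an open immersion is base change. -/
theorem shriekVia_openImmersion (R A : Type u) [CommRing R] [CommRing A] [IsNoetherianRing R]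
    [IsNoetherianRing A] [Algebra R A]
    (hopen : IsOpenImmersion (Spec.map (CommRingCat.ofHom (algebraMap R A))))
    (n : ℕ) (ψ : MvPolynomial (Fin n) R →ₐ[R] A) (hψ : Function.Surjective ψ)
    [DRing.HasLBaseChange (algebraMap R (MvPolynomial (Fin n) R))]
    {Rψ : Dual.D (MvPolynomial (Fin n) R) ⥤ Dual.D A} (adj : DRing.restrictD ψ.toRingHom ⊣ Rψ)
    [DRing.HasLBaseChange (algebraMap R A)] (K : Dual.D R) :
    Nonempty (Dual2.shriekVia n Rψ K ≅ (DRing.LBaseChange (algebraMap R A)).obj K) := by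
  haveI := hopen
  haveI : Module.Flat R A := RingHom.flat_algebraMap_iff.1
    (Flat.SpecMap_iff.1 (inferInstance : Flat (Spec.map (CommRingCat.ofHom (algebraMap R A)))))
  haveI : Algebra.IsEpi R A := CommRingCat.epi_iff_epi.1 (by
    haveI : Mono (Scheme.Spec.map (CommRingCat.ofHom (algebraMap R A)).op) :=
      (inferInstance : Mono (Spec.map (CommRingCat.ofHom (algebraMap R A))))
    haveI : Mono (CommRingCat.ofHom (algebraMap R A)).op := Functor.mono_of_mono_map Scheme.Spec ‹_›
    exact unop_epi_of_mono (CommRingCat.ofHom (algebraMap R A)).op)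
  obtain ⟨j⟩ := shriekVia_self_of_isEpi R A n ψ hψ adj
  haveI := Groth.Agent.DualCxLib.hasLTen A
  haveI := DTenLib.hasLTen₃ A
  haveI := DTenLib.isSymMonoidal A
  let W : DRing.Cx A := 𝟙_ (DRing.Cx A)
  haveI : DRing.HasLTensorCx A W := hasLTensorCx W
  obtain ⟨e⟩ := shriekVia_iso_tensor R A n ψ hψ adj W ⟨(inDUnit A).symm ≪≫ j.symm⟩ K
  obtain ⟨P, hP, ⟨eP⟩⟩ := DTenLib.exists_kf_rep ((DRing.LBaseChange (algebraMap R A)).obj K)
  exact ⟨e ≪≫ (DRing.LTensorCx A W).mapIso eP.symm ≪≫ TwoTermLib.LTCx.objIso W P hP ≪≫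
    DerivedCategory.Q.mapIso (MonoidalCategory.rightUnitor P) ≪≫ eP⟩

end ShriekRingLib
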