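import Groth.Agent.ShriekRingLib.BaseChangeMod
import Groth.Agent.ShriekRingLib.Basic
import Groth.Agent.FlatExtLib.Cx

/-!
# Flat base change of couniversal maps along finite maps
-/

set_option autoImplicit false
set_option linter.all false
set_option maxHeartbeats 1000000

universe u

open CategoryTheory CategoryTheory.Limits
open Groth.Agent DTen
open DTenLib.Point (hH sg)
open scoped TensorProduct

attribute [local instance] HasDerivedCategory.standard

noncomputable section

namespace ShriekRingLib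

open Groth.Agent.DualCxLib FlatExtLib FinDualLib

section Gen

variable {A S : Type u} [CommRing A] [CommRing S] [Algebra A S] [Module.Flat A S]

theorem isBC_of_isUniv {X : Dual.D A} {Z : Dual.D S} {η : X ⟶ (DRing.restrictD (algebraMap A S)).obj Z}
    (h : IsUniv (algebraMap A S) η) : IsBC η := by
  let e := DerivedCategory.Q.objObjPreimageIso X
  obtain ⟨k, hk⟩ := exists_iso_univ ((isUniv_γ_flat (A := A) (S := S) (DerivedCategory.Q.objPreimage X)).comp_iso
    e.symm (Iso.refl _)) h
  rw [← hk, Iso.refl_hom, CategoryTheory.Functor.map_id, Category.comp_id, Category.assoc]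
  exact (isBC_γ _).comp_iso e.symm k

/-- The comparison out of an object with finite bounded cohomology, without shifts. -/
theorem exists_bc_sum [IsNoetherianRing A] {ω : Dual.D A} {a : ℤ} (ha : ω.IsGE a) {Z : Dual.D S}
    {η : ω ⟶ (DRing.restrictD (algebraMap A S)).obj Z} (hη : IsBC η) {X : Dual.D A} {c : ℤ} {k : ℕ}
    (hX : ∀ i, (i < c ∨ c + k ≤ i) → IsZero ((hH A i).obj X)) (hXf : ∀ i, Module.Finite A ((hH A i).obj X)) :
    ∃ bc : S ⊗[A] (X ⟶ ω) →ₗ[A] (X ⟶ (DRing.restrictD (algebraMap A S)).obj Z), Function.Bijective bc ∧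
      ∀ s f, bc (s ⊗ₜ f) = f ≫ theta η s := by
  let T := (DRing.restrictD (algebraMap A S)).obj Z
  let z : ∀ W : Dual.D A, W⟦(0 : ℤ)⟧ ≅ W := fun W => (shiftFunctorZero (Dual.D A) ℤ).app W
  have hA : ∀ j, Function.Bijective (bc (theta η) (ModuleCat.of A A) j) := fun j => by
    obtain ⟨F, hF⟩ := hη j
    exact bijective_bc_ring (theta η) j F F.bijective (map_add F) hF
  have hb := bijective_bcX (theta η) ha (exists_isGE hη ha).1 hA hX hXf 0
  refine ⟨(Linear.homCongr A (Iso.refl X) (z T)).toLinearMap.comp ((bcX (theta η) X 0).comp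
    ((Linear.homCongr A (Iso.refl X) (z ω).symm).toLinearMap.lTensor S)), ?_, fun s f => ?_⟩
  · exact (Linear.homCongr A (Iso.refl X) (z T)).bijective.comp (hb.comp
      (LinearEquiv.lTensor S (Linear.homCongr A (Iso.refl X) (z ω).symm)).bijective)
  · show (𝟙 X ≫ ((𝟙 X ≫ f) ≫ (z ω).inv) ≫ (theta η s)⟦(0 : ℤ)⟧') ≫ (z T).hom = _
    rw [Category.id_comp, Category.id_comp]
    simp only [Category.assoc]
    refine congrArg (f ≫ ·) ?_
    rw [Iso.inv_comp_eq]
    exact ((shiftFunctorZero (Dual.D A) ℤ).hom.naturality (theta η s))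

end Gen

variable {R S A B : Type u} [CommRing R] [CommRing S] [CommRing A] [CommRing B]
  [Algebra R S] [Algebra R A] [Algebra R B] [Algebra S B] [Algebra A B]
  [IsScalarTower R A B] [IsScalarTower R S B] [Algebra.IsPushout R S A B]
  [IsNoetherianRing R] [Module.Flat R S] [Module.Finite R A]

/-- Flat base change of a couniversal map along a finite map. -/
theorem exists_coUniv_baseChange {K : Dual.D R} {a : ℤ} (hK : K.IsGE a) {Z : Dual.D A}
    {ε : (DRing.restrictD (algebraMap R A)).obj Z ⟶ K} (hε : IsCoUniv (algebraMap R A) ε)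
    {K' : Dual.D S} {ηK : K ⟶ (DRing.restrictD (algebraMap R S)).obj K'} (hηK : IsUniv (algebraMap R S) ηK)
    {Z' : Dual.D B} {ηZ : Z ⟶ (DRing.restrictD (algebraMap A B)).obj Z'} (hηZ : IsUniv (algebraMap A B) ηZ) :
    ∃ ε' : (DRing.restrictD (algebraMap S B)).obj Z' ⟶ K', IsCoUniv (algebraMap S B) ε' := by
  haveI : Algebra.IsPushout R A S B := Algebra.IsPushout.symm inferInstance
  haveI : Module.Flat A B := Module.Flat.of_linearEquiv (Algebra.IsPushout.equiv R A S B).symm.toLinearEquiv
  haveI : IsNoetherianRing A := isNoetherian_of_tower R (isNoetherian_of_isNoetherianRing_of_finite R A)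
  let φ := algebraMap R A
  let ρ := algebraMap R S
  let α := algebraMap A B
  let φ' := algebraMap S B
  let C := sqComm R S A B
  have hηK' := isBC_of_isUniv hηK
  have hηZ' := isBC_of_isUniv hηZ
  haveI hZ := isGE_of_coUniv hε hK
  obtain ⟨h, hh⟩ := (isUniv_res R S A B hηZ K').2 (ε ≫ ηK)
  replace hh : ((DRing.restrictD φ).map ηZ ≫ C.hom.app Z') ≫ (DRing.restrictD ρ).map h = ε ≫ ηK := hh
  obtain ⟨Y, ε', hε'⟩ := FinDualLib.exists_coUniv φ' K'
  obtain ⟨g, hg⟩ := (hε' Z').2 h
  replace hg : (DRing.restrictD φ').map g ≫ ε' = h := hg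
  suffices hg' : IsIso g by
    refine ⟨h, fun W => ?_⟩
    rw [show (fun f : W ⟶ Z' => (DRing.restrictD φ').map f ≫ h) = (fun f : W ⟶ Y => (DRing.restrictD φ').map f ≫ ε') ∘
      ((Iso.refl W).homCongr (asIso g)) from funext fun f => by simp [Iso.homCongr, ← hg]]
    exact (hε' W).comp ((Iso.refl W).homCongr (asIso g)).bijective
  suffices key : ∀ i : ℤ, Function.Bijective fun f : sg (ModuleCat.of B B) i ⟶ Z' => f ≫ g by
    rw [DerivedCategory.isIso_iff]
    intro i
    refine (ConcreteCategory.isIso_iff_bijective _).2 ?_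
    have hnat : (fun x => ((hH B i).map g).hom x) ∘ evGen Z' i = evGen Y i ∘ fun f => f ≫ g := funext fun f => by
      show ((hH B i).map g).hom (((hH B i).map f).hom _) = ((hH B i).map (f ≫ g)).hom _
      rw [Functor.map_comp]
      rfl
    have hY : Function.Bijective (evGen Y i) := ⟨evGen_injective Y i, evGen_surjective Y i⟩
    have hZ'' : Function.Bijective (evGen Z' i) := ⟨evGen_injective Z' i, evGen_surjective Z' i⟩
    exact (Function.Bijective.of_comp_iff _ hZ'').1 (hnat ▸ hY.comp (key i))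
  intro i
  let X := sg (ModuleCat.of A A) i
  let eX : sg (ModuleCat.of A A) i ≅ (sg (ModuleCat.of A A) 0)⟦-i⟧ :=
    eqToIso (by simp) ≪≫ (DTenLib.Point.shiftSg _ 0 (-i)).symm
  let eB : (sg (ModuleCat.of B B) 0)⟦-i⟧ ≅ sg (ModuleCat.of B B) i :=
    DTenLib.Point.shiftSg _ 0 (-i) ≪≫ eqToIso (by simp)
  obtain ⟨η₀, hη₀⟩ := exists_univ_single (A := A) (S := B) (ModuleCat.of A A) (N' := ModuleCat.of B B)
    ((DRingLib.extendScalarsEquiv (ModuleCat.of A A)).trans (TensorProduct.AlgebraTensorModule.rid A B B)).toModuleIso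
  have hηX := (isUniv_shift hη₀ (-i)).comp_iso eX eB
  let ηX := eX.hom ≫ ((η₀⟦-i⟧' ≫ ((DRing.restrictD α).commShiftIso (-i)).inv.app _) ≫
    (DRing.restrictD α).map eB.hom)
  have hηX' : IsUniv α ηX := by simpa only [ηX, Category.assoc] using hηX
  let P : (X ⟶ (DRing.restrictD α).obj Z') → ((DRing.restrictD φ).obj X ⟶ (DRing.restrictD ρ).obj K') :=
    fun v => (DRing.restrictD φ).map v ≫ C.hom.app Z' ≫ (DRing.restrictD ρ).map h
  suffices hP : Function.Bijective P by
    have e2 := (isUniv_res R S A B hηX' K').comp (hε' (sg (ModuleCat.of B B) i))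
    refine (Function.Bijective.of_comp_iff' e2 _).1 ?_
    convert hP.comp (hηX' Z') using 1
    funext f
    show ((DRing.restrictD φ).map ηX ≫ C.hom.app _) ≫ (DRing.restrictD ρ).map ((DRing.restrictD φ').map (f ≫ g) ≫ ε') =
      (DRing.restrictD φ).map (ηX ≫ (DRing.restrictD α).map f) ≫ C.hom.app Z' ≫ (DRing.restrictD ρ).map h
    have hf : (DRing.restrictD φ).map ((DRing.restrictD α).map f) ≫ C.hom.app Z' =
        C.hom.app (sg (ModuleCat.of B B) i) ≫ (DRing.restrictD ρ).map ((DRing.restrictD φ').map f) :=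
      C.hom.naturality f
    rw [Functor.map_comp (DRing.restrictD φ'), Category.assoc ((DRing.restrictD φ').map f), hg,
      (DRing.restrictD φ).map_comp ηX, (DRing.restrictD ρ).map_comp, Category.assoc, Category.assoc,
      reassoc_of% hf]
  haveI : Module.Finite R ((ModuleCat.restrictScalars.{u} φ).obj (ModuleCat.of A A)) :=
    Module.Finite.equiv ({ AddEquiv.refl A with map_smul' := fun r x => Algebra.smul_def r x } :
      A ≃ₗ[R] ((ModuleCat.restrictScalars.{u} φ).obj (ModuleCat.of A A) : Type u))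
  let eφ : (DRing.restrictD φ).obj X ≅ sg ((ModuleCat.restrictScalars.{u} φ).obj (ModuleCat.of A A)) i :=
    ((ModuleCat.restrictScalars.{u} φ).mapDerivedCategorySingleFunctor i).app (ModuleCat.of A A)
  obtain ⟨bcR, hbcR, hbcR'⟩ := exists_bc_sum hK hηK' (X := (DRing.restrictD φ).obj X) (c := i) (k := 1)
    (fun l hl => (DTenLib.Point.isZero_sg (show l ≠ i by omega)).of_iso ((hH R l).mapIso eφ))
    (fun l => by
      rcases eq_or_ne l i with rfl | hl
      · exact Module.Finite.equiv ((hH R l).mapIso eφ ≪≫ DTenLib.Point.sgH _ l).toLinearEquiv.symm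
      · haveI := ModuleCat.subsingleton_of_isZero
          ((DTenLib.Point.isZero_sg (N := (ModuleCat.restrictScalars.{u} φ).obj (ModuleCat.of A A)) hl).of_iso
            ((hH R l).mapIso eφ))
        infer_instance)
  obtain ⟨bcA, hbcA, hbcA'⟩ := exists_bc_sum hZ hηZ' (X := X) (c := i) (k := 1)
    (fun l hl => DTenLib.Point.isZero_sg (show l ≠ i by omega))
    (fun l => by
      rcases eq_or_ne l i with rfl | hl
      · exact Module.Finite.equiv (DTenLib.Point.sgH _ l).toLinearEquiv.symm
      · haveI := ModuleCat.subsingleton_of_isZero (DTenLib.Point.isZero_sg (N := ModuleCat.of A A) hl)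
        infer_instance)
  let Φ := Equiv.ofBijective _ (hε X)
  have hΦ : ∀ f, (DRing.restrictD φ).map (Φ.symm f) ≫ ε = f := Φ.apply_symm_apply
  have hΦadd : ∀ f f', Φ.symm (f + f') = Φ.symm f + Φ.symm f' := fun f f' => Φ.injective (by
    rw [Φ.apply_symm_apply]
    show _ = (DRing.restrictD φ).map (Φ.symm f + Φ.symm f') ≫ ε
    rw [Functor.map_add, Preadditive.add_comp, hΦ, hΦ])
  have hΦsmul : ∀ (r : R) f, Φ.symm (r • f) = φ r • Φ.symm f := fun r f => Φ.injective (by
    rw [Φ.apply_symm_apply]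
    show _ = (DRing.restrictD φ).map (φ r • Φ.symm f) ≫ ε
    rw [restrictD_smul, Linear.smul_comp, hΦ])
  let Λ : S ⊗[R] ((DRing.restrictD φ).obj X ⟶ K) →+ (X ⟶ (DRing.restrictD α).obj Z') :=
    TensorProduct.liftAddHom
      (AddMonoidHom.mk' (fun s => AddMonoidHom.mk' (fun f => Φ.symm f ≫ theta ηZ (φ' s))
        (fun f f' => by rw [hΦadd, Preadditive.add_comp]))
        (fun s t => AddMonoidHom.ext fun f => by
          show Φ.symm f ≫ theta ηZ (φ' (s + t)) = _
          rw [map_add, map_add, Preadditive.comp_add]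
          rfl))
      (fun r s f => by
        show Φ.symm f ≫ theta ηZ (φ' (r • s)) = Φ.symm (r • f) ≫ theta ηZ (φ' s)
        rw [hΦsmul, Linear.smul_comp, Algebra.smul_def, map_mul, ← IsScalarTower.algebraMap_apply R S B,
          IsScalarTower.algebraMap_apply R A B, ← Algebra.smul_def, map_smul, Linear.comp_smul])
  have hPΛ : ∀ z, P (Λ z) = bcR z := fun z => by
    induction z using TensorProduct.induction_on with
    | zero =>
      rw [map_zero, map_zero]
      show (DRing.restrictD φ).map 0 ≫ _ = 0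
      rw [Functor.map_zero, zero_comp]
    | tmul s f =>
      rw [hbcR']
      show (DRing.restrictD φ).map (Φ.symm f ≫ ηZ ≫ (DRing.restrictD α).map (φ' s • 𝟙 Z')) ≫ _ = _
      have hn : (DRing.restrictD φ).map ((DRing.restrictD α).map (φ' s • 𝟙 Z')) ≫ C.hom.app Z' =
          C.hom.app Z' ≫ (DRing.restrictD ρ).map ((DRing.restrictD φ').map (φ' s • 𝟙 Z')) :=
        C.hom.naturality (φ' s • 𝟙 Z')
      have hs : (DRing.restrictD φ').map (φ' s • 𝟙 Z') ≫ h = h ≫ (s • 𝟙 K') := by
        rw [restrictD_smul_id, Linear.smul_comp, Category.id_comp, Linear.comp_smul, Category.comp_id]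
      rw [Functor.map_comp, Functor.map_comp, Category.assoc, Category.assoc, reassoc_of% hn,
        ← Functor.map_comp, hs, Functor.map_comp]
      have hh' := reassoc_of% hh
      rw [hh', reassoc_of% (hΦ f)]
      rfl
    | add x y hx hy =>
      rw [map_add, map_add, ← hx, ← hy]
      show (DRing.restrictD φ).map (Λ x + Λ y) ≫ _ = _
      rw [Functor.map_add, Preadditive.add_comp]
  have hΛ : Function.Surjective Λ := fun v => by
    obtain ⟨z, rfl⟩ := hbcA.2 v
    induction z using TensorProduct.induction_on with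
    | zero => exact ⟨0, by rw [map_zero, map_zero]⟩
    | add x y hx hy =>
      obtain ⟨x', hx'⟩ := hx
      obtain ⟨y', hy'⟩ := hy
      exact ⟨x' + y', by rw [map_add, map_add, hx', hy']⟩
    | tmul b f =>
      rw [hbcA']
      obtain ⟨w, rfl⟩ := (Algebra.IsPushout.equiv R S A B).surjective b
      induction w using TensorProduct.induction_on with
      | zero => exact ⟨0, by rw [map_zero, map_zero, map_zero, comp_zero]⟩
      | add x y hx hy =>
        obtain ⟨x', hx'⟩ := hx
        obtain ⟨y', hy'⟩ := hy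
        exact ⟨x' + y', by rw [map_add, map_add, map_add, Preadditive.comp_add, hx', hy']⟩
      | tmul s c =>
        refine ⟨s ⊗ₜ ((DRing.restrictD φ).map (c • f) ≫ ε), ?_⟩
        show Φ.symm (Φ (c • f)) ≫ theta ηZ (φ' s) = f ≫ theta ηZ _
        rw [Φ.symm_apply_apply, Linear.smul_comp, Algebra.IsPushout.equiv_tmul, mul_comm, ← Algebra.smul_def,
          map_smul, Linear.comp_smul]
  refine ⟨fun v v' hvv => ?_, fun y => ?_⟩
  · obtain ⟨z, rfl⟩ := hΛ v
    obtain ⟨z', rfl⟩ := hΛ v'
    rw [hPΛ, hPΛ] at hvv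
    rw [hbcR.1 hvv]
  · obtain ⟨z, rfl⟩ := hbcR.2 y
    exact ⟨Λ z, hPΛ z⟩

end ShriekRingLib
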