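import Groth.Agent.ShriekRingLib.Basic
import Groth.Agent.SMTLib.MaxHeight

/-!
# The dimension function of the base change to a polynomial ring
-/

set_option autoImplicit false
set_option linter.all false
set_option maxHeartbeats 1000000

universe u

open CategoryTheory CategoryTheory.Limits
open Groth.Agent DTen
open DTenLib.Point (hH sg)
open scoped TensorProduct

attribute [local instance] HasDerivedCategory.standard

noncomputable section

namespace ShriekRingLib

open Groth.Agent.DualCxLib FlatExtLib

section Between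

variable {A : Type u} [CommRing A] [IsNoetherianRing A] {ω : Dual.D A}

theorem exists_series_between (hω : Dual.IsDualizing A ω) (p q : PrimeSpectrum A) (h : p ≤ q) :
    ∃ l : LTSeries (PrimeSpectrum A), l.head = p ∧ l.last = q ∧ deg hω p + l.length = deg hω q := by
  haveI := wellFoundedGT_primeSpectrum (A := A)
  refine WellFoundedGT.induction (motive := fun p => p ≤ q → ∃ l : LTSeries (PrimeSpectrum A),
    l.head = p ∧ l.last = q ∧ deg hω p + l.length = deg hω q) p (fun p ih h => ?_) h
  rcases eq_or_lt_of_le h with rfl | hlt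
  · exact ⟨RelSeries.singleton _ p, rfl, rfl, by simp⟩
  obtain ⟨x, r, hxp, hr, hpr, hrq⟩ := exists_cover_below p q hlt
  obtain ⟨l, hl, hl', hlen⟩ := ih r hpr hrq
  refine ⟨l.cons p (by rw [hl]; exact hpr), RelSeries.head_cons _ _ _,
    (RelSeries.last_cons _ _ _).trans hl', ?_⟩
  have h1 := IsDeg.eq_deg hω (isDeg_of_minimal_over hω hxp hr (isDeg_deg hω r))
  simp only [RelSeries.cons_length, Nat.cast_add, Nat.cast_one]
  omega

/-- The degree measures the height. -/
theorem height_map_eq_deg_sub (hω : Dual.IsDualizing A ω) (p q : PrimeSpectrum A) (h : p ≤ q) :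
    (q.asIdeal.map (Ideal.Quotient.mk p.asIdeal)).height = (((deg hω q - deg hω p).toNat : ℕ) : ℕ∞) := by
  have hsurj : Function.Surjective (Ideal.Quotient.mk p.asIdeal) := Ideal.Quotient.mk_surjective
  have hker : RingHom.ker (Ideal.Quotient.mk p.asIdeal) ≤ q.asIdeal := by
    rw [Ideal.mk_ker]; exact h
  haveI : (q.asIdeal.map (Ideal.Quotient.mk p.asIdeal)).IsPrime := Ideal.map_isPrime_of_surjective hsurj hker
  let π : PrimeSpectrum (A ⧸ p.asIdeal) → PrimeSpectrum A := PrimeSpectrum.comap (Ideal.Quotient.mk p.asIdeal)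
  have hπle : ∀ P, p ≤ π P := fun P => show p.asIdeal ≤ P.asIdeal.comap _ from
    (Ideal.mk_ker (I := p.asIdeal)).ge.trans (Ideal.comap_mono bot_le)
  have hπs : StrictMono π := fun P Q hPQ => lt_of_le_of_ne (Ideal.comap_mono hPQ.le)
    fun he => hPQ.ne (PrimeSpectrum.comap_injective_of_surjective _ hsurj he)
  let Q : PrimeSpectrum (A ⧸ p.asIdeal) := ⟨q.asIdeal.map (Ideal.Quotient.mk p.asIdeal), inferInstance⟩
  have hQ : π Q = q := PrimeSpectrum.ext (by
    show (q.asIdeal.map _).comap _ = q.asIdeal
    rw [Ideal.comap_map_of_surjective' _ hsurj]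
    exact sup_eq_left.2 hker)
  rw [show (q.asIdeal.map (Ideal.Quotient.mk p.asIdeal)).height = Order.height Q from
    PrimeSpectrum.height_eq_orderHeight Q]
  refine le_antisymm (Order.height_le fun l hl => ENat.natCast_le_natCast.2 ?_) ?_
  · let l' := l.map π hπs
    have h1 := length_le_deg_sub hω l'
    have h2 : deg hω p ≤ deg hω l'.head := (deg_strictMono hω).monotone (hπle _)
    have h3 : deg hω l'.last = deg hω q := by
      rw [show l'.last = π l.last from rfl, hl]
      exact congrArg _ hQ
    change l'.length ≤ _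
    omega
  · obtain ⟨l, hl, hl', hlen⟩ := exists_series_between hω p q h
    have hle : ∀ i, p.asIdeal ≤ (l.toFun i).asIdeal := fun i => by
      have := LTSeries.head_le l i
      rw [hl] at this
      exact this
    let l' : LTSeries (PrimeSpectrum (A ⧸ p.asIdeal)) :=
      { length := l.length
        toFun := fun i => ⟨(l.toFun i).asIdeal.map (Ideal.Quotient.mk p.asIdeal),
          Ideal.map_isPrime_of_surjective hsurj (by rw [Ideal.mk_ker]; exact hle i)⟩
        step := fun i => by
          refine lt_of_le_of_ne (Ideal.map_mono (l.step i).le) fun he => (l.step i).ne (PrimeSpectrum.ext ?_)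
          have := congrArg (Ideal.comap (Ideal.Quotient.mk p.asIdeal)) he
          rwa [Ideal.comap_map_of_surjective' _ hsurj, Ideal.comap_map_of_surjective' _ hsurj,
            Ideal.mk_ker, sup_eq_left.2 (hle _), sup_eq_left.2 (hle _)] at this }
    refine le_trans (ENat.natCast_le_natCast.2 (show (deg hω q - deg hω p).toNat ≤ l'.length from ?_))
      (Order.length_le_height (p := l') (le_of_eq ?_))
    · show _ ≤ l.length
      omega
    · exact PrimeSpectrum.ext (congrArg (Ideal.map _) (congrArg PrimeSpectrum.asIdeal hl'))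

end Between

section Generic

variable {A : Type u} [CommRing A] [IsNoetherianRing A] {S : Type u} [CommRing S] [Algebra A S] [Module.Flat A S]
  [IsNoetherianRing S]

/-- The degree of a flat base change at the generic point of an irreducible fibre. -/
theorem deg_fibre_generic {ω : Dual.D A} (hω : Dual.IsDualizing A ω) {Z : Dual.D S} (hZ : Dual.IsDualizing S Z)
    {η : ω ⟶ (DRing.restrictD (algebraMap A S)).obj Z} (hη : IsBC η) (p : PrimeSpectrum A) (Q : PrimeSpectrum S)
    (hQ : Q.asIdeal = p.asIdeal.map (algebraMap A S)) (hc : Q.asIdeal.comap (algebraMap A S) = p.asIdeal) :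
    deg hZ Q = deg hω p := by
  obtain ⟨a, ha⟩ := isGE_dualizing hω
  have key : ∀ i, Van Q.asIdeal (Ext Z (ModuleCat.of S (S ⧸ Q.asIdeal)) i) ↔
      Van p.asIdeal (Ext ω (ModuleCat.of A (A ⧸ p.asIdeal)) i) := fun i => by
    obtain ⟨E⟩ := nonempty_ext_bc ha hη (A ⧸ p.asIdeal) i
    let ek : S ⊗[A] (A ⧸ p.asIdeal) ≃ₗ[S] S ⧸ Q.asIdeal :=
      (Algebra.TensorProduct.quotIdealMapEquivTensorQuot S p.asIdeal).symm.toLinearEquiv.trans
        (Submodule.quotEquivOfEq _ _ hQ.symm)
    rw [← van_of_equiv Q.asIdeal (E.trans (precompL ((DerivedCategory.singleFunctor (ModuleCat.{u} S) 0).mapIso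
      ek.toModuleIso) (Z⟦i⟧))), van_tensor_iff (A := A) Q, hc]
  obtain ⟨h1, h2⟩ := isDeg_deg hω p
  exact (IsDeg.eq_deg hZ ⟨fun i hi => (key i).2 (h1 i hi), fun h => h2 ((key _).1 h)⟩).symm

end Generic

section Poly

variable {R : Type u} [CommRing R] [IsNoetherianRing R] (n : ℕ)

local notation "P" => MvPolynomial (Fin n) R

/-- The degree at a point of affine space over a point. -/
theorem deg_polynomial {ω : Dual.D R} (hω : Dual.IsDualizing R ω) {Z : Dual.D P} (hZ : Dual.IsDualizing P Z)
    {η : ω ⟶ (DRing.restrictD (algebraMap R P)).obj Z} (hη : IsBC η) (p : PrimeSpectrum R)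
    [p.asIdeal.IsMaximal] (M : PrimeSpectrum P) [M.asIdeal.IsMaximal]
    (hM : M.asIdeal.comap (algebraMap R P) = p.asIdeal) : deg hZ M = deg hω p + n := by
  let J : Ideal P := p.asIdeal.map (algebraMap R P)
  letI : Field (R ⧸ p.asIdeal) := Ideal.Quotient.field _
  let e : MvPolynomial (Fin n) (R ⧸ p.asIdeal) ≃+* P ⧸ J :=
    (MvPolynomial.quotientEquivQuotientMvPolynomial p.asIdeal).toRingEquiv.trans
      (Ideal.quotEquivOfEq (show Ideal.map MvPolynomial.C p.asIdeal = J from rfl))
  haveI : IsDomain (P ⧸ J) := e.symm.toMulEquiv.isDomain _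
  haveI hJp : J.IsPrime := (Ideal.Quotient.isDomain_iff_prime J).1 inferInstance
  let Q : PrimeSpectrum P := ⟨J, hJp⟩
  have hJM : J ≤ M.asIdeal := Ideal.map_le_iff_le_comap.2 hM.ge
  have hJc : J.comap (algebraMap R P) = p.asIdeal :=
    le_antisymm (hM ▸ Ideal.comap_mono hJM) Ideal.le_comap_map
  have h1 := deg_fibre_generic hω hZ hη p Q rfl hJc
  have h2 := height_map_eq_deg_sub hZ Q M hJM
  haveI : (M.asIdeal.map (Ideal.Quotient.mk J)).IsMaximal :=
    (Ideal.map_eq_top_or_isMaximal_of_surjective _ Ideal.Quotient.mk_surjective inferInstance).resolve_left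
      fun htop => M.isPrime.ne_top (by
        rw [← sup_eq_left.2 ((Ideal.mk_ker (I := J)).le.trans hJM), ← Ideal.comap_map_of_surjective' _
          Ideal.Quotient.mk_surjective, htop, Ideal.comap_top])
  haveI : ((M.asIdeal.map (Ideal.Quotient.mk J)).comap e).IsMaximal :=
    Ideal.comap_isMaximal_of_surjective _ e.surjective
  have h3 : ((M.asIdeal.map (Ideal.Quotient.mk J)).comap e).height = n :=
    MaxHeight.mvPolynomial (R ⧸ p.asIdeal) n _
  rw [RingEquiv.height_comap] at h3
  have h4 : (deg hZ M - deg hZ Q).toNat = n := ENat.natCast_inj.1 (h2.symm.trans h3)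
  have h5 := (deg_strictMono hZ).monotone (show Q ≤ M from hJM)
  omega

end Poly

end ShriekRingLib
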