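import Mathlib
import Mathlib.RingTheory.RegularLocalRing.Polynomial
import Groth.Agent.LCILocusLib.Fibre
import Groth.Agent.LCILocusLib.Chart
import Groth.Agent.DualExtLib.Grade
import Groth.Agent.FibDimLib.Smooth
import Groth.Agent.FibDimLib.Formula
import Groth.Agent.TransLib.PointNhd
import Groth.Agent.FlatLib.SchemeFlat

/-!
# Regular sequences in the kernel of a presentation from the dimension of the fibre
-/

set_option autoImplicit false
set_option linter.all false
set_option maxHeartbeats 1000000

universe u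

open CategoryTheory AlgebraicGeometry
open RingTheory.Sequence
open scoped TensorProduct

noncomputable section

namespace ShriekRingLib

/-- Multiplying a weakly regular sequence by units keeps it weakly regular. -/
theorem isWeaklyRegular_of_smul_unit {T : Type u} [CommRing T] {α : Type*} (a b : α → T) (u : α → T)
    (hu : ∀ x, IsUnit (u x)) (hab : ∀ x, a x * u x = b x) (l : List α) (h : IsWeaklyRegular T (l.map a)) :
    IsWeaklyRegular T (l.map b) := by
  have hspan : ∀ l : List α, Ideal.ofList (l.map b) = Ideal.ofList (l.map a) := fun l => by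
    induction l with
    | nil => rfl
    | cons x l ih =>
      simp only [List.map_cons, Ideal.ofList_cons, ih]
      rw [← hab x, Ideal.span_singleton_mul_right_unit (hu x)]
  rw [isWeaklyRegular_iff] at h ⊢
  intro i hi
  have hi' : i < (l.map a).length := by simpa using hi
  have hi'' : i < l.length := by simpa using hi
  have h1 := h i hi'
  rw [List.getElem_map, ← List.map_take] at h1 ⊢
  rw [hspan, ← hab, mul_comm, IsSMulRegular.mul_iff_right]
  · exact h1
  · exact fun x y hxy => (hu _).smul_left_cancel.1 hxy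

theorem height_arith (a b : WithBot ℕ∞) (h : ℕ∞) (n d : ℕ) (h1 : (d : WithBot ℕ∞) = a + b)
    (h2 : a + (h : WithBot ℕ∞) = (n : WithBot ℕ∞)) (h3 : b ≤ (h : WithBot ℕ∞)) :
    b + ((n - d : ℕ) : WithBot ℕ∞) ≤ (h : WithBot ℕ∞) := by
  induction a with
  | bot => rw [WithBot.bot_add] at h1; exact absurd h1 (by simp)
  | coe a =>
    induction b with
    | bot => rw [WithBot.add_bot] at h1; exact absurd h1 (by simp)
    | coe b =>
      have h1' : (d : ℕ∞) = a + b := by exact_mod_cast h1
      have h2' : a + h = (n : ℕ∞) := by exact_mod_cast h2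
      have h3' : b ≤ h := by exact_mod_cast h3
      induction a with
      | top => simp at h1'
      | coe a =>
        induction b with
        | top => simp at h1'
        | coe b =>
          induction h with
          | top => simp at h2'
          | coe h =>
            have e1 : d = a + b := by exact_mod_cast h1'
            have e2 : a + h = n := by exact_mod_cast h2'
            have e3 : b ≤ h := by exact_mod_cast h3'
            have e4 : ((b + (n - d) : ℕ) : ℕ∞) ≤ (h : ℕ∞) := by exact_mod_cast (show b + (n - d) ≤ h by omega)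
            rw [Nat.cast_add] at e4
            exact WithBot.coe_le_coe.2 e4

/-- Inside a fibre: a surjection from a regular algebra of dimension `n`. -/
theorem exists_regular_field (k F G : Type u) [Field k] [CommRing F] [CommRing G] [Algebra k F] [Algebra k G]
    [Algebra.FiniteType k G] (n : ℕ) (e : F ≃ₐ[k] MvPolynomial (Fin n) k)
    (σ : F →+* G) (hσ : Function.Surjective σ) (Q : PrimeSpectrum G) (d : ℕ)
    (hd : FlatMor.localDim (PrimeSpectrum G) Q = d) :
    ∃ ys : List (Localization.AtPrime (Q.asIdeal.comap σ)), ys.length = n - d ∧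
      (∀ y ∈ ys, y ∈ (RingHom.ker σ).map (algebraMap F (Localization.AtPrime (Q.asIdeal.comap σ)))) ∧
      IsWeaklyRegular (Localization.AtPrime (Q.asIdeal.comap σ)) ys := by
  let QF₀ := Q.asIdeal.comap σ
  haveI : Algebra.FiniteType k F := Algebra.FiniteType.equiv inferInstance e.symm
  haveI : IsRegularRing F := IsRegularRing.of_ringEquiv e.toRingEquiv.symm
  haveI : IsDomain F := e.toRingEquiv.toMulEquiv.isDomain
  haveI : IsRegularLocalRing (Localization.AtPrime QF₀) := IsRegularRing.isRegularLocalRing_localization QF₀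
  have hM : Submonoid.map σ QF₀.primeCompl = Q.asIdeal.primeCompl := by
    ext a
    constructor
    · rintro ⟨x, hx, rfl⟩; exact hx
    · intro ha
      obtain ⟨x, rfl⟩ := hσ a
      exact ⟨x, ha, rfl⟩
  haveI : IsLocalization (QF₀.primeCompl.map σ) (Localization.AtPrime Q.asIdeal) := by
    rw [hM]; infer_instance
  let m : Localization.AtPrime QF₀ →+* Localization.AtPrime Q.asIdeal :=
    IsLocalization.map (Localization.AtPrime Q.asIdeal) σ QF₀.primeCompl.le_comap_map
  have hm : Function.Surjective m :=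
    IsLocalization.map_surjective_of_surjective QF₀.primeCompl (Localization.AtPrime QF₀) (Localization.AtPrime Q.asIdeal) hσ
  have hJ : RingHom.ker m = (RingHom.ker σ).map (algebraMap F (Localization.AtPrime QF₀)) :=
    IsLocalization.ker_map (Localization.AtPrime Q.asIdeal) (g := σ) rfl
  refine DualExtLib.exists_isWeaklyRegular_of_ringKrullDim_add_le _ (hJ ▸ RingHom.ker_ne_top m) (n - d) ?_
  have hle := ringKrullDim_le_of_surjective m hm
  rw [IsLocalization.AtPrime.ringKrullDim_eq_height QF₀ (Localization.AtPrime QF₀)] at hle ⊢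
  rw [ringKrullDim_eq_of_ringEquiv ((Ideal.quotEquivOfEq hJ.symm).trans (RingHom.quotientKerEquivOfSurjective hm))]
  have h1 : (d : WithBot ℕ∞) = ringKrullDim (G ⧸ Q.asIdeal) + ringKrullDim (Localization.AtPrime Q.asIdeal) :=
    hd.symm.trans (FibDimLib.localDim_eq_dim_add (k := k) (S := G) Q)
  have h2 := FibDimLib.ringKrullDim_quotient_add_height_affine (k := k) F QF₀
  rw [ringKrullDim_eq_of_ringEquiv e.toRingEquiv, MvPolynomial.ringKrullDim_of_isNoetherianRing,
    ringKrullDim_eq_zero_of_field, zero_add, Nat.card_fin] at h2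
  have h3 : ringKrullDim (F ⧸ QF₀) = ringKrullDim (G ⧸ Q.asIdeal) :=
    ringKrullDim_eq_of_ringEquiv (RingEquiv.ofBijective (Ideal.quotientMap Q.asIdeal σ le_rfl)
      ⟨Ideal.quotientMap_injective, Ideal.quotientMap_surjective hσ⟩)
  rw [h3] at h2
  exact height_arith _ _ _ n d h1 h2 hle

theorem mem_map_comp {P F G T : Type u} [CommRing P] [CommRing F] [CommRing G] [CommRing T] (σ : F →+* G)
    (ι : P →+* F) (I : Ideal P) (f : F →+* T) (h : RingHom.ker σ = I.map ι) {y : T}
    (hy : y ∈ (RingHom.ker σ).map f) : y ∈ I.map (f.comp ι) := by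
  rw [h, Ideal.map_map] at hy
  exact hy

theorem ker_map_id {R K P A : Type u} [CommRing R] [CommRing K] [CommRing P] [CommRing A] [Algebra R K]
    [Algebra R P] [Algebra R A] (ψ : P →ₐ[R] A) (hψ : Function.Surjective ψ) :
    RingHom.ker (Algebra.TensorProduct.map (AlgHom.id R K) ψ).toRingHom =
      (RingHom.ker ψ.toRingHom).map (Algebra.TensorProduct.includeRight : P →ₐ[R] K ⊗[R] P).toRingHom :=
  Algebra.TensorProduct.lTensor_ker ψ hψ

theorem lift_ker {P F G T : Type u} [CommRing P] [CommRing F] [CommRing G] [CommRing T] (σ : F →+* G)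
    (ι : P →+* F) (I : Ideal P) (f : F →+* T) (h : RingHom.ker σ = I.map ι) (M : Submonoid P)
    (hd : ∀ z, ∃ s ∈ M, ∃ x, z * f.comp ι s = f.comp ι x) (hu : ∀ s ∈ M, IsUnit (f.comp ι s)) {y : T}
    (hy : y ∈ (RingHom.ker σ).map f) : ∃ (x : P) (v : T), x ∈ I ∧ IsUnit v ∧ y * v = f.comp ι x := by
  obtain ⟨s, hs, x, hx, hxs⟩ := TransLib.exists_of_mem_map (f.comp ι) M hd (mem_map_comp σ ι I f h hy)
  exact ⟨x, f.comp ι s, hx, hu s hs, hxs⟩

/-- Regular sequences in the kernel, from the dimension of the fibre. -/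
theorem exists_regular_ker_aux (R P A : Type u) [CommRing R] [CommRing P] [CommRing A] [IsNoetherianRing R]
    [IsNoetherianRing A] [Algebra R P] [Module.Flat R P] [Algebra.FinitePresentation R P]
    [Algebra R A] (n : ℕ)
    (efib : ∀ (p : Ideal R) [p.IsPrime], p.Fiber P ≃ₐ[p.ResidueField] MvPolynomial (Fin n) p.ResidueField)
    (ψ : P →ₐ[R] A) (hψ : Function.Surjective ψ)
    (q : PrimeSpectrum A) (d : ℕ)
    (hd : FlatMor.fibreDimAt (Spec.map (CommRingCat.ofHom (algebraMap R A))) q = d) :
    ∃ xs : List P, xs.length = n - d ∧ (∀ x ∈ xs, ψ x = 0) ∧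
      IsWeaklyRegular (Localization.AtPrime (q.asIdeal.comap ψ.toRingHom))
        (xs.map (algebraMap _ (Localization.AtPrime (q.asIdeal.comap ψ.toRingHom)))) := by
  obtain ⟨Q, hQ, hQd⟩ := FibDimLib.fibreDimAt_specMap R A q
  rw [hd] at hQd
  haveI : Algebra.FiniteType R A := Algebra.FiniteType.of_surjective ψ hψ
  obtain ⟨Qp, hQpP, hQp⟩ : ∃ (Qp : Ideal P) (_ : Qp.IsPrime), Qp = q.asIdeal.comap ψ.toRingHom :=
    ⟨_, inferInstance, rfl⟩
  have hp : (PrimeSpectrum.comap (algebraMap R A) q).asIdeal = Qp.comap (algebraMap R P) := by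
    subst hQp
    ext r
    show algebraMap R A r ∈ q.asIdeal ↔ ψ (algebraMap R P r) ∈ q.asIdeal
    rw [ψ.commutes]
  suffices key : ∀ (p : Ideal R) [p.IsPrime], p = Qp.comap (algebraMap R P) →
      ∀ Q : PrimeSpectrum (p.Fiber A),
        Q.asIdeal.comap (Algebra.TensorProduct.includeRight : A →ₐ[R] p.Fiber A).toRingHom = q.asIdeal →
        FlatMor.localDim (PrimeSpectrum (p.Fiber A)) Q = d →
        ∃ xs : List P, xs.length = n - d ∧ (∀ x ∈ xs, ψ x = 0) ∧
          IsWeaklyRegular (Localization.AtPrime Qp) (xs.map (algebraMap _ (Localization.AtPrime Qp))) by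
    subst hQp
    exact key _ hp Q hQ hQd
  intro p _ hp' Q hQ hQd
  subst hp'
  let σ : (Qp.comap (algebraMap R P)).Fiber P →ₐ[R] (Qp.comap (algebraMap R P)).Fiber A :=
    Algebra.TensorProduct.map (AlgHom.id R (Qp.comap (algebraMap R P)).ResidueField) ψ
  have hσ : Function.Surjective σ := by
    intro z
    induction z using TensorProduct.induction_on with
    | zero => exact ⟨0, map_zero σ⟩
    | tmul c a =>
      obtain ⟨x, rfl⟩ := hψ a
      exact ⟨c ⊗ₜ x, rfl⟩
    | add x y hx hy =>
      obtain ⟨x', rfl⟩ := hx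
      obtain ⟨y', rfl⟩ := hy
      exact ⟨x' + y', map_add σ _ _⟩
  obtain ⟨ys, hyl, hyJ, hyreg⟩ := exists_regular_field (Qp.comap (algebraMap R P)).ResidueField _ _ n (efib _)
    σ.toRingHom hσ Q d hQd
  have hQF : (Q.asIdeal.comap σ.toRingHom).comap
      (Algebra.TensorProduct.includeRight : P →ₐ[R] (Qp.comap (algebraMap R P)).Fiber P).toRingHom = Qp := by
    ext x
    have h1 : σ (1 ⊗ₜ x) = 1 ⊗ₜ ψ x := rfl
    show σ (1 ⊗ₜ x) ∈ Q.asIdeal ↔ x ∈ Qp
    rw [h1]
    exact (Ideal.ext_iff.1 hQ (ψ x)).trans (Ideal.ext_iff.1 hQp x).symm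
  let τ := RelRegLib.toFib Qp (Q.asIdeal.comap σ.toRingHom)
  have hd' := fun z => RelRegLib.toFib_dense Qp (Q.asIdeal.comap σ.toRingHom) hQF z
  have hu' := fun (s : P) (hs : s ∈ Qp.primeCompl) => RelRegLib.toFib_isUnit Qp (Q.asIdeal.comap σ.toRingHom) hQF (s := s) hs
  have hk := ker_map_id (K := (Qp.comap (algebraMap R P)).ResidueField) ψ hψ
  have hlift : ∀ y ∈ ys, ∃ (x : P) (v : Localization.AtPrime (Q.asIdeal.comap σ.toRingHom)),
      x ∈ RingHom.ker ψ.toRingHom ∧ IsUnit v ∧ y * v = τ x := fun y hy =>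
    lift_ker σ.toRingHom _ (RingHom.ker ψ.toRingHom) (algebraMap _ _) hk Qp.primeCompl hd' hu' (hyJ y hy)
  choose! x v hx hv hxv using hlift
  let xs := ys.attach.map fun y => x y.1
  have hreg : IsWeaklyRegular (Localization.AtPrime (Q.asIdeal.comap σ.toRingHom)) (xs.map τ) := by
    rw [List.map_map]
    refine isWeaklyRegular_of_smul_unit (fun y : {y // y ∈ ys} => y.1) _ (fun y => v y.1) (fun y => hv _ y.2)
      (fun y => hxv _ y.2) ys.attach ?_
    rw [List.attach_map_subtype_val]
    exact hyreg
  obtain ⟨g, hg, hgreg⟩ := LCILocusLib.exists_isWeaklyRegular_near (A := R) Qp (Q.asIdeal.comap σ.toRingHom) hQF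
    ((FlatLib.mem_flatLocus_self_iff _).2 (Module.Flat.trans R P _)) xs (fun b hb => by
      obtain ⟨y, -, rfl⟩ := List.mem_map.1 hb
      refine (Ideal.ext_iff.1 hQp (x y.1)).2 ?_
      show ψ (x y.1) ∈ q.asIdeal
      rw [show ψ (x y.1) = 0 from hx _ y.2]
      exact Ideal.zero_mem _) hreg
  refine ⟨xs, (List.length_map _).trans (List.length_attach.trans hyl), fun b hb => ?_, ?_⟩
  · obtain ⟨y, -, rfl⟩ := List.mem_map.1 hb
    exact hx _ y.2
  · let B := Localization.AtPrime Qp
    letI : Algebra (Localization.Away g) B :=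
      (IsLocalization.Away.lift g (IsLocalization.map_units B (⟨g, hg⟩ : Qp.primeCompl))).toAlgebra
    haveI : IsScalarTower P (Localization.Away g) B :=
      IsScalarTower.of_algebraMap_eq fun z => (IsLocalization.Away.lift_eq g _ z).symm
    haveI : Module.Flat (Localization.Away g) B :=
      (Module.flat_iff_of_isLocalization (Localization.Away g) (Submonoid.powers g) B).mpr inferInstance
    have := hgreg.of_flat (S := B)
    rw [List.map_map] at this
    rwa [show ((algebraMap (Localization.Away g) B) ∘ (algebraMap P (Localization.Away g))) = algebraMap P B from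
      funext fun z => (IsScalarTower.algebraMap_apply P (Localization.Away g) B z).symm] at this

/-- Regular sequences in the kernel of a presentation, from the dimension of the fibre. -/
theorem exists_regular_ker (R A : Type u) [CommRing R] [CommRing A] [IsNoetherianRing R] [IsNoetherianRing A]
    [Algebra R A] (n : ℕ) (ψ : MvPolynomial (Fin n) R →ₐ[R] A) (hψ : Function.Surjective ψ)
    (q : PrimeSpectrum A) (d : ℕ)
    (hd : FlatMor.fibreDimAt (Spec.map (CommRingCat.ofHom (algebraMap R A))) q = d) :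
    ∃ xs : List (MvPolynomial (Fin n) R), xs.length = n - d ∧ (∀ x ∈ xs, ψ x = 0) ∧
      IsWeaklyRegular (Localization.AtPrime (q.asIdeal.comap ψ.toRingHom))
        (xs.map (algebraMap _ (Localization.AtPrime (q.asIdeal.comap ψ.toRingHom)))) :=
  exists_regular_ker_aux R _ A n (fun p _ => MvPolynomial.algebraTensorAlgEquiv (σ := Fin n) R p.ResidueField)
    ψ hψ q d hd

end ShriekRingLib
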