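import Groth.Agent.ShriekRingLib.Step
import Groth.Agent.ShriekRingLib.Iso
import Groth.Agent.ShriekRingLib.Basic
import Mathlib.RingTheory.IntegralClosure.Algebra.Basic
import Mathlib.Algebra.Polynomial.Lifts

/-!
# Killing several variables, and the independence of the presentation
-/

set_option autoImplicit false
set_option linter.all false
set_option maxHeartbeats 1000000

universe u

open CategoryTheory CategoryTheory.Limits
open Groth.Agent DTen

attribute [local instance] HasDerivedCategory.standard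

noncomputable section

namespace ShriekRingLib

open FinDualLib Groth.Agent.DualCxLib

section

variable {A B : Type u} [CommRing A] [CommRing B]

/-- Shifting twice. -/
def shiftAddIso (X : Dual.D A) (a b c : ℤ) (h : a + b = c) : (X⟦a⟧)⟦b⟧ ≅ X⟦c⟧ :=
  ((shiftFunctorAdd' (Dual.D A) a b c h).app X).symm

end

theorem exists_poly (n : ℕ) : ∀ {R A : Type u} [CommRing R] [CommRing A]
    (τ : MvPolynomial (Fin n) R →+* A),
    (∀ i, (τ.comp (algebraMap R (MvPolynomial (Fin n) R))).IsIntegralElem (τ (MvPolynomial.X i))) →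
    ∀ {L : Dual.D R} {E : Dual.D (MvPolynomial (Fin n) R)}
      {η : L ⟶ (DRing.restrictD (algebraMap R (MvPolynomial (Fin n) R))).obj E},
      IsUniv (algebraMap R (MvPolynomial (Fin n) R)) η →
    ∀ {Z : Dual.D A} {ε : (DRing.restrictD (τ.comp (algebraMap R (MvPolynomial (Fin n) R)))).obj Z ⟶ L},
      IsCoUniv (τ.comp (algebraMap R (MvPolynomial (Fin n) R))) ε →
      ∃ ε' : (DRing.restrictD τ).obj Z ⟶ E⟦(n : ℤ)⟧, IsCoUniv τ ε' := by
  induction n with
  | zero =>
    intro R A _ _ τ _ L E η hη Z ε hε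
    let e : R ≃+* MvPolynomial (Fin 0) R := (MvPolynomial.isEmptyAlgEquiv R (Fin 0)).symm.toRingEquiv
    have he : e.toRingHom = algebraMap R (MvPolynomial (Fin 0) R) :=
      RingHom.ext fun r => (MvPolynomial.isEmptyAlgEquiv R (Fin 0)).symm.commutes r
    rw [← he] at *
    clear he
    obtain ⟨E₀, ⟨i₀⟩⟩ := exists_res_iso e L
    obtain ⟨k, -⟩ := exists_iso_univ (isUniv_of_iso e i₀.symm) hη
    have j : (DRing.restrictD e.symm.toRingHom).obj L ≅ E :=
      (DRing.restrictD e.symm.toRingHom).mapIso (i₀.symm ≪≫ (DRing.restrictD e.toRingHom).mapIso k) ≪≫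
        (resDEquiv e).unitIso.symm.app E
    have h2 : ((τ.comp e.toRingHom)).comp e.symm.toRingHom = τ := RingHom.ext fun p =>
      congrArg τ (e.apply_symm_apply p)
    exact ⟨_, (isCoUniv_comp h2 (isCoUniv_of_iso e.symm j) hε).postcomp _
      ((shiftFunctorZero' (Dual.D _) ((0 : ℕ) : ℤ) rfl).app E).symm⟩
  | succ n ih =>
    intro R A _ _ τ hint L E η hη Z ε hε
    let P := MvPolynomial (Fin n) R
    let e : MvPolynomial (Fin (n + 1)) R ≃+* Polynomial P := (MvPolynomial.finSuccEquiv R n).toRingEquiv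
    let τB : Polynomial P →+* A := τ.comp e.symm.toRingHom
    let τn : P →+* A := τB.comp (algebraMap P (Polynomial P))
    have hR : (algebraMap P (Polynomial P)).comp (algebraMap R P) = algebraMap R (Polynomial P) :=
      (IsScalarTower.algebraMap_eq R P (Polynomial P)).symm
    have heC : e.symm.toRingHom.comp (algebraMap R (Polynomial P)) = algebraMap R (MvPolynomial (Fin (n + 1)) R) :=
      RingHom.ext fun r => (MvPolynomial.finSuccEquiv R n).symm.commutes r
    have hτn : τn.comp (algebraMap R P) = τ.comp (algebraMap R (MvPolynomial (Fin (n + 1)) R)) := by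
      rw [← heC, RingHom.comp_assoc, hR, RingHom.comp_assoc]
    have hX : ∀ j : Fin n, τn (MvPolynomial.X j) = τ (MvPolynomial.X j.succ) := fun j => by
      show τ (e.symm (Polynomial.C (MvPolynomial.X j))) = _
      rw [← MvPolynomial.finSuccEquiv_X_succ]
      exact congrArg τ ((MvPolynomial.finSuccEquiv R n).symm_apply_apply _)
    obtain ⟨En, ηn, hηn⟩ := exists_univ (A := R) (B := P) L
    have ih' : ∀ θ : R →+* A, τn.comp (algebraMap R P) = θ → (∀ j, θ.IsIntegralElem (τn (MvPolynomial.X j))) →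
        ∀ {ε : (DRing.restrictD θ).obj Z ⟶ L}, IsCoUniv θ ε →
          ∃ εn : (DRing.restrictD τn).obj Z ⟶ En⟦(n : ℤ)⟧, IsCoUniv τn εn := by
      rintro θ rfl h ε hε
      exact ih τn h hηn hε
    obtain ⟨εn, hεn⟩ := ih' _ hτn (fun j => by rw [hX]; exact hint j.succ) hε
    obtain ⟨E₁, η₁, hη₁⟩ := exists_univ (A := P) (B := Polynomial P) En
    obtain ⟨g, hgm, hg⟩ : ∃ g : Polynomial P, g.Monic ∧ τB g = 0 := by
      obtain ⟨p, hp, hpe⟩ := hint 0
      let y : A := τB Polynomial.X
      have hy : τ (MvPolynomial.X 0) = y := by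
        show _ = τ (e.symm Polynomial.X)
        rw [← MvPolynomial.finSuccEquiv_X_zero]
        exact congrArg τ ((MvPolynomial.finSuccEquiv R n).symm_apply_apply _).symm
      refine ⟨p.map (algebraMap R P), hp.map _, ?_⟩
      have hh : τB = Polynomial.eval₂RingHom τn y := Polynomial.ringHom_ext
        (fun b => (Polynomial.eval₂_C τn y).symm) (Polynomial.eval₂_X τn y).symm
      rw [hh, Polynomial.coe_eval₂RingHom, Polynomial.eval₂_map, hτn, ← hy]
      exact hpe
    obtain ⟨ε₁, hε₁⟩ := exists_step hgm τB hg (isUniv_shift hη₁ (n : ℤ)) hεn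
    obtain ⟨W, ⟨i⟩⟩ := exists_res_iso e.symm E₁
    obtain ⟨k, -⟩ := exists_iso_univ (isUniv_comp heC (isUniv_comp hR hηn hη₁) (isUniv_of_iso e.symm i.symm)) hη
    let j₀ : (DRing.restrictD e.toRingHom).obj E₁ ≅ W :=
      (DRing.restrictD e.toRingHom).mapIso i.symm ≪≫ (resDEquiv e.symm).unitIso.symm.app W
    let j : (DRing.restrictD e.toRingHom).obj ((E₁⟦(n : ℤ)⟧)⟦(1 : ℤ)⟧) ≅ E⟦((n + 1 : ℕ) : ℤ)⟧ :=
      (DRing.restrictD e.toRingHom).mapIso (shiftAddIso E₁ (n : ℤ) 1 ((n + 1 : ℕ) : ℤ) (by push_cast; ring)) ≪≫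
        ((DRing.restrictD e.toRingHom).commShiftIso ((n + 1 : ℕ) : ℤ)).app E₁ ≪≫
          (shiftFunctor _ ((n + 1 : ℕ) : ℤ)).mapIso (j₀ ≪≫ k)
    have h2 : τB.comp e.toRingHom = τ := RingHom.ext fun p => congrArg τ (e.symm_apply_apply p)
    exact ⟨_, isCoUniv_comp h2 (isCoUniv_of_iso e j) hε₁⟩

end ShriekRingLib
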