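import Mathlib

/-!
# The residue pairing of a monic polynomial and the characteristic sequence
-/

set_option autoImplicit false
set_option linter.all false
set_option maxHeartbeats 1000000

universe u

open scoped TensorProduct Polynomial

noncomputable section

namespace ShriekRingLib

open Polynomial

variable {B : Type u} [CommRing B] {f : B[X]} (hf : f.Monic)

/-- The residue functional. -/
def res : AdjoinRoot f →ₗ[B] B := (Polynomial.lcoeff B (f.natDegree - 1)).comp (AdjoinRoot.modByMonicHom hf)

theorem res_root_pow {e : ℕ} (he : e < f.natDegree) :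
    res hf (AdjoinRoot.root f ^ e) = if e = f.natDegree - 1 then 1 else 0 := by
  nontriviality B
  show ((AdjoinRoot.modByMonicHom hf) (AdjoinRoot.root f ^ e)).coeff _ = _
  rw [show AdjoinRoot.root f ^ e = AdjoinRoot.mk f (X ^ e) by rw [map_pow, AdjoinRoot.mk_X],
    AdjoinRoot.modByMonicHom_mk, (Polynomial.modByMonic_eq_self_iff hf).2, coeff_X_pow]
  · simp [eq_comm]
  · rw [degree_X_pow, degree_eq_natDegree hf.ne_zero]
    exact_mod_cast he

/-- The lift of the dual basis of the powers of the root. -/
def dualPoly (f : B[X]) (k : ℕ) : B[X] :=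
  ∑ j ∈ Finset.Ioc k f.natDegree, f.coeff j • X ^ (j - k - 1)

/-- The dual basis of the powers of the root. -/
def dual (f : B[X]) (k : ℕ) : AdjoinRoot f := AdjoinRoot.mk f (dualPoly f k)

include hf in
theorem res_dual_mul {k i : ℕ} (hk : k < f.natDegree) (hi : i < f.natDegree) :
    res hf (dual f k * AdjoinRoot.root f ^ i) = if i = k then 1 else 0 := by
  set r := AdjoinRoot.root f with hr
  set d := f.natDegree with hd
  have hdual : dual f k * r ^ i = ∑ j ∈ Finset.Ioc k d, f.coeff j • r ^ (j - k - 1 + i) := by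
    rw [dual, dualPoly, map_sum, Finset.sum_mul]
    refine Finset.sum_congr rfl fun j _ => ?_
    rw [Polynomial.smul_eq_C_mul, map_mul, map_pow, AdjoinRoot.mk_X, AdjoinRoot.mk_C, Algebra.smul_def,
      pow_add, mul_assoc]
    rfl
  rcases le_or_gt i k with hik | hik
  · rw [hdual, map_sum]
    rw [Finset.sum_eq_single d]
    · rw [map_smul, res_root_pow hf (e := d - k - 1 + i) (by omega), hd, hf.coeff_natDegree, one_smul]
      by_cases h : i = k
      · rw [if_pos h, if_pos (by omega)]
      · rw [if_neg h, if_neg (by omega)]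
    · intro j hj hjd
      rw [Finset.mem_Ioc] at hj
      rw [map_smul, res_root_pow hf (e := j - k - 1 + i) (by omega), if_neg (by omega), smul_zero]
    · intro h
      exact absurd (Finset.mem_Ioc.2 ⟨hk, le_rfl⟩) h
  · have htot : ∑ j ∈ Finset.range (d + 1), f.coeff j • r ^ j = 0 := by
      have h : aeval r f = ∑ j ∈ Finset.range (d + 1), f.coeff j • r ^ j := aeval_eq_sum_range (S := AdjoinRoot f) r
      rw [← h, hr, AdjoinRoot.aeval_eq, AdjoinRoot.mk_self]
    have hsplit : ∑ j ∈ Finset.Ioc k d, f.coeff j • r ^ j = -∑ j ∈ Finset.range (k + 1), f.coeff j • r ^ j := by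
      refine eq_neg_of_add_eq_zero_right ?_
      rw [← Finset.sum_union (Finset.disjoint_left.2 fun j h1 h2 => by
        rw [Finset.mem_range] at h1; rw [Finset.mem_Ioc] at h2; omega)]
      convert htot using 2
      ext j
      simp only [Finset.mem_union, Finset.mem_range, Finset.mem_Ioc]
      omega
    rw [hdual, show (∑ j ∈ Finset.Ioc k d, f.coeff j • r ^ (j - k - 1 + i)) =
        (∑ j ∈ Finset.Ioc k d, f.coeff j • r ^ j) * r ^ (i - k - 1) from by
      rw [Finset.sum_mul]
      refine Finset.sum_congr rfl fun j hj => ?_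
      rw [Finset.mem_Ioc] at hj
      rw [smul_mul_assoc, ← pow_add]
      congr 2
      omega, hsplit, neg_mul, map_neg, Finset.sum_mul, map_sum, if_neg (by omega), neg_eq_zero]
    refine Finset.sum_eq_zero fun j hj => ?_
    rw [Finset.mem_range] at hj
    rw [smul_mul_assoc, ← pow_add, map_smul, res_root_pow hf (e := j + (i - k - 1)) (by omega),
      if_neg (by omega), smul_zero]

include hf in
theorem linearMap_ext_root {N : Type*} [AddCommGroup N] [Module B N] {g g' : AdjoinRoot f →ₗ[B] N}
    (h : ∀ i < f.natDegree, g (AdjoinRoot.root f ^ i) = g' (AdjoinRoot.root f ^ i)) : g = g' :=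
  (AdjoinRoot.powerBasis' hf).basis.ext fun i => by
    rw [PowerBasis.coe_basis]
    exact h i.1 i.2

include hf in
/-- The two bases reproduce. -/
theorem eq_sum_root (c : AdjoinRoot f) :
    c = ∑ k ∈ Finset.range f.natDegree, res hf (c * dual f k) • AdjoinRoot.root f ^ k := by
  have key : LinearMap.id = ∑ k ∈ Finset.range f.natDegree,
      ((res hf).comp (LinearMap.mulRight B (dual f k))).smulRight (AdjoinRoot.root f ^ k) := by
    refine linearMap_ext_root hf fun i hi => ?_
    simp only [LinearMap.id_coe, id_eq, LinearMap.coe_sum, Finset.sum_apply, LinearMap.smulRight_apply,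
      LinearMap.comp_apply, LinearMap.mulRight_apply]
    rw [Finset.sum_eq_single i]
    · rw [mul_comm, res_dual_mul hf hi hi, if_pos rfl, one_smul]
    · intro k hk hki
      rw [Finset.mem_range] at hk
      rw [mul_comm, res_dual_mul hf hk hi, if_neg (Ne.symm hki), zero_smul]
    · intro h
      exact absurd (Finset.mem_range.2 hi) h
  simpa using congr($key c)

include hf in
theorem eq_sum_dual (c : AdjoinRoot f) :
    c = ∑ k ∈ Finset.range f.natDegree, res hf (AdjoinRoot.root f ^ k * c) • dual f k := by
  have hnd : ∀ x, (∀ c', res hf (c' * x) = 0) → x = 0 := fun x hx => by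
    rw [eq_sum_root hf x]
    refine Finset.sum_eq_zero fun k _ => ?_
    rw [mul_comm, hx, zero_smul]
  refine sub_eq_zero.1 (hnd _ fun c' => ?_)
  rw [mul_sub, map_sub, Finset.mul_sum, map_sum, sub_eq_zero]
  have h : ∀ k, res hf (c' * res hf (AdjoinRoot.root f ^ k * c) • dual f k) =
      res hf ((res hf (c' * dual f k) • AdjoinRoot.root f ^ k) * c) := fun k => by
    simp only [mul_smul_comm, smul_mul_assoc, map_smul, smul_eq_mul]
    ring
  simp_rw [h]
  rw [← map_sum, ← Finset.sum_mul, ← eq_sum_root hf c']

section Tensor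

variable (M : Type u) [AddCommGroup M] [Module B M]

/-- The residue map on a tensor product. -/
def resQ : B[X] ⊗[B] M →ₗ[B] (AdjoinRoot f →ₗ[B] M) :=
  TensorProduct.lift
    (LinearMap.mk₂ B (fun p m => ((res hf).comp (LinearMap.mulRight B (AdjoinRoot.mk f p))).smulRight m)
      (fun p q m => by ext c; simp [mul_add, add_smul])
      (fun b p m => by
        ext c
        show res hf (c * AdjoinRoot.mk f (b • p)) • m = b • res hf (c * AdjoinRoot.mk f p) • m
        rw [← AdjoinRoot.smul_mk, mul_smul_comm, map_smul, smul_eq_mul, mul_smul])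
      (fun p m m' => by ext c; simp)
      (fun b p m => by ext c; simp [smul_comm b]))

theorem resQ_tmul (p : B[X]) (m : M) (c : AdjoinRoot f) :
    resQ hf M (p ⊗ₜ m) c = res hf (c * AdjoinRoot.mk f p) • m := rfl

/-- The section of the residue map. -/
def resS : (AdjoinRoot f →ₗ[B] M) →ₗ[B] B[X] ⊗[B] M :=
  ∑ k ∈ Finset.range f.natDegree, ((TensorProduct.mk B B[X] M) (dualPoly f k)).comp
    (LinearMap.applyₗ (AdjoinRoot.root f ^ k))

theorem resS_apply (g : AdjoinRoot f →ₗ[B] M) :
    resS M g = ∑ k ∈ Finset.range f.natDegree, dualPoly f k ⊗ₜ[B] g (AdjoinRoot.root f ^ k) := by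
  simp [resS]

theorem resQ_resS (g : AdjoinRoot f →ₗ[B] M) : resQ hf M (resS M g) = g := by
  ext c
  rw [resS_apply, map_sum, LinearMap.sum_apply]
  simp only [resQ_tmul]
  conv_rhs => rw [eq_sum_root hf c]
  rw [map_sum]
  exact Finset.sum_congr rfl fun k _ => (map_smul g _ _).symm

theorem resQ_mul (z : B[X] ⊗[B] M) : resQ hf M ((LinearMap.mulLeft B f).rTensor M z) = 0 := by
  induction z using TensorProduct.induction_on with
  | zero => rw [map_zero, map_zero]
  | tmul p m => ext c; simp [resQ_tmul]
  | add x y hx hy => rw [map_add, map_add, hx, hy, add_zero]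

theorem sub_resS_mem (z : B[X] ⊗[B] M) :
    ∃ w, (LinearMap.mulLeft B f).rTensor M w = z - resS M (resQ hf M z) := by
  induction z using TensorProduct.induction_on with
  | zero => exact ⟨0, by simp⟩
  | tmul p m =>
    obtain ⟨h, hh⟩ : f ∣ p - ∑ k ∈ Finset.range f.natDegree,
        res hf (AdjoinRoot.root f ^ k * AdjoinRoot.mk f p) • dualPoly f k := by
      rw [← AdjoinRoot.mk_eq_zero, map_sub, map_sum, sub_eq_zero]
      refine (eq_sum_dual hf _).trans (Finset.sum_congr rfl fun k _ => ?_)
      rw [← AdjoinRoot.smul_mk]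
      rfl
    refine ⟨h ⊗ₜ m, ?_⟩
    rw [LinearMap.rTensor_tmul, LinearMap.mulLeft_apply, ← hh, resS_apply, TensorProduct.sub_tmul,
      TensorProduct.sum_tmul]
    simp only [resQ_tmul, TensorProduct.smul_tmul]
  | add x y hx hy =>
    obtain ⟨v, hv⟩ := hx
    obtain ⟨w, hw⟩ := hy
    exact ⟨v + w, by rw [map_add, hv, hw, map_add, map_add]; abel⟩

include hf in
theorem injective_mul : Function.Injective ((LinearMap.mulLeft B f).rTensor M) := by
  let r : B[X] →ₗ[B] B[X] :=
    { toFun := fun p => p /ₘ f
      map_add' := fun p q => by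
        nontriviality B
        refine (div_modByMonic_unique (p /ₘ f + q /ₘ f) (p %ₘ f + q %ₘ f) hf ⟨?_, ?_⟩).1
        · conv_rhs => rw [← modByMonic_add_div p f, ← modByMonic_add_div q f]
          ring
        · exact (degree_add_le _ _).trans_lt (max_lt (degree_modByMonic_lt _ hf) (degree_modByMonic_lt _ hf))
      map_smul' := fun b p => by
        nontriviality B
        refine (div_modByMonic_unique (b • (p /ₘ f)) (b • (p %ₘ f)) hf ⟨?_, ?_⟩).1
        · conv_rhs => rw [← modByMonic_add_div p f]
          rw [smul_add, mul_smul_comm]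
        · exact (degree_smul_le _ _).trans_lt (degree_modByMonic_lt _ hf) }
  refine Function.LeftInverse.injective (g := r.rTensor M) fun z => ?_
  rw [← LinearMap.comp_apply, ← LinearMap.rTensor_comp, show r.comp (LinearMap.mulLeft B f) = LinearMap.id from
    LinearMap.ext fun p => mul_divByMonic_cancel_left p hf, LinearMap.rTensor_id, LinearMap.id_apply]

end Tensor

section Char

variable (V : Type u) [AddCommGroup V] [Module B V] (a : V →ₗ[B] V)

/-- The characteristic map. -/
def charChi : B[X] ⊗[B] V →ₗ[B] B[X] ⊗[B] V :=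
  (LinearMap.mulLeft B (X : B[X])).rTensor V - a.lTensor B[X]

/-- The contraction. -/
def charRho : ℕ → (V →ₗ[B] B[X] ⊗[B] V)
  | 0 => 0
  | i + 1 => (TensorProduct.mk B B[X] V) (X ^ i) + (charRho i).comp a

/-- The contraction on the tensor product. -/
def charR : B[X] ⊗[B] V →ₗ[B] B[X] ⊗[B] V :=
  TensorProduct.lift ((Polynomial.basisMonomials B).constr B (charRho V a))

theorem charR_tmul (i : ℕ) (v : V) : charR V a ((X ^ i) ⊗ₜ v) = charRho V a i v := by
  have h : (X ^ i : B[X]) = Polynomial.basisMonomials B i := by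
    rw [Polynomial.coe_basisMonomials]
    exact (Polynomial.monomial_one_right_eq_X_pow i).symm
  rw [charR, TensorProduct.lift.tmul, h, Module.Basis.constr_basis]

theorem tensor_ext {N : Type*} [AddCommGroup N] [Module B N] {g g' : B[X] ⊗[B] V →ₗ[B] N}
    (h : ∀ i v, g ((X ^ i) ⊗ₜ v) = g' ((X ^ i) ⊗ₜ v)) : g = g' :=
  TensorProduct.ext ((Polynomial.basisMonomials B).ext fun i => LinearMap.ext fun v => by
    simpa [Polynomial.coe_basisMonomials, Polynomial.monomial_one_right_eq_X_pow] using h i v)

theorem charR_charChi : (charR V a).comp (charChi V a) = LinearMap.id :=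
  tensor_ext V fun i v => by
    simp only [LinearMap.comp_apply, charChi, LinearMap.sub_apply, LinearMap.rTensor_tmul,
      LinearMap.mulLeft_apply, LinearMap.lTensor_tmul, map_sub, ← pow_succ', charR_tmul, LinearMap.id_apply]
    show (X ^ i) ⊗ₜ v + charRho V a i (a v) - _ = _
    abel

theorem charChi_charR (ev : B[X] ⊗[B] V →ₗ[B] V) (h1 : ∀ v, ev (1 ⊗ₜ v) = v)
    (hX : ∀ i v, ev ((X ^ (i + 1)) ⊗ₜ v) = ev ((X ^ i) ⊗ₜ a v)) :
    (charChi V a).comp (charR V a) + ((TensorProduct.mk B B[X] V) 1).comp ev = LinearMap.id :=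
  tensor_ext V fun i => by
    induction i with
    | zero =>
      intro v
      simp only [LinearMap.add_apply, LinearMap.comp_apply, charR_tmul, LinearMap.id_apply]
      show charChi V a 0 + _ = _
      rw [map_zero, zero_add, TensorProduct.mk_apply, pow_zero, h1]
    | succ i ih =>
      intro v
      have h := ih (a v)
      simp only [LinearMap.add_apply, LinearMap.comp_apply, charR_tmul, LinearMap.id_apply,
        TensorProduct.mk_apply] at h ⊢
      show charChi V a ((X ^ i) ⊗ₜ v + charRho V a i (a v)) + _ = _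
      rw [hX, map_add, add_assoc, h]
      simp [charChi, ← pow_succ']

end Char

end ShriekRingLib
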