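import Groth.Agent.ShriekRingLib.PolyAlg
import Groth.Agent.FlatExtLib.Unit
import Groth.Agent.FinDualLib.CoUniv

/-!
# The residue sequence and the characteristic sequence on modules
-/

set_option autoImplicit false
set_option linter.all false
set_option maxHeartbeats 1000000

universe u

open CategoryTheory CategoryTheory.Limits
open Groth.Agent
open scoped TensorProduct Polynomial

attribute [local instance] HasDerivedCategory.standard

noncomputable section

namespace ShriekRingLib

open Groth.Agent.DualCxLib

variable {B : Type u} [CommRing B]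

local notation "φ" => algebraMap B B[X]

/-- Extension of scalars to the polynomial ring. -/
abbrev extP (M : ModuleCat.{u} B) : ModuleCat.{u} B[X] := (ModuleCat.extendScalars.{u, u, u} φ).obj M

/-- The underlying module. -/
abbrev eP (M : ModuleCat.{u} B) :
    ((ModuleCat.restrictScalars.{u} φ).obj (extP M) : Type u) ≃ₗ[B] B[X] ⊗[B] M :=
  extEquiv (A := B) (S := B[X]) M

/-- Elements of the extension as tensors. -/
def toT (M : ModuleCat.{u} B) (z : extP M) : B[X] ⊗[B] M :=
  eP M (show ((ModuleCat.restrictScalars.{u} φ).obj (extP M) : Type u) from z)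

/-- Tensors as elements of the extension. -/
def ofT (M : ModuleCat.{u} B) (w : B[X] ⊗[B] M) : extP M :=
  show (extP M : Type u) from (eP M).symm w

theorem toT_ofT (M : ModuleCat.{u} B) (w : B[X] ⊗[B] M) : toT M (ofT M w) = w := (eP M).apply_symm_apply w

theorem ofT_toT (M : ModuleCat.{u} B) (z : extP M) : ofT M (toT M z) = z := (eP M).symm_apply_apply _

theorem toT_injective (M : ModuleCat.{u} B) : Function.Injective (toT M) :=
  Function.LeftInverse.injective (ofT_toT M)

theorem ofT_add (M : ModuleCat.{u} B) (v w : B[X] ⊗[B] M) : ofT M (v + w) = ofT M v + ofT M w := map_add (eP M).symm v w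

theorem ofT_zero (M : ModuleCat.{u} B) : ofT M 0 = 0 := map_zero (eP M).symm

theorem toT_add (M : ModuleCat.{u} B) (x y : extP M) : toT M (x + y) = toT M x + toT M y := map_add (eP M) _ _

theorem toT_zero (M : ModuleCat.{u} B) : toT M 0 = 0 := map_zero (eP M)

theorem toT_sub (M : ModuleCat.{u} B) (x y : extP M) : toT M (x - y) = toT M x - toT M y := map_sub (eP M) _ _

theorem extP_induction (M : ModuleCat.{u} B) {P : extP M → Prop} (h0 : P 0)
    (ht : ∀ p m, P (ofT M (p ⊗ₜ m))) (ha : ∀ x y, P x → P y → P (x + y)) (z : extP M) : P z := by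
  rw [← ofT_toT M z]
  induction toT M z using TensorProduct.induction_on with
  | zero => rw [ofT_zero]; exact h0
  | tmul p m => exact ht p m
  | add v w hv hw => rw [ofT_add]; exact ha _ _ hv hw

theorem eP_smul (M : ModuleCat.{u} B) (p : B[X]) (z : extP M) :
    toT M (p • z) = (LinearMap.mulLeft B p).rTensor M (toT M z) := by
  induction z using extP_induction M with
  | h0 => rw [smul_zero, toT_zero, map_zero]
  | ht q m => rfl
  | ha x y hx hy => rw [smul_add, toT_add, hx, hy, toT_add, map_add]

theorem counit_tmul (N : ModuleCat.{u} B[X]) (p : B[X]) (v : (ModuleCat.restrictScalars.{u} φ).obj N) :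
    ((ModuleCat.extendRestrictScalarsAdj.{u, u, u} φ).counit.app N).hom
      ((eP ((ModuleCat.restrictScalars.{u} φ).obj N)).symm (p ⊗ₜ v)) = p • (show N from v) := rfl

theorem adj_tmul (M : ModuleCat.{u} B) (N : ModuleCat.{u} B[X])
    (g : M ⟶ (ModuleCat.restrictScalars.{u} φ).obj N) (p : B[X]) (m : M) :
    (((ModuleCat.extendRestrictScalarsAdj.{u, u, u} φ).homEquiv M N).symm g).hom ((eP M).symm (p ⊗ₜ m)) =
      p • (show N from g.hom m) := rfl

section Res

variable {f : B[X]} (hf : f.Monic)

local notation "π" => AdjoinRoot.mk f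
local notation "φ₀" => algebraMap B (AdjoinRoot f)

/-- Coinduction to the finite free algebra, seen over the polynomial ring. -/
abbrev coP : ModuleCat.{u} B ⥤ ModuleCat.{u} B[X] :=
  ModuleCat.coextendScalars.{u, u, u} φ₀ ⋙ ModuleCat.restrictScalars.{u} π

/-- A linear map as an element of the coinduced module. -/
def toCo (M : ModuleCat.{u} B) (g : AdjoinRoot f →ₗ[B] M) : (ModuleCat.coextendScalars.{u, u, u} φ₀).obj M :=
  (ModuleCat.CoextendScalars.equiv φ₀ M).symm
    { toFun := fun c => g (show AdjoinRoot f from c)
      map_add' := fun c c' => map_add g _ _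
      map_smul' := fun b c => by
        show g (φ₀ b * (show AdjoinRoot f from c)) = b • g c
        rw [← Algebra.smul_def]
        exact map_smul g b _ }

/-- An element of the coinduced module as a linear map. -/
def ofCo (M : ModuleCat.{u} B) (x : (ModuleCat.coextendScalars.{u, u, u} φ₀).obj M) : AdjoinRoot f →ₗ[B] M where
  toFun c := ModuleCat.CoextendScalars.equiv φ₀ M x c
  map_add' c c' := map_add (ModuleCat.CoextendScalars.equiv φ₀ M x) c c'
  map_smul' b c :=
    (congrArg (fun d : AdjoinRoot f => ModuleCat.CoextendScalars.equiv φ₀ M x d) (Algebra.smul_def b c)).trans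
      ((ModuleCat.CoextendScalars.equiv φ₀ M x).map_smul' b
        (show (ModuleCat.restrictScalars.{u} φ₀).obj (ModuleCat.of _ (AdjoinRoot f)) from c))

theorem ofCo_toCo (M : ModuleCat.{u} B) (g : AdjoinRoot f →ₗ[B] M) : ofCo M (toCo M g) = g := rfl

theorem ofCo_injective (M : ModuleCat.{u} B) : Function.Injective (ofCo (f := f) M) := fun x y h =>
  ModuleCat.CoextendScalars.ext (LinearMap.ext fun c => congr($h c))

/-- The transpose of the residue map. -/
def resU (M : ModuleCat.{u} B) : M ⟶ (ModuleCat.restrictScalars.{u} φ).obj ((coP (f := f)).obj M) :=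
  ModuleCat.ofHom
    (Y := ((ModuleCat.restrictScalars.{u} φ).obj ((coP (f := f)).obj M) : Type u))
    { toFun := fun m => toCo M ((res hf).smulRight m)
      map_add' := fun m m' => ofCo_injective M (LinearMap.ext fun c => smul_add (res hf c) m m')
      map_smul' := fun b m => ofCo_injective M (LinearMap.ext fun c => by
        show res hf c • b • m = res hf ((show AdjoinRoot f from c) * π (φ b)) • m
        rw [smul_smul, Polynomial.algebraMap_eq, AdjoinRoot.mk_C, mul_comm c, ← AdjoinRoot.algebraMap_eq,
          ← Algebra.smul_def, map_smul, smul_eq_mul, mul_comm]) }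

theorem resU_naturality {M M' : ModuleCat.{u} B} (g : M ⟶ M') :
    g ≫ resU hf M' = resU hf M ≫ (ModuleCat.restrictScalars.{u} φ).map ((coP (f := f)).map g) :=
  ModuleCat.hom_ext (LinearMap.ext fun m => ofCo_injective M' (LinearMap.ext fun c => (map_smul g.hom _ m).symm))

/-- The residue map. -/
def qNat : ModuleCat.extendScalars.{u, u, u} φ ⟶ coP (f := f) where
  app M := ((ModuleCat.extendRestrictScalarsAdj.{u, u, u} φ).homEquiv M _).symm (resU hf M)
  naturality M M' g := by
    rw [← (ModuleCat.extendRestrictScalarsAdj.{u, u, u} φ).homEquiv_naturality_left_symm,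
      ← (ModuleCat.extendRestrictScalarsAdj.{u, u, u} φ).homEquiv_naturality_right_symm, resU_naturality]

/-- Multiplication by the polynomial. -/
def fNat (f : B[X]) : ModuleCat.extendScalars.{u, u, u} φ ⟶ ModuleCat.extendScalars.{u, u, u} φ where
  app M := f • 𝟙 _
  naturality M M' g := by simp

theorem ofCo_q (M : ModuleCat.{u} B) (z : extP M) :
    ofCo M (((qNat hf).app M).hom z) = resQ hf M (toT M z) := by
  induction z using extP_induction M with
  | h0 => rw [toT_zero, map_zero, map_zero]; rfl
  | ht q m => exact LinearMap.ext fun c => rfl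
  | ha x y hx hy =>
    rw [toT_add, map_add, map_add, ← hx, ← hy]
    rfl

/-- The section of the residue map. -/
def sApp (M : ModuleCat.{u} B) :
    (ModuleCat.restrictScalars.{u} φ).obj ((coP (f := f)).obj M) ⟶ (ModuleCat.restrictScalars.{u} φ).obj (extP M) :=
  ModuleCat.ofHom
    (X := ((ModuleCat.restrictScalars.{u} φ).obj ((coP (f := f)).obj M) : Type u))
    (Y := ((ModuleCat.restrictScalars.{u} φ).obj (extP M) : Type u))
    { toFun := fun x => (eP M).symm (resS M (ofCo M x))
      map_add' := fun x y => by
        rw [show ofCo M (show (ModuleCat.coextendScalars.{u, u, u} φ₀).obj M from x + y) = ofCo M x + ofCo M y from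
          LinearMap.ext fun c => rfl, map_add, map_add]
      map_smul' := fun b x => by
        refine (congrArg (fun g => (eP M).symm (resS M g)) (show ofCo M _ = b • ofCo M x from ?_)).trans
          (by rw [map_smul, map_smul]; rfl)
        refine LinearMap.ext fun c => ?_
        show ofCo M x (c * π (φ b)) = b • ofCo M x c
        rw [Polynomial.algebraMap_eq, AdjoinRoot.mk_C, mul_comm, ← AdjoinRoot.algebraMap_eq, ← Algebra.smul_def,
          map_smul] }

/-- The section is natural. -/
def sNat : coP (f := f) ⋙ ModuleCat.restrictScalars.{u} φ ⟶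
    ModuleCat.extendScalars.{u, u, u} φ ⋙ ModuleCat.restrictScalars.{u} φ where
  app := sApp
  naturality M M' g := ModuleCat.hom_ext (LinearMap.ext fun x => (eP M').injective (by
    show eP M' ((eP M').symm (resS M' (g.hom.comp (ofCo M x)))) =
      toT M' (((ModuleCat.extendScalars.{u, u, u} φ).map g).hom (ofT M (resS M (ofCo M x))))
    rw [LinearEquiv.apply_symm_apply, resS_apply, resS_apply]

    induction (Finset.range f.natDegree) using Finset.induction_on with
    | empty => simp [ofT_zero, toT_zero]
    | insert k t hk ih =>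
      rw [Finset.sum_insert hk, Finset.sum_insert hk, ofT_add, map_add, toT_add, ← ih]
      rfl))

theorem sApp_q (M : ModuleCat.{u} B) :
    sApp (f := f) M ≫ (ModuleCat.restrictScalars.{u} φ).map ((qNat hf).app M) = 𝟙 _ :=
  ModuleCat.hom_ext (LinearMap.ext fun x => ofCo_injective M (by
    refine (ofCo_q hf M (ofT M (resS M (ofCo M x)))).trans ?_
    rw [toT_ofT, resQ_resS]
    rfl))

theorem f_comp_q (M : ModuleCat.{u} B) : (fNat f).app M ≫ (qNat hf).app M = 0 :=
  ModuleCat.hom_ext (LinearMap.ext fun z => ofCo_injective M (by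
    refine (ofCo_q hf M (f • z)).trans ?_
    rw [eP_smul, resQ_mul]
    rfl))

/-- The residue sequence is short exact. -/
theorem shortExact_res (M : ModuleCat.{u} B) :
    (ShortComplex.mk ((fNat f).app M) ((qNat hf).app M) (f_comp_q hf M)).ShortExact where
  exact := by
    rw [ShortComplex.moduleCat_exact_iff]
    intro z hz
    obtain ⟨w, hw⟩ := sub_resS_mem hf M (toT M z)
    have h0 : resQ hf M (toT M z) = 0 := by
      rw [← ofCo_q hf M z]
      exact (congrArg (ofCo M) hz).trans (LinearMap.ext fun c => rfl)
    rw [h0, map_zero, sub_zero] at hw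
    refine ⟨ofT M w, toT_injective M ?_⟩
    refine (eP_smul M f _).trans ?_
    rw [show (ModuleCat.Hom.hom (𝟙 ((ModuleCat.extendScalars.{u, u, u} φ).obj M))) (ofT M w) = ofT M w from rfl,
      toT_ofT, hw]
  mono_f := (ModuleCat.mono_iff_injective _).2 fun x y h => toT_injective M (injective_mul hf M (by
    rw [← eP_smul, ← eP_smul]
    exact congrArg (toT M) h))
  epi_g := (ModuleCat.epi_iff_surjective _).2 fun x => ⟨_, congr($(sApp_q hf M) x)⟩

end Res

section Char

/-- The action of the variable. -/
def actX (N : ModuleCat.{u} B[X]) :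
    (ModuleCat.restrictScalars.{u} φ).obj N ⟶ (ModuleCat.restrictScalars.{u} φ).obj N :=
  (ModuleCat.restrictScalars.{u} φ).map ((Polynomial.X : B[X]) • 𝟙 N)

/-- The characteristic map. -/
def chiNat : ModuleCat.restrictScalars.{u} φ ⋙ ModuleCat.extendScalars.{u, u, u} φ ⟶
    ModuleCat.restrictScalars.{u} φ ⋙ ModuleCat.extendScalars.{u, u, u} φ where
  app N := (Polynomial.X : B[X]) • 𝟙 _ - (ModuleCat.extendScalars.{u, u, u} φ).map (actX N)
  naturality N N' g := by
    have h : (ModuleCat.restrictScalars.{u} φ).map g ≫ actX N' = actX N ≫ (ModuleCat.restrictScalars.{u} φ).map g := by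
      rw [actX, actX, ← Functor.map_comp, ← Functor.map_comp, Linear.comp_smul, Linear.smul_comp, Category.id_comp,
        Category.comp_id]
    let G := (ModuleCat.restrictScalars.{u} φ).map g
    show (ModuleCat.extendScalars.{u, u, u} φ).map G ≫
        ((Polynomial.X : B[X]) • 𝟙 _ - (ModuleCat.extendScalars.{u, u, u} φ).map (actX N')) =
      ((Polynomial.X : B[X]) • 𝟙 _ - (ModuleCat.extendScalars.{u, u, u} φ).map (actX N)) ≫
        (ModuleCat.extendScalars.{u, u, u} φ).map G
    rw [Preadditive.comp_sub, Preadditive.sub_comp, Linear.comp_smul, Linear.smul_comp, Category.comp_id,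
      Category.id_comp, ← Functor.map_comp, ← Functor.map_comp, h]

/-- The evaluation. -/
def evNat : ModuleCat.restrictScalars.{u} φ ⋙ ModuleCat.extendScalars.{u, u, u} φ ⟶ 𝟭 (ModuleCat.{u} B[X]) :=
  (ModuleCat.extendRestrictScalarsAdj.{u, u, u} φ).counit

theorem eP_chi (N : ModuleCat.{u} B[X]) (z : extP ((ModuleCat.restrictScalars.{u} φ).obj N)) :
    toT _ ((chiNat.app N).hom z) = charChi _ (actX N).hom (toT _ z) := by
  refine (toT_sub ((ModuleCat.restrictScalars.{u} φ).obj N) ((Polynomial.X : B[X]) • z) _).trans ?_
  refine congrArg₂ (· - ·) (eP_smul _ _ z) ?_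
  induction z using extP_induction ((ModuleCat.restrictScalars.{u} φ).obj N) with
  | h0 => rw [toT_zero, map_zero, map_zero]; exact toT_zero _
  | ht q m => rfl
  | ha x y hx hy =>
    rw [map_add, toT_add, toT_add, map_add, hx, hy]

theorem chi_comp_ev (N : ModuleCat.{u} B[X]) : chiNat.app N ≫ evNat.app N = 0 := by
  refine ModuleCat.ExtendScalars.hom_ext fun m => ?_
  show (evNat.app N).hom ((chiNat.app N).hom _) = 0
  refine (map_sub (evNat.app N).hom _ _).trans (sub_eq_zero.2 ?_)
  refine (map_smul (evNat.app N).hom (Polynomial.X : B[X]) (ofT _ ((1 : B[X]) ⊗ₜ m))).trans ?_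
  show (Polynomial.X : B[X]) • ((1 : B[X]) • (show N from m)) = (1 : B[X]) • (Polynomial.X : B[X]) • (show N from m)
  rw [one_smul, one_smul]

/-- The characteristic sequence is short exact. -/
theorem shortExact_char (N : ModuleCat.{u} B[X]) :
    (ShortComplex.mk (chiNat.app N) (evNat.app N) (chi_comp_ev N)).ShortExact := by
  let V := (ModuleCat.restrictScalars.{u} φ).obj N
  let a : V →ₗ[B] V := (actX N).hom
  let ev : B[X] ⊗[B] V →ₗ[B] V :=
    (((ModuleCat.restrictScalars.{u} φ).map (evNat.app N)).hom).comp (eP V).symm.toLinearMap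
  have hev : ∀ p v, ev (p ⊗ₜ v) = (show V from p • (show N from v)) := fun p v => rfl
  have hh := charChi_charR V a ev (fun v => (hev 1 v).trans (one_smul B[X] (show N from v))) fun i v => by
    rw [hev, hev]
    show (Polynomial.X ^ (i + 1) : B[X]) • (show N from v) = (Polynomial.X ^ i : B[X]) • (Polynomial.X : B[X]) • (show N from v)
    rw [smul_smul, ← pow_succ]
  exact
  { exact := by
      rw [ShortComplex.moduleCat_exact_iff]
      intro z hz
      refine ⟨ofT V (charR V a (toT V z)), toT_injective V ?_⟩
      refine (eP_chi N _).trans ?_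
      rw [toT_ofT]
      have h := congr($hh (toT V z))
      have h0 : ev (toT V z) = 0 := by
        show (evNat.app N).hom (ofT V (toT V z)) = 0
        rw [ofT_toT]
        exact hz
      rw [LinearMap.add_apply, LinearMap.comp_apply, LinearMap.comp_apply, h0, map_zero, add_zero] at h
      exact h
    mono_f := (ModuleCat.mono_iff_injective _).2 fun x y h => toT_injective V (by
      have h' := congrArg (charR V a) (((eP_chi N x).symm.trans (congrArg (toT V) h)).trans (eP_chi N y))
      rwa [← LinearMap.comp_apply, ← LinearMap.comp_apply, charR_charChi] at h')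
    epi_g := (ModuleCat.epi_iff_surjective _).2 fun v => ⟨ofT V (1 ⊗ₜ v),
      (hev 1 v).trans (one_smul B[X] (show N from v))⟩ }

end Char

end ShriekRingLib
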