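import Groth.Agent.DTenLib.RhomBC
import Groth.Agent.DTenLib.RelTensor
import Groth.Agent.DualCxLib.Biduality
import Groth.Agent.ShriekRingLib.RegularQuot

/-!
# The derived projection formula
-/

set_option autoImplicit false
set_option linter.all false
set_option maxHeartbeats 800000

universe u

open CategoryTheory CategoryTheory.Limits MonoidalCategory HomologicalComplex
attribute [local instance] HasDerivedCategory.standard

noncomputable section

namespace ShriekRingLib

open DTen DTenLib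

variable {R R' : Type u} [CommRing R] [CommRing R'] (φ : R →+* R')

theorem isIso_resTen₂_map {X Y : DRing.Cx R' × DRing.Cx R'} (f : X ⟶ Y) (h1 : QuasiIso f.1)
    (h2 : QuasiIso f.2) (hX : KF X.2) (hY : KF Y.1) : IsIso ((resTen₂ φ).map f) := by
  haveI : IsIso ((tensor₂ R').map f) := isIso_tensor₂_map f h1 h2 (Or.inl ⟨hX, hY⟩)
  haveI h : QuasiIso ((tensorT R').map f) :=
    (DerivedCategory.isIso_Q_map_iff_quasiIso (C := ModuleCat.{u} R') _).1
      (inferInstanceAs (IsIso ((tensor₂ R').map f)))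
  haveI : QuasiIso ((resCx φ).map ((tensorT R').map f)) :=
    (quasiIso_map_iff_of_preservesHomology _ (ModuleCat.restrictScalars.{u} φ)).2 h
  exact isIso_Q_map ((resCx φ).map ((tensorT R').map f)) inferInstance

theorem inverted_resTen₂ : (qis₂ R').IsInvertedBy (res₂ R' ⋙ resTen₂ φ) := fun X Y f hf =>
  isIso_resTen₂_map φ ((res₂ R').map f) (quasiIso_res_map f.1 hf.1) (quasiIso_res_map f.2 hf.2)
    (kf_resP _) (kf_resP _)

theorem exists_derivedResTen : ∃ (G : Dual.D R' × Dual.D R' ⥤ Dual.D R) (α : QQ R' ⋙ G ⟶ resTen₂ φ),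
    G.IsRightKanExtension α ∧ ∀ K L : DRing.Cx R', KF K → IsIso (α.app (K, L)) := by
  have := KFlatLib.isRightKanExtension_derivedOfRes (QQ R') (qis₂ R') (resTen₂ φ) (res₂ R') (resψ₂ R')
    qis₂_resψ₂ (fun X => isIso_resTen₂_map φ _ (Groth.Agent.DRingLib.quasiIso_resψ _) (Groth.Agent.DRingLib.quasiIso_resψ _) (kf_resP _) (kf_resP _))
    (inverted_resTen₂ φ)
  refine ⟨_, KFlatLib.derivedOfResα (QQ R') (qis₂ R') (resTen₂ φ) (res₂ R') (resψ₂ R') (inverted_resTen₂ φ),
    this, fun K L hK => ?_⟩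
  rw [KFlatLib.derivedOfResα_app]
  have := isIso_resTen₂_map φ ((resψ₂ R').app (K, L)) (Groth.Agent.DRingLib.quasiIso_resψ _) (Groth.Agent.DRingLib.quasiIso_resψ _) (kf_resP _) hK
  exact @IsIso.comp_isIso _ _ _ _ _ _ _
    (inferInstanceAs (IsIso ((Localization.fac _ (inverted_resTen₂ φ) (QQ R')).app (K, L)).hom)) this

theorem hasResTen : HasResTen φ := by
  obtain ⟨G, α, hG, -⟩ := exists_derivedResTen φ
  exact (Functor.hasLeftDerivedFunctor_iff (resTen₂ φ) (QQ R') (qis₂ R')).2
    (Functor.HasRightKanExtension.mk G α)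

theorem isIso_εRes [HasResTen φ] (K L : DRing.Cx R') (hK : KF K) : IsIso ((εRes φ).app (K, L)) := by
  obtain ⟨G, α, hG, hiso⟩ := exists_derivedResTen φ
  have := hiso K L hK
  have h' : (ResTen φ).IsRightKanExtension (εRes φ) :=
    Functor.IsLeftDerivedFunctor.isRightKanExtension _ _ (qis₂ R')
  exact KFlatLib.isIso_app_of_isRightKanExtension _ G _ α _

theorem resLegIso [HasLTen R'] [HasResTen φ] : ResLegIso φ where
  isIso := by
    have : ∀ X, IsIso ((resLegB φ).app X) := fun X => by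
      obtain ⟨P, hP, ⟨e₁⟩⟩ := exists_kf_rep X.1
      obtain ⟨Q, -, ⟨e₂⟩⟩ := exists_kf_rep X.2
      haveI := isIso_εRes φ P Q hP
      haveI := isIso_ε (A := R') P Q (Or.inl hP)
      have h : IsIso ((resβB φ).app (P, Q)) := by
        show IsIso ((DRing.restrictD φ).map _ ≫ _)
        infer_instance
      rw [← resLegB_fac] at h
      haveI : IsIso ((resLegB φ).app ((QQ R').obj (P, Q))) :=
        IsIso.of_isIso_comp_right _ ((εRes φ).app (P, Q))
      exact DTenLib.isIso_app_of_iso (resLegB φ) (X := (QQ R').obj (P, Q)) (Iso.prod e₁ e₂)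
    exact NatIso.isIso_of_isIso_app _

variable [HasLTen R] [HasLTen R'] [HasLBase φ] [HasResTen φ] [ResLegIso φ]

theorem projPF_naturality {E E' : Dual.D R'} {K K' : Dual.D R} (f : E ⟶ E') (g : K ⟶ K') :
    (LTen₂ R).map (Prod.mkHom ((DRing.restrictD φ).map f) g) ≫ projPF φ E' K' =
      projPF φ E K ≫ (DRing.restrictD φ).map ((LTen₂ R').map (Prod.mkHom f ((LBase φ).map g))) := by
  have h1 : Prod.mkHom ((DRing.restrictD φ).map f) g ≫ Prod.mkHom (𝟙 _) ((baseAdj φ).unit.app K') =
      Prod.mkHom (𝟙 _) ((baseAdj φ).unit.app K) ≫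
        Prod.mkHom ((DRing.restrictD φ).map f) ((DRing.restrictD φ).map ((LBase φ).map g)) :=
    Prod.ext ((Category.comp_id _).trans (Category.id_comp _).symm) ((baseAdj φ).unit.naturality g)
  rw [projPF, projPF, ← Functor.map_comp_assoc, h1, Functor.map_comp_assoc, Category.assoc]
  exact congrArg _ ((resPF φ).naturality (Prod.mkHom f ((LBase φ).map g)))

theorem projPF_rep (C : DRing.Cx R') (P : DRing.Cx R) :
    projPF φ (DRing.toD C) (DRing.toD P) ≫ (DRing.restrictD φ).map
        ((LTen₂ R').map (Prod.mkHom (𝟙 (DRing.toD C)) ((baseCmp φ).app P)) ≫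
          (ε R').app (C, (extCx φ).obj P)) =
      (LTen₂ R).map (Prod.mkHom ((resFactors φ).hom.app C) (𝟙 (DRing.toD P))) ≫
        (ε R).app ((resCx φ).obj C, P) ≫ DerivedCategory.Q.map (prCx φ C P) ≫
          (resFactors φ).inv.app (C ⊗ (extCx φ).obj P) := by
  have hn : (resPF φ).app (DRing.toD C, (LBase φ).obj (DRing.toD P)) ≫
      (DRing.restrictD φ).map ((LTen₂ R').map (Prod.mkHom (𝟙 (DRing.toD C)) ((baseCmp φ).app P))) =
      (LTen₂ R).map (Prod.mkHom ((DRing.restrictD φ).map (𝟙 (DRing.toD C))) ((DRing.restrictD φ).map ((baseCmp φ).app P))) ≫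
        (resPF φ).app ((QQ R').obj (C, (extCx φ).obj P)) :=
    ((resPF φ).naturality (Prod.mkHom (𝟙 (DRing.toD C)) ((baseCmp φ).app P))).symm
  have hf : (resPF φ).app ((QQ R').obj (C, (extCx φ).obj P)) ≫
      (DRing.restrictD φ).map ((ε R').app (C, (extCx φ).obj P)) =
      (resβA φ).app (C, (extCx φ).obj P) ≫ (resFactors φ).inv.app (C ⊗ (extCx φ).obj P) := by
    rw [← resPF_fac, Category.assoc]
    refine congrArg _ ?_
    show _ = ((DRing.restrictD φ).map _ ≫ (resFactors φ).hom.app _) ≫ _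
    rw [Category.assoc]
    exact ((congrArg _ ((resFactors φ).hom_inv_id_app _)).trans (Category.comp_id _)).symm
  have hγ : (baseAdj φ).unit.app (DRing.toD P) ≫ (DRing.restrictD φ).map ((baseCmp φ).app P) ≫
        (resFactors φ).hom.app ((extCx φ).obj P) = DerivedCategory.Q.map ((unitCx φ).app P) := by
    rw [← Category.assoc]
    refine (congrArg (· ≫ _) (baseCmp_fac φ P)).trans ?_
    show (DerivedCategory.Q.map _ ≫ _) ≫ _ = _
    rw [Category.assoc]
    exact (congrArg _ ((resFactors φ).inv_hom_id_app _)).trans (Category.comp_id _)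
  have hε : (LTen₂ R).map (Prod.mkHom (𝟙 (DRing.toD ((resCx φ).obj C)))
        (DerivedCategory.Q.map ((unitCx φ).app P))) ≫
      (ε R).app ((resCx φ).obj C, (resCx φ).obj ((extCx φ).obj P)) =
      (ε R).app ((resCx φ).obj C, P) ≫ DerivedCategory.Q.map (𝟙 ((resCx φ).obj C) ⊗ₘ (unitCx φ).app P) := by
    have h := (ε R).naturality (Prod.mkHom (𝟙 ((resCx φ).obj C)) ((unitCx φ).app P))
    rw [MonoidalCategory.tensorHom_def]
    refine Eq.trans (congrArg (fun t => t ≫ _) ?_) h
    exact congrArg (LTen₂ R).map (Prod.ext (DerivedCategory.Q.map_id _).symm rfl)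
  rw [projPF, Functor.map_comp, Category.assoc, reassoc_of% hn, hf]
  have hA : (resβA φ).app (C, (extCx φ).obj P) =
      (LTen₂ R).map (Prod.mkHom ((resFactors φ).hom.app C) ((resFactors φ).hom.app ((extCx φ).obj P))) ≫
        (ε R).app ((resCx φ).obj C, (resCx φ).obj ((extCx φ).obj P)) ≫
          DerivedCategory.Q.map (resTenCx φ C ((extCx φ).obj P)) := rfl
  rw [hA, Category.assoc, Category.assoc, ← Functor.map_comp_assoc, ← Functor.map_comp_assoc]
  rw [show (Prod.mkHom (𝟙 ((DRing.restrictD φ).obj (DRing.toD C))) ((baseAdj φ).unit.app (DRing.toD P)) ≫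
      Prod.mkHom ((DRing.restrictD φ).map (𝟙 (DRing.toD C))) ((DRing.restrictD φ).map ((baseCmp φ).app P))) ≫
      Prod.mkHom ((resFactors φ).hom.app C) ((resFactors φ).hom.app ((extCx φ).obj P)) =
      Prod.mkHom ((resFactors φ).hom.app C) (𝟙 (DRing.toD P)) ≫
        Prod.mkHom (𝟙 (DRing.toD ((resCx φ).obj C))) (DerivedCategory.Q.map ((unitCx φ).app P)) from
    Prod.ext (by
      show (𝟙 _ ≫ (DRing.restrictD φ).map (𝟙 _)) ≫ _ = _ ≫ 𝟙 _
      rw [Category.id_comp, CategoryTheory.Functor.map_id, Category.comp_id]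
      exact Category.id_comp _) ((Category.assoc _ _ _).trans (hγ.trans (Category.id_comp _).symm))]
  rw [Functor.map_comp_assoc, reassoc_of% hε, prCx, Functor.map_comp, Category.assoc]

theorem isIso_projPF (E : Dual.D R') (K : Dual.D R) : IsIso (projPF φ E K) := by
  obtain ⟨C, -, ⟨eE⟩⟩ := exists_kf_rep E
  obtain ⟨P, hP, ⟨eK⟩⟩ := exists_kf_rep K
  haveI h0 : IsIso (projPF φ (DRing.toD C) (DRing.toD P)) := by
    haveI := isIso_baseCmp φ hP
    haveI := isIso_ε (A := R') C ((extCx φ).obj P) (Or.inr (KFlatLib.isKFlat_extend φ hP))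
    haveI := isIso_ε (A := R) ((resCx φ).obj C) P (Or.inr hP)
    haveI := DTenLib.isIso_prCx φ C P
    haveI : IsIso (Prod.mkHom (𝟙 (DRing.toD C)) ((baseCmp φ).app P)) :=
      (isIso_prod_iff _ _).2 ⟨inferInstance, inferInstance⟩
    haveI : IsIso (Prod.mkHom ((resFactors φ).hom.app C) (𝟙 (DRing.toD P))) :=
      (isIso_prod_iff _ _).2 ⟨inferInstance, inferInstance⟩
    have h := projPF_rep φ C P
    have : IsIso (projPF φ (DRing.toD C) (DRing.toD P) ≫ (DRing.restrictD φ).map
        ((LTen₂ R').map (Prod.mkHom (𝟙 (DRing.toD C)) ((baseCmp φ).app P)) ≫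
          (ε R').app (C, (extCx φ).obj P))) := by
      rw [h]
      infer_instance
    exact IsIso.of_isIso_comp_right _ ((DRing.restrictD φ).map
      ((LTen₂ R').map (Prod.mkHom (𝟙 (DRing.toD C)) ((baseCmp φ).app P)) ≫ (ε R').app (C, (extCx φ).obj P)))
  haveI : IsIso (Prod.mkHom ((DRing.restrictD φ).map eE.hom) eK.hom) :=
    (isIso_prod_iff _ _).2 ⟨inferInstance, inferInstance⟩
  haveI : IsIso (Prod.mkHom eE.hom ((LBase φ).map eK.hom)) :=
    (isIso_prod_iff _ _).2 ⟨inferInstance, inferInstance⟩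
  have h := projPF_naturality φ eE.hom eK.hom
  have : IsIso ((LTen₂ R).map (Prod.mkHom ((DRing.restrictD φ).map eE.hom) eK.hom) ≫ projPF φ E K) := by
    rw [h]
    infer_instance
  exact IsIso.of_isIso_comp_left ((LTen₂ R).map (Prod.mkHom ((DRing.restrictD φ).map eE.hom) eK.hom)) _

/-- The projection formula, naturally in the object over the bigger ring. -/
def projNatIso (K : Dual.D R) :
    DRing.restrictD φ ⋙ tensorRightD R K ≅ tensorRightD R' ((LBase φ).obj K) ⋙ DRing.restrictD φ :=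
  NatIso.ofComponents (fun E => haveI := isIso_projPF φ E K; asIso (projPF φ E K)) fun {E E'} f => by
    have h := projPF_naturality φ f (𝟙 K)
    rw [CategoryTheory.Functor.map_id] at h
    exact h

end ShriekRingLib

end
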